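import Cfsg.Agent.Lib.LevCover.Conj

/-!
Products of two conjugates in a prescribed cyclic class: the block constructions.
-/

set_option autoImplicit false

namespace Cfsg.Agent.LevCover

open Module Polynomial Cfsg.Agent.GL.TwoReg

universe u

variable {K : Type u} [Field K] {V : Type u} [AddCommGroup V] [Module K V] [FiniteDimensional K V]

/-- Every element of the cyclic class of `p` is a product of two conjugates of `A`. -/
def TwoProd (A : End K V) (p : K[X]) : Prop :=
  ∀ x : End K V, CycTy x p → ∃ a b, SConj A a ∧ SConj A b ∧ x = a * b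

/-- Spreading a single product over its class. -/
theorem twoProd_of_one {A : End K V} {p : K[X]} {a b : End K V} (ha : SConj A a) (hb : SConj A b)
    (hab : CycTy (a * b) p) (hfull : FullDet (a * b)) : TwoProd A p := by
  intro x hx
  obtain ⟨e, he, rfl⟩ := hfull.sconj (hab.sim hx)
  refine ⟨e.conj a, e.conj b, sconj_conj e he ha, sconj_conj e he hb, LinearMap.ext fun z => ?_⟩
  simp [LinearEquiv.conj_apply_apply, Module.End.mul_apply]

omit [FiniteDimensional K V] in
theorem sconj_transport {W : Type u} [AddCommGroup W] [Module K W] (e : W ≃ₗ[K] V) {A x : End K W}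
    (h : SConj A x) : SConj (e.conj A) (e.conj x) := by
  obtain ⟨f, hf, rfl⟩ := h
  refine ⟨e.symm.trans (f.trans e), ?_, ?_⟩
  · rw [← hf]
    exact LinearMap.det_conj (f : W →ₗ[K] W) e
  · refine LinearMap.ext fun z => ?_
    simp [LinearEquiv.conj_apply_apply]

/-- A pair in a model space gives the class in `V`. -/
theorem twoProd_of_model {W : Type u} [AddCommGroup W] [Module K W] [FiniteDimensional K W] {A : End K V}
    {p : K[X]} (e : W ≃ₗ[K] V) {A₀ a b : End K W} (hA : ∀ z, e (A₀ z) = A (e z)) (ha : SConj A₀ a)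
    (hb : SConj A₀ b) (hab : CycTy (a * b) p) (hfull : FullDet (a * b)) : TwoProd A p := by
  obtain rfl := Sim.eq_conj hA
  have hmul : e.conj a * e.conj b = e.conj (a * b) :=
    LinearMap.ext fun z => by simp [LinearEquiv.conj_apply_apply, Module.End.mul_apply]
  exact twoProd_of_one (sconj_transport e ha) (sconj_transport e hb) (hmul ▸ hab.of_sim (sim_conj e _))
    (hmul ▸ hfull.of_sim (sim_conj e _))

theorem isUnit_of_det_ne {A : End K V} (h : LinearMap.det A ≠ 0) : IsUnit A :=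
  (LinearMap.isUnit_iff_isUnit_det A).2 (isUnit_iff_ne_zero.2 h)

/-- An endomorphism with non-zero determinant as an automorphism. -/
theorem exists_equiv_of_det {A : End K V} (h : LinearMap.det A ≠ 0) :
    ∃ e : V ≃ₗ[K] V, (e : V →ₗ[K] V) = A := by
  have hinj : Function.Injective A := by
    apply LinearMap.ker_eq_bot.1
    by_contra hk
    exact h (LinearMap.det_eq_zero_iff_ker_ne_bot.2 hk)
  exact ⟨LinearEquiv.ofBijective A ⟨hinj, LinearMap.surjective_of_injective hinj⟩, rfl⟩

variable {U : Type u} [AddCommGroup U] [Module K U] [FiniteDimensional K U]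

/-- The swap `(u, v) ↦ (v, -u)` has determinant one. -/
theorem exists_swap : ∃ J : (U × U) ≃ₗ[K] (U × U), LinearMap.det (J : (U × U) →ₗ[K] U × U) = 1 ∧
    ∀ u v, J (u, v) = (v, -u) := by
  have hl : LinearMap.det (lower (1 : End K U) (-1 : End K U) (1 : End K U)) = 1 := by
    rw [Sim.det_eq (f := upper (1 : End K U) (-1 : End K U) (1 : End K U))
      ⟨LinearEquiv.prodComm K U U, fun ⟨u, v⟩ => by simp [add_comm]⟩, det_upper, map_one, one_mul]
  obtain ⟨J, hJ⟩ := exists_equiv_of_det (A := upper (1 : End K U) (1 : End K U) (1 : End K U) *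
      (lower (1 : End K U) (-1 : End K U) (1 : End K U) * upper (1 : End K U) (1 : End K U) (1 : End K U)))
    (by rw [map_mul, map_mul, hl, det_upper, map_one]; simp)
  refine ⟨J, by rw [hJ, map_mul, map_mul, hl, det_upper, map_one]; simp, fun u v => ?_⟩
  rw [show J (u, v) = (J : (U × U) →ₗ[K] U × U) (u, v) from rfl, hJ]
  simp

/-- The map `(u, v) ↦ (P v, - S u)`. -/
theorem exists_tau (P S : U ≃ₗ[K] U) : ∃ τ : (U × U) ≃ₗ[K] (U × U),
    LinearMap.det (τ : (U × U) →ₗ[K] U × U) = LinearMap.det (P : End K U) * LinearMap.det (S : End K U) ∧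
    (∀ u v, τ (u, v) = (P v, -S u)) := by
  obtain ⟨J, hJ, hJa⟩ := exists_swap (K := K) (U := U)
  refine ⟨J.trans (P.prodCongr S), ?_, fun u v => by simp [hJa]⟩
  rw [det_trans, hJ, one_mul, show ((P.prodCongr S : (U × U) ≃ₗ[K] (U × U)) : (U × U) →ₗ[K] U × U) =
    upper (P : End K U) 0 (S : End K U) from LinearMap.ext fun ⟨u, v⟩ => by simp, det_upper]

/-- `Z = X S X S⁻¹` can be kept non-scalar with any determinant of `S`. -/
theorem exists_twist (hU : 2 ≤ finrank K U) {X : End K U} (hX : NS X) (hXd : LinearMap.det X ≠ 0) {r : K}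
    (hr : r ≠ 0) : ∃ S : U ≃ₗ[K] U, LinearMap.det (S : End K U) = r ∧ NS (X * S.conj X) := by
  obtain ⟨S₀, hS₀, -⟩ := exists_equiv (V := U) (v := ![]) (w := ![]) linearIndependent_empty_type
    linearIndependent_empty_type (by omega) hr
  by_cases h : NS (X * S₀.conj X)
  · exact ⟨S₀, hS₀, h⟩
  obtain ⟨κ, hκ⟩ : ∃ κ, X * S₀.conj X = κ • 1 := by simpa [NS] using h
  have hB : NS (S₀.conj X) := fun c hc => hX c (by
    refine LinearMap.ext fun x => ?_
    have := LinearMap.congr_fun hc (S₀ x)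
    rw [LinearEquiv.conj_apply_apply, S₀.symm_apply_apply, LinearMap.smul_apply, Module.End.one_apply,
      ← map_smul] at this
    exact S₀.injective this)
  obtain ⟨e, he, hne⟩ := hB.exists_transvection
  refine ⟨S₀.trans e, by rw [det_trans, hS₀, he, mul_one], fun κ' h' => ?_⟩
  rw [conj_trans_apply] at h'
  have hu := isUnit_of_det_ne hXd
  have hκ0 : κ ≠ 0 := by
    rintro rfl
    rw [zero_smul, hu.mul_right_eq_zero] at hκ
    exact hB 0 (by rw [hκ, zero_smul])
  refine hne (κ' / κ) (hu.mul_left_cancel ?_)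
  rw [h', mul_smul_comm, hκ, smul_smul, div_mul_cancel₀ _ hκ0]

/-- The even block construction. -/
theorem twoProd_even {A : End K V} (hU : 2 ≤ finrank K U) (e₀ : (U × U) ≃ₗ[K] V) (X Y : End K U)
    (hA : ∀ u v, A (e₀ (u, v)) = e₀ (X v, u + Y v)) (hX : NS X) (hXd : LinearMap.det X ≠ 0) {p₁ p₂ : K[X]}
    (hpair : Pairable p₂ p₁) (hdeg : p₁.natDegree = finrank K U) (hco : IsCoprime p₂ p₁)
    (hfull : ∀ (W : Type u) [AddCommGroup W] [Module K W] [FiniteDimensional K W] (x : End K W),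
      CycTy x (p₂ * p₁) → FullDet x)
    (hdet : p₂.coeff 0 * p₁.coeff 0 = LinearMap.det X ^ 2) {r : K} (hr : r ^ 2 * p₁.coeff 0 = 1) :
    TwoProd A (p₂ * p₁) := by
  have hr0 : r ≠ 0 := fun h => by simp [h] at hr
  obtain ⟨S, hS, hZ⟩ := exists_twist hU hX hXd hr0
  obtain ⟨hm2, hm1, hd21, hc2, hc1, hP⟩ := hpair
  have hSX : LinearMap.det (S.conj X) = LinearMap.det X := (sim_conj S X).det_eq
  obtain ⟨G, P', hGP, hG, hP'⟩ := hP U (X * S.conj X) (by omega) (Or.inr hZ)
    (by rw [map_mul, hSX, hdet, sq])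
  have hP'd : LinearMap.det P' = (-1) ^ finrank K U * p₁.coeff 0 := hP'.det_eq
  obtain ⟨P'e, hP'e⟩ := exists_equiv_of_det (A := P') (by
    rw [hP'd]; exact mul_ne_zero (pow_ne_zero _ (neg_ne_zero.2 one_ne_zero)) hc1)
  have hP'a : ∀ x, P' x = P'e x := fun x => (LinearMap.congr_fun hP'e x).symm
  obtain ⟨τ, hτ, hτa⟩ := exists_tau ((S.trans P'e).trans (LinearEquiv.neg K)) S
  have hτ1 : LinearMap.det (τ : (U × U) →ₗ[K] U × U) = 1 := by
    rw [hτ, det_trans, det_trans, hS, show ((LinearEquiv.neg K : U ≃ₗ[K] U) : End K U) = (-1 : K) • LinearMap.id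
      from LinearMap.ext fun x => by simp, LinearMap.det_smul, LinearMap.det_id, mul_one, hP'e, hP'd]
    have : ((-1 : K) ^ finrank K U) ^ 2 = 1 := by rw [← pow_mul, pow_mul', neg_one_sq, one_pow]
    linear_combination ((-1 : K) ^ finrank K U) ^ 2 * hr + this
  let A₀ : End K (U × U) :=
    (X.comp (LinearMap.snd K U U)).prod (LinearMap.fst K U U + Y.comp (LinearMap.snd K U U))
  have hA₀ : ∀ z, e₀ (A₀ z) = A (e₀ z) := fun ⟨u, v⟩ => (hA u v).symm
  let E : U →ₗ[K] U := (LinearMap.snd K U U).comp ((A₀ * τ.conj A₀).comp (LinearMap.inl K U U))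
  have hsymm0 : ∀ b, τ.symm (0, b) = (-S.symm b, 0) := fun b => τ.injective (by rw [τ.apply_symm_apply, hτa]; simp)
  have hW : A₀ * τ.conj A₀ = lower G E P' := by
    refine LinearMap.ext fun ⟨a, b⟩ => ?_
    have h1 : (A₀ * τ.conj A₀) (a, b) = (A₀ * τ.conj A₀) (a, 0) + (A₀ * τ.conj A₀) (0, b) := by
      rw [← map_add]; simp
    have h2 : (A₀ * τ.conj A₀) (0, b) = (0, P' b) := by
      simp [Module.End.mul_apply, LinearEquiv.conj_apply_apply, hsymm0, A₀, hτa, hP'a]
    have hsymm : τ.symm (a, 0) = (0, S.symm (P'e.symm (-a))) := τ.injective (by rw [τ.apply_symm_apply, hτa]; simp)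
    have h3 : ((A₀ * τ.conj A₀) (a, 0)).1 = -(X (S (X (S.symm (P'e.symm (-a)))))) := by
      simp [Module.End.mul_apply, LinearEquiv.conj_apply_apply, hsymm, A₀, hτa]
    have h4 : ((A₀ * τ.conj A₀) (a, 0)).1 = G a := by
      have := LinearMap.congr_fun hGP (P'e.symm a)
      simp only [Module.End.mul_apply, LinearEquiv.conj_apply_apply, hP'a, LinearEquiv.apply_symm_apply] at this
      rw [h3, ← this]
      simp
    rw [h1, h2, lower_apply]
    refine Prod.ext ?_ ?_
    · rw [Prod.fst_add, h4]; simp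
    · simp [E]
  refine twoProd_of_model e₀ (a := A₀) (b := τ.conj A₀) hA₀ ⟨LinearEquiv.refl K _, by simp, LinearMap.ext fun z => by simp [LinearEquiv.conj_apply_apply]⟩ ⟨τ, hτ1, rfl⟩ ?_ ?_
  · rw [hW]; exact hG.lower hP' hco E
  · rw [hW]; exact hfull _ _ (hG.lower hP' hco E)


omit [FiniteDimensional K V] in
theorem cyc_of_aeval {f g : End K V} (r : K[X]) (hfg : f = aeval g r) (h : ∃ w : V, ∀ x, ∃ s : K[X], aeval f s w = x) :
    ∃ w : V, ∀ x, ∃ s : K[X], aeval g s w = x := by
  obtain ⟨w, hw⟩ := h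
  refine ⟨w, fun x => ?_⟩
  obtain ⟨s, hs⟩ := hw x
  exact ⟨s.comp r, by rw [aeval_comp, ← hfg, hs]⟩

/-- The odd block construction. -/
theorem twoProd_odd [Fintype K] {A : End K V} (hU : 2 ≤ finrank K U) (e₀ : (U × (U × K)) ≃ₗ[K] V)
    (M : End K (U × K)) (Y : End K U) (b : U) (hM : LinearMap.det M ≠ 0) (hρ : ∃ v, (M (v, 0)).2 ≠ 0)
    (hA : ∀ u v w, A (e₀ (u, (v, w))) = e₀ ((M (v, w)).1, (u + Y v + w • b, (M (v, w)).2)))
    {p₁ p₂ : K[X]} {cR : K} (hcR : cR ≠ 0) (hpair : Pairable p₂ p₁) (hdeg : p₁.natDegree = finrank K U)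
    (hco : IsCoprime p₂ p₁) (hco₁ : IsCoprime (X - C cR) p₁) (hco₂ : IsCoprime p₂ (X - C cR))
    (hdet : p₂.coeff 0 * p₁.coeff 0 * cR = LinearMap.det A ^ 2) : TwoProd A (p₂ * (X - C cR) * p₁) := by
  obtain ⟨hm2, hm1, hd21, hc2, hc1, hP⟩ := hpair
  obtain ⟨k, hk⟩ : ∃ k, k = (p₁.coeff 0)⁻¹ := ⟨_, rfl⟩
  have hk0 : k ≠ 0 := hk ▸ inv_ne_zero hc1
  obtain ⟨Me, hMe⟩ := exists_equiv_of_det hM
  have hMa : ∀ z, M z = Me z := fun z => (LinearMap.congr_fun hMe z).symm
  -- the `η` making the lower corner of the inverse visible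
  obtain ⟨η, u₀, hη⟩ : ∃ η u₀ : U, (Me.symm
      ((-((Me.symm (u₀, 0)).1 - ((Me.symm (u₀, 0)).2 / k) • η), (Me.symm (u₀, 0)).2 / k))).2 ≠ 0 := by
    obtain ⟨u, hu⟩ : ∃ u, (Me.symm (u, 0)).2 ≠ 0 := by
      by_contra hne
      push Not at hne
      obtain ⟨v, hv⟩ := hρ
      let L : U →ₗ[K] U := (LinearMap.fst K U K).comp
        ((Me.symm : (U × K) →ₗ[K] U × K).comp (LinearMap.inl K U K))
      have hLa : ∀ x, Me.symm (x, 0) = (L x, 0) := fun x => Prod.ext rfl (hne x)
      have hLi : Function.Injective L := fun x y h => by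
        have : Me.symm (x, 0) = Me.symm (y, 0) := by rw [hLa, hLa, h]
        simpa using this
      obtain ⟨x, hx⟩ := LinearMap.surjective_of_injective hLi v
      refine hv ?_
      rw [hMa, ← hx, ← hLa, LinearEquiv.apply_symm_apply]
    by_contra hne
    push Not at hne
    have h1 := hne 0 u
    have h2 := hne u u
    set z := Me.symm (u, 0)
    have h3 : ((-(z.1 - (z.2 / k) • u), z.2 / k) : U × K) = (-(z.1 - (z.2 / k) • (0 : U)), z.2 / k) +
        (z.2 / k) • (u, 0) := by
      refine Prod.ext ?_ ?_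
      · simp; abel
      · simp
    rw [h3, map_add, map_smul, Prod.snd_add, h1, zero_add, Prod.smul_snd, smul_eq_mul] at h2
    exact mul_ne_zero (div_ne_zero hu hk0) hu h2
  let T : (U × K) ≃ₗ[K] (U × K) :=
    { toFun := fun z => (-z.1 + z.2 • η, k * z.2)
      map_add' := fun x y => by
        refine Prod.ext ?_ ?_
        · simp [add_smul]; abel
        · simp [mul_add]
      map_smul' := fun c x => by
        refine Prod.ext ?_ ?_
        · simp [smul_add, smul_smul]
        · simp; ring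
      invFun := fun z => (-(z.1 - (z.2 / k) • η), z.2 / k)
      left_inv := fun z => by
        refine Prod.ext ?_ ?_
        · simp [mul_div_cancel_left₀ _ hk0]
        · simp [mul_div_cancel_left₀ _ hk0]
      right_inv := fun z => by
        refine Prod.ext ?_ ?_
        · simp
        · simp [mul_div_cancel₀ _ hk0] }
  let Z : (U × K) ≃ₗ[K] (U × K) := Me.trans (T.trans Me)
  let L : U →ₗ[K] K := (LinearMap.snd K U K).comp ((Z.symm : (U × K) →ₗ[K] U × K).comp (LinearMap.inl K U K))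
  have hL : L u₀ ≠ 0 := by simpa [L, Z, T] using hη
  let ρ : U →ₗ[K] K := (LinearMap.snd K U K).comp ((Z : (U × K) →ₗ[K] U × K).comp (LinearMap.inl K U K))
  obtain ⟨c, hc⟩ : ∃ c, c = cR * k := ⟨_, rfl⟩
  have hc0 : c ≠ 0 := hc ▸ mul_ne_zero hcR hk0
  -- `φ` with a non-scalar corner
  let N : U → End K U := fun φ =>
    (LinearMap.fst K U K).comp ((Z : (U × K) →ₗ[K] U × K).comp (LinearMap.inl K U K)) - ρ.smulRight φ
  obtain ⟨φ, hφ, hN⟩ : ∃ φ, L φ + (Z.symm (0, 1)).2 = c⁻¹ ∧ NS (N φ) := by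
    let φ₀ := ((c⁻¹ - (Z.symm (0, 1)).2) / L u₀) • u₀
    have hφ₀ : L φ₀ + (Z.symm (0, 1)).2 = c⁻¹ := by simp [φ₀, hL]
    obtain ⟨δ, hδL, hδ⟩ : ∃ δ, L δ = 0 ∧ δ ≠ 0 := by
      by_contra hne
      push Not at hne
      have := LinearMap.finrank_le_finrank_of_injective (f := L) (LinearMap.ker_eq_bot.1
        (LinearMap.ker_eq_bot'.2 hne))
      simp at this
      omega
    by_cases h : NS (N φ₀)
    · exact ⟨φ₀, hφ₀, h⟩
    refine ⟨φ₀ + δ, by rw [map_add, hδL, add_zero, hφ₀], fun κ' h' => ?_⟩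
    obtain ⟨κ, hκ⟩ : ∃ κ, N φ₀ = κ • 1 := by simpa [NS] using h
    have hdiff : ∀ x, ρ x • δ = (κ - κ') • x := fun x => by
      have e1 := LinearMap.congr_fun hκ x
      have e2 := LinearMap.congr_fun h' x
      simp only [N, LinearMap.sub_apply, LinearMap.smulRight_apply, LinearMap.smul_apply, Module.End.one_apply,
        smul_add] at e1 e2
      rw [sub_smul, ← e1, ← e2]
      abel
    obtain ⟨x, hx, hx0⟩ : ∃ x, ρ x = 0 ∧ x ≠ 0 := by
      by_contra hne
      push Not at hne
      have := LinearMap.finrank_le_finrank_of_injective (f := ρ) (LinearMap.ker_eq_bot.1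
        (LinearMap.ker_eq_bot'.2 hne))
      simp at this
      omega
    have hκκ : κ - κ' = 0 := by
      have := hdiff x
      rw [hx, zero_smul, eq_comm, smul_eq_zero] at this
      exact this.resolve_right hx0
    have hρ0 : ∀ y, (Z (y, 0)).2 = 0 := fun y => by
      have := hdiff y
      rw [hκκ, zero_smul, smul_eq_zero] at this
      exact this.resolve_right hδ
    let F : U →ₗ[K] U := (LinearMap.fst K U K).comp ((Z : (U × K) →ₗ[K] U × K).comp (LinearMap.inl K U K))
    have hFa : ∀ y, Z (y, 0) = (F y, 0) := fun y => Prod.ext rfl (hρ0 y)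
    have hFi : Function.Injective F := fun y y' h => by
      have : Z (y, 0) = Z (y', 0) := by rw [hFa, hFa, h]
      simpa using this
    obtain ⟨y, hy⟩ := LinearMap.surjective_of_injective hFi u₀
    refine hL ?_
    show (Z.symm (u₀, 0)).2 = 0
    rw [← hy, ← hFa, LinearEquiv.symm_apply_apply]
  -- the factorisation of the corner
  obtain ⟨Se, hSe⟩ : ∃ Se : (U × K) ≃ₗ[K] (U × K), ∀ u w, Se (u, w) = (u + w • φ, w) := by
    exact ⟨{ toFun := fun z => (z.1 + z.2 • φ, z.2)
             map_add' := fun x y => by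
               refine Prod.ext ?_ rfl
               simp [add_smul]; abel
             map_smul' := fun r x => by
               refine Prod.ext ?_ rfl
               simp [smul_add, smul_smul]
             invFun := fun z => (z.1 - z.2 • φ, z.2)
             left_inv := fun z => by simp
             right_inv := fun z => by simp }, fun u w => rfl⟩
  let Nf : (U × K) ≃ₗ[K] (U × K) := Z.trans Se.symm
  have hSs : ∀ u w, Se.symm (u, w) = (u - w • φ, w) := fun u w => Se.injective (by rw [Se.apply_symm_apply, hSe]; simp)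
  have hNf0 : ∀ u, Nf (u, 0) = (N φ u, ρ u) := fun u => by
    show Se.symm (Z (u, 0)) = _
    rw [show Z (u, 0) = ((Z (u, 0)).1, (Z (u, 0)).2) from rfl, hSs]
    rfl
  let p : U × K := Nf.symm (0, 1)
  have hp : p.2 = c⁻¹ := by
    show (Z.symm (Se (0, 1))).2 = c⁻¹
    rw [hSe, show ((0 : U) + (1 : K) • φ, (1 : K)) = (φ, 0) + ((0, 1) : U × K) by simp, map_add, Prod.snd_add]
    exact hφ
  have hdetN : LinearMap.det (N φ) * c = LinearMap.det (Nf : (U × K) →ₗ[K] U × K) := by
    have hdec : (Nf : (U × K) →ₗ[K] U × K) = lower (N φ) ρ (c • 1 : End K K) *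
        upper (1 : End K U) ((LinearMap.id (R := K) (M := K)).smulRight (-(c • p.1))) (1 : End K K) := by
      refine LinearMap.ext fun ⟨u, w⟩ => ?_
      have hs : ((u, w) : U × K) = ((u + w • (-(c • p.1)), 0) : U × K) + (w * c) • p := by
        refine Prod.ext ?_ ?_
        · simp [smul_smul]
        · simp [hp, hc0]
      calc Nf (u, w) = Nf (u + w • (-(c • p.1)), 0) + (w * c) • ((0, 1) : U × K) := by
            rw [hs, map_add, map_smul]
            simp [p]
        _ = _ := by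
            rw [hNf0, Module.End.mul_apply, upper_apply, lower_apply]
            simp [mul_comm c w]
    have hl : LinearMap.det (lower (N φ) ρ (c • 1 : End K K)) = LinearMap.det (N φ) * c := by
      rw [Sim.det_eq (f := upper (c • 1 : End K K) ρ (N φ))
        ⟨LinearEquiv.prodComm K K U, fun ⟨w, u⟩ => by simp [add_comm]⟩, det_upper, LinearMap.det_smul,
        Module.finrank_self, map_one, pow_one, mul_one, mul_comm]
    rw [hdec, map_mul, hl, det_upper, map_one, map_one, mul_one, mul_one]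
  -- determinants
  have hTd : LinearMap.det (T : (U × K) →ₗ[K] U × K) = (-1) ^ finrank K U * k := by
    rw [show (T : (U × K) →ₗ[K] U × K) = upper ((-1 : K) • (1 : End K U))
      ((LinearMap.id (R := K) (M := K)).smulRight η) (k • 1 : End K K) from LinearMap.ext fun ⟨u, w⟩ => by simp [T],
      det_upper, LinearMap.det_smul, LinearMap.det_smul, map_one, map_one, mul_one, mul_one, Module.finrank_self,
      pow_one]
  have hZd : LinearMap.det (Z : (U × K) →ₗ[K] U × K) = LinearMap.det M ^ 2 * ((-1) ^ finrank K U * k) := by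
    show LinearMap.det ((Me.trans (T.trans Me) : (U × K) ≃ₗ[K] U × K) : (U × K) →ₗ[K] U × K) = _
    rw [det_trans, det_trans, hMe, hTd]; ring
  have hSd : LinearMap.det (Se : (U × K) →ₗ[K] U × K) = 1 := by
    rw [show (Se : (U × K) →ₗ[K] U × K) = upper (1 : End K U)
      ((LinearMap.id (R := K) (M := K)).smulRight φ) (1 : End K K) from
      LinearMap.ext fun ⟨u, w⟩ => by simp [hSe], det_upper, map_one, map_one, mul_one]
  have hNd : LinearMap.det (Nf : (U × K) →ₗ[K] U × K) = LinearMap.det M ^ 2 * ((-1) ^ finrank K U * k) := by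
    rw [det_trans, hZd, LinearEquiv.det_coe_symm, hSd, inv_one, mul_one]
  let A₀ : End K (U × (U × K)) := ((LinearMap.fst K U K).comp (M.comp (LinearMap.snd K U (U × K)))).prod
    ((LinearMap.fst K U (U × K) + Y.comp ((LinearMap.fst K U K).comp (LinearMap.snd K U (U × K))) +
      ((LinearMap.snd K U K).comp (LinearMap.snd K U (U × K))).smulRight b).prod
      ((LinearMap.snd K U K).comp (M.comp (LinearMap.snd K U (U × K)))))
  have hA₀a : ∀ u v w, A₀ (u, (v, w)) = ((M (v, w)).1, (u + Y v + w • b, (M (v, w)).2)) := fun u v w => rfl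
  have hA₀ : ∀ z, e₀ (A₀ z) = A (e₀ z) := fun ⟨u, v, w⟩ => (hA u v w).symm
  -- `det M ^ 2 = det A ^ 2`
  have hMA : LinearMap.det M ^ 2 = LinearMap.det A ^ 2 := by
    rw [(show Sim A₀ A from ⟨e₀, hA₀⟩).det_eq]
    let Q : End K (U × (U × K)) := ((LinearMap.fst K U K).comp (LinearMap.snd K U (U × K))).prod
      ((LinearMap.fst K U (U × K)).prod ((LinearMap.snd K U K).comp (LinearMap.snd K U (U × K))))
    have hQ : LinearMap.det Q ^ 2 = 1 := by
      rw [sq, ← map_mul, show Q * Q = 1 from LinearMap.ext fun ⟨x, y, w⟩ => rfl, map_one]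
    have hdec : A₀ = Q * upper (1 : End K U)
        (Y.comp (LinearMap.fst K U K) + (LinearMap.snd K U K).smulRight b) M :=
      LinearMap.ext fun ⟨u, v, w⟩ => by simp [Q, hA₀a, add_assoc]
    rw [hdec, map_mul, det_upper, map_one, one_mul, mul_pow, hQ, one_mul]
  have hcorner : LinearMap.det (-N φ) = p₂.coeff 0 * p₁.coeff 0 := by
    rw [show -N φ = (-1 : K) • N φ by simp, LinearMap.det_smul]
    apply mul_right_cancel₀ hc0
    rw [mul_assoc, hdetN, hNd, hMA, ← hdet, hc]
    have : ((-1 : K) ^ finrank K U) ^ 2 = 1 := by rw [← pow_mul, pow_mul', neg_one_sq, one_pow]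
    linear_combination (p₂.coeff 0 * p₁.coeff 0 * cR * k) * this
  obtain ⟨G₁, P', hGP, hG₁, hP'⟩ := hP U (-N φ) (by omega) (Or.inr fun r h => hN (-r) (by
    rw [neg_smul, ← h, neg_neg])) hcorner
  have hP'd : LinearMap.det P' = (-1) ^ finrank K U * p₁.coeff 0 := hP'.det_eq
  obtain ⟨P'e, hP'e⟩ := exists_equiv_of_det (A := P') (by
    rw [hP'd]; exact mul_ne_zero (pow_ne_zero _ (neg_ne_zero.2 one_ne_zero)) hc1)
  have hP'a : ∀ x, P' x = P'e x := fun x => (LinearMap.congr_fun hP'e x).symm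
  let P : U ≃ₗ[K] U := P'e.trans (LinearEquiv.neg K)
  -- `τ`
  obtain ⟨τ₂, hτ₂, hτ₂a⟩ := exists_tau P (LinearEquiv.refl K U)
  let γ : U := k • φ - c • P p.1
  obtain ⟨τe, hτe, hτea⟩ : ∃ τe : (U × (U × K)) ≃ₗ[K] (U × (U × K)),
      LinearMap.det (τe : (U × (U × K)) →ₗ[K] U × (U × K)) = 1 ∧
      ∀ u v w, τe (u, (v, w)) = (P v + w • γ, (-u + w • η, k * w)) := by
    let π : ((U × U) × K) ≃ₗ[K] (U × (U × K)) := LinearEquiv.prodAssoc K U U K
    have hd : LinearMap.det (upper (τ₂ : (U × U) →ₗ[K] U × U)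
        ((LinearMap.id (R := K) (M := K)).smulRight ((γ, η) : U × U)) (k • 1 : End K K)) = 1 := by
      rw [det_upper, hτ₂, LinearMap.det_smul, map_one, mul_one, Module.finrank_self, pow_one, det_trans, hP'e,
        show ((LinearEquiv.neg K : U ≃ₗ[K] U) : End K U) = (-1 : K) • LinearMap.id from
          LinearMap.ext fun x => by simp, LinearMap.det_smul, LinearMap.det_id, mul_one, hP'd, hk,
        show LinearMap.det ((LinearEquiv.refl K U : U ≃ₗ[K] U) : End K U) = 1 from LinearMap.det_id]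
      have : ((-1 : K) ^ finrank K U) ^ 2 = 1 := by rw [← pow_mul, pow_mul', neg_one_sq, one_pow]
      field_simp
      linear_combination this
    obtain ⟨t, ht⟩ := exists_equiv_of_det (A := upper (τ₂ : (U × U) →ₗ[K] U × U)
      ((LinearMap.id (R := K) (M := K)).smulRight ((γ, η) : U × U)) (k • 1 : End K K)) (by rw [hd]; exact one_ne_zero)
    refine ⟨π.symm.trans (t.trans π), ?_, fun u v w => ?_⟩
    · refine Eq.trans ?_ hd
      rw [← ht]
      exact LinearMap.det_conj (t : ((U × U) × K) →ₗ[K] (U × U) × K) π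
    show π (t (π.symm (u, (v, w)))) = _
    rw [show π.symm (u, (v, w)) = ((u, v), w) from rfl,
      show t ((u, v), w) = (t : ((U × U) × K) →ₗ[K] (U × U) × K) ((u, v), w) from rfl, ht, upper_apply]
    simp [π, hτ₂a]
  -- the block form of the product
  let ι : ((U × K) × U) ≃ₗ[K] (U × (U × K)) :=
    { toFun := fun z => (z.1.1, (z.2, z.1.2))
      map_add' := fun _ _ => rfl
      map_smul' := fun _ _ => rfl
      invFun := fun z => ((z.1, z.2.2), z.2.1)
      left_inv := fun _ => rfl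
      right_inv := fun _ => rfl }
  let W : End K ((U × K) × U) := ι.symm.conj (A₀ * τe.conj A₀)
  let G : End K (U × K) := (LinearMap.fst K (U × K) U).comp (W.comp (LinearMap.inl K (U × K) U))
  let E : (U × K) →ₗ[K] U := (LinearMap.snd K (U × K) U).comp (W.comp (LinearMap.inl K (U × K) U))
  have hWa : ∀ z, W z = ι.symm (A₀ (τe (A₀ (τe.symm (ι z))))) := fun z => by
    simp [W, LinearEquiv.conj_apply_apply, Module.End.mul_apply]
  have hW : W = lower G E P' := by
    refine LinearMap.ext fun ⟨z, x⟩ => ?_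
    have hs : τe.symm (0, (x, (0 : K))) = (-x, (0, 0)) := τe.injective (by rw [τe.apply_symm_apply, hτea]; simp)
    have h0 : W (0, x) = (0, P' x) := by
      have a1 : ∀ y : U, A₀ (y, ((0 : U), (0 : K))) = (0, (y, 0)) := fun y => by simp [A₀, Prod.mk_zero_zero]
      rw [hWa, show ι (0, x) = (0, (x, 0)) from rfl, hs, a1, hτea, neg_zero, zero_smul, add_zero, zero_smul,
        add_zero, mul_zero, a1]
      simp [ι, P, hP'a]
    rw [show ((z, x) : (U × K) × U) = (z, 0) + (0, x) by simp, map_add, h0]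
    refine Prod.ext ?_ ?_ <;> simp [G, E]
  -- the quotient
  have hG : ∀ u w, G (Se (u, w)) = Se (Nf (P.symm u, 0) + w • ((0 : U), cR)) := by
    intro u w
    obtain ⟨z, hz⟩ : ∃ z, z = Se (u, w) := ⟨_, rfl⟩
    have hs : τe.symm (z.1, ((0 : U), z.2)) = ((z.2 / k) • η, (P.symm (z.1 - (z.2 / k) • γ), z.2 / k)) :=
      τe.injective (by rw [τe.apply_symm_apply, hτea]; simp [mul_div_cancel₀ _ hk0])
    have h1 : G z = Z (P.symm (z.1 - (z.2 / k) • γ), z.2 / k) := by
      show (W (z, 0)).1 = _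
      obtain ⟨v, hv⟩ : ∃ v, v = ((P.symm (z.1 - (z.2 / k) • γ), z.2 / k) : U × K) := ⟨_, rfl⟩
      rw [hWa, show ι (z, 0) = (z.1, ((0 : U), z.2)) from rfl, hs, ← hv, show v = (v.1, v.2) from rfl,
        hA₀a ((z.2 / k) • η) v.1 v.2, hτea, hA₀a]
      simp only [ι, Z, T, LinearEquiv.trans_apply, ← hMa]
      rfl
    have hγ : (P.symm (z.1 - (z.2 / k) • γ), z.2 / k) = ((P.symm u, 0) : U × K) + (w * (c / k)) • p := by
      rw [hz, hSe]
      refine Prod.ext ?_ ?_
      · have : u + w • φ - (w / k) • γ = u + (w * (c / k)) • P p.1 := by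
          simp only [γ, smul_sub, smul_smul]
          rw [div_mul_cancel₀ _ hk0]
          match_scalars <;> field_simp <;> ring
        simp only [Prod.fst_add, Prod.smul_fst, this, map_add, map_smul, LinearEquiv.symm_apply_apply]
      · simp [hp]
        field_simp
    rw [← hz, h1, hγ]
    apply Se.symm.injective
    rw [LinearEquiv.symm_apply_apply]
    show Nf (((P.symm u, 0) : U × K) + (w * (c / k)) • p) = _
    rw [map_add, map_smul]
    simp [p, hc]
    exact Or.inl (mul_div_cancel_right₀ _ hk0)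
  have hG' : Sim (lower G₁ (-(ρ.comp (P'e.symm : U →ₗ[K] U))) (cR • 1 : End K K)) G := by
    refine ⟨Se, fun ⟨u, w⟩ => ?_⟩
    rw [hG, hNf0]
    congr 1
    have hN' : N φ (P.symm u) = G₁ u := by
      have := LinearMap.congr_fun hGP (P'e.symm u)
      simp only [LinearMap.neg_apply, Module.End.mul_apply, hP'a, LinearEquiv.apply_symm_apply] at this
      rw [← this]
      simp [P]
    refine Prod.ext ?_ ?_
    · simp [hN']
    · simp [P, mul_comm cR]
  have hcy : CycTy (A₀ * τe.conj A₀) (p₂ * (X - C cR) * p₁) := by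
    refine CycTy.of_sim (f := W) ?_ (Sim.symm ⟨ι.symm, fun z => by simp [W, LinearEquiv.conj_apply_apply]⟩)
    rw [hW]
    refine ((hG₁.lower ?_ hco₂ _).of_sim hG').lower hP' (hco.mul_left hco₁) E
    exact cycTy_one_dim (Module.finrank_self K) cR
  refine twoProd_of_model e₀ (a := A₀) (b := τe.conj A₀) hA₀
    ⟨LinearEquiv.refl K _, by simp, LinearMap.ext fun z => by simp⟩ ⟨τe, hτe, rfl⟩ hcy ?_
  refine CycTy.fullDet (q := X - C cR) ?_ (hm2.mul hm1) (monic_X_sub_C cR) (hco₂.mul_left hco₁.symm)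
    (fullDet_rootMul_linear cR)
  rwa [mul_right_comm]

omit [FiniteDimensional K V] in
/-- An inverse as a polynomial. -/
theorem exists_inv_poly {G : End K V} {q : K[X]} (hq : aeval G q = 0) (h0 : q.coeff 0 ≠ 0) :
    ∃ r : K[X], aeval G r * G = 1 := by
  refine ⟨-(C (q.coeff 0)⁻¹ * q.divX), ?_⟩
  have h := congrArg (aeval G) (Polynomial.X_mul_divX_add q)
  rw [hq, map_add, aeval_C, Algebra.algebraMap_eq_smul_one, mul_comm, map_mul, aeval_X, add_eq_zero_iff_eq_neg] at h
  rw [map_neg, map_mul, aeval_C, Algebra.algebraMap_eq_smul_one, smul_mul_assoc, one_mul, neg_mul, smul_mul_assoc,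
    h, smul_neg, neg_neg, smul_smul, inv_mul_cancel₀ h0, one_smul]

/-- The quadratic case: the centraliser of `A` has all determinants. -/
theorem fullDet_quadratic [Fintype K] (hU : 1 ≤ finrank K U) {x y : K} (hirr : ∀ r, r ^ 2 - y * r + -x ≠ 0)
    (A₀ : End K (U × U)) (hA₀ : ∀ u v, A₀ (u, v) = (x • v, u + y • v)) : FullDet A₀ := by
  obtain ⟨u₀, hu₀⟩ : ∃ u : U, u ≠ 0 := by
    have : Nontrivial U := Module.nontrivial_of_finrank_pos (R := K) (by omega)
    exact exists_ne 0
  obtain ⟨U', hU'⟩ := Submodule.exists_isCompl (K ∙ u₀)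
  let ev : (K × U') ≃ₗ[K] U :=
    ((LinearEquiv.toSpanNonzeroSingleton K U u₀ hu₀).prodCongr (LinearEquiv.refl K U')).trans
      (Submodule.prodEquivOfIsCompl _ _ hU')
  let B₁ : End K (K × K) := (x • LinearMap.snd K K K).prod (LinearMap.fst K K K + y • LinearMap.snd K K K)
  let B₂ : End K (U' × U') := (x • LinearMap.snd K U' U').prod (LinearMap.fst K U' U' + y • LinearMap.snd K U' U')
  have hB₁ : ∀ a b, B₁ (a, b) = (x * b, a + y * b) := fun a b => rfl
  have hB₁q : CycTy B₁ (quad y (-x)) := by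
    refine cycTy_quad (by simp) (fun c hc => hirr c ?_) ?_
    · have h1 := LinearMap.congr_fun hc (1, 0)
      simp [hB₁] at h1
    · refine LinearMap.ext fun ⟨a, b⟩ => ?_
      simp [Module.End.mul_apply, hB₁]
      exact ⟨by ring, by ring⟩
  have hfull : FullDet B₁ := by
    refine (fullDet_rootMul_quad hirr).of_sim ?_
    exact hB₁q.sim_rootMul
  let sh : ((U' × U') × (K × K)) ≃ₗ[K] (K × U') × (K × U') :=
    (LinearEquiv.prodComm K (U' × U') (K × K)).trans (LinearEquiv.prodProdProdComm K K K U' U')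
  refine (hfull.upper_zero B₂).of_sim ⟨sh.trans (ev.prodCongr ev), ?_⟩
  rintro ⟨⟨p, q⟩, a, b⟩
  simp only [sh, LinearEquiv.trans_apply, upper_apply, hB₁]
  simp [B₂, hA₀]
  constructor
  · rw [← map_smul]; rfl
  · rw [← map_smul, ← map_add]; rfl

/-- The quadratic block construction. -/
theorem twoProd_quadratic [Fintype K] {A : End K V} (hU : 1 ≤ finrank K U) (e₀ : (U × U) ≃ₗ[K] V) {x y : K}
    (hirr : ∀ r, r ^ 2 - y * r + -x ≠ 0) (hA : ∀ u v, A (e₀ (u, v)) = e₀ (x • v, u + y • v)) {α : K} (hα : α ≠ 0)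
    (hne : x ^ 2 / α ≠ α) :
    TwoProd A ((X - C (x ^ 2 / α)) ^ finrank K U * (X - C α) ^ finrank K U) := by
  have hx : x ≠ 0 := fun h => hirr 0 (by rw [h]; ring)
  set β := x ^ 2 / α with hβ
  have hβ0 : β ≠ 0 := div_ne_zero (pow_ne_zero _ hx) hα
  let A₀ : End K (U × U) := (x • LinearMap.snd K U U).prod (LinearMap.fst K U U + y • LinearMap.snd K U U)
  have hA₀a : ∀ u v, A₀ (u, v) = (x • v, u + y • v) := fun u v => rfl
  have hA₀ : ∀ z, e₀ (A₀ z) = A (e₀ z) := fun ⟨u, v⟩ => (hA u v).symm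
  have hfullA : FullDet A := (fullDet_quadratic hU hirr A₀ hA₀a).of_sim ⟨e₀, hA₀⟩
  -- the block `P'`
  have hm : ((X - C α) ^ finrank K U).Monic := (monic_X_sub_C α).pow _
  obtain ⟨P', hP'⟩ : ∃ P' : End K U, CycTy P' ((X - C α) ^ finrank K U) := by
    have := Semisimple.finite_adjoinRoot hm
    have hd : finrank K (AdjoinRoot ((X - C α) ^ finrank K U)) = finrank K U := by
      rw [Semisimple.finrank_adjoinRoot hm, (monic_X_sub_C α).natDegree_pow, natDegree_X_sub_C, mul_one]
    exact ⟨_, (cycTy_rootMul _ hm).of_sim (sim_conj (LinearEquiv.ofFinrankEq _ _ hd) _)⟩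
  obtain ⟨P'e, hP'e⟩ := exists_equiv_of_det (A := P') (by
    rw [hP'.det_eq]
    simp [coeff_zero_eq_eval_zero, hα])
  have hP'a : ∀ z, P' z = P'e z := fun z => (LinearMap.congr_fun hP'e z).symm
  let G : End K U := (x ^ 2) • (P'e.symm : U →ₗ[K] U)
  have hGP : G * P' = (x ^ 2) • 1 := LinearMap.ext fun z => by simp [G, Module.End.mul_apply, hP'a]
  have hcomm : Commute G P' := LinearMap.ext fun z => by simp [G, Module.End.mul_apply, hP'a]
  have hG : CycTy G ((X - C β) ^ finrank K U) := by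
    have h1 : (G - algebraMap K (End K U) β) * P' = (-β) • (P' - algebraMap K (End K U) α) := by
      rw [sub_mul, hGP, Algebra.algebraMap_eq_smul_one, Algebra.algebraMap_eq_smul_one, smul_one_mul, smul_sub,
        smul_smul, neg_smul, neg_mul, neg_smul, hβ, div_mul_cancel₀ _ hα]
      abel
    have hz : aeval G ((X - C β) ^ finrank K U) = 0 := by
      have hc : Commute (G - algebraMap K (End K U) β) P' :=
        hcomm.sub_left (Algebra.commute_algebraMap_left β P')
      have h2 := congrArg (· ^ finrank K U) h1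
      rw [hc.mul_pow, _root_.smul_pow] at h2
      have h3 : (P' - algebraMap K (End K U) α) ^ finrank K U = 0 := by
        have := hP'.zero
        rwa [map_pow, map_sub, aeval_X, aeval_C] at this
      rw [h3, smul_zero] at h2
      have hu : IsUnit (P' ^ finrank K U) := (isUnit_of_det_ne (by rw [← hP'e]; exact det_equiv_ne_zero P'e)).pow _
      rw [map_pow, map_sub, aeval_X, aeval_C]
      exact hu.mul_left_eq_zero.1 h2
    refine ⟨(monic_X_sub_C β).pow _, by simp [(monic_X_sub_C β).natDegree_pow], hz, ?_⟩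
    obtain ⟨r, hr⟩ := exists_inv_poly hz (by simp [coeff_zero_eq_eval_zero, hβ0])
    refine cyc_of_aeval (C (x ^ 2) * r) ?_ hP'.cyc
    rw [map_mul, aeval_C, Algebra.algebraMap_eq_smul_one, smul_one_mul]
    calc P' = (aeval G r * G) * P' := by rw [hr, one_mul]
      _ = _ := by rw [mul_assoc, hGP, mul_smul_comm, mul_one]
  obtain ⟨τ, -, hτa⟩ := exists_tau (P'e.trans (LinearEquiv.neg K)) (LinearEquiv.refl K U)
  let E : U →ₗ[K] U := (LinearMap.snd K U U).comp ((A₀ * τ.conj A₀).comp (LinearMap.inl K U U))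
  have hW : A₀ * τ.conj A₀ = lower G E P' := by
    refine LinearMap.ext fun ⟨a, b⟩ => ?_
    have h1 : (A₀ * τ.conj A₀) (a, b) = (A₀ * τ.conj A₀) (a, 0) + (A₀ * τ.conj A₀) (0, b) := by
      rw [← map_add]; simp
    have hs0 : τ.symm (0, b) = (-b, 0) := τ.injective (by rw [τ.apply_symm_apply, hτa]; simp)
    have hs : τ.symm (a, 0) = (0, -P'e.symm a) := τ.injective (by rw [τ.apply_symm_apply, hτa]; simp)
    have h2 : (A₀ * τ.conj A₀) (0, b) = (0, P' b) := by
      simp [Module.End.mul_apply, LinearEquiv.conj_apply_apply, hs0, A₀, hτa, hP'a]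
    have h3 : ((A₀ * τ.conj A₀) (a, 0)).1 = G a := by
      simp [Module.End.mul_apply, LinearEquiv.conj_apply_apply, hs, A₀, hτa, G, smul_smul, sq]
    rw [h1, h2, lower_apply]
    refine Prod.ext ?_ ?_
    · rw [Prod.fst_add, h3]; simp
    · simp [E]
  intro z hz
  have hcy : CycTy (lower G E P') ((X - C β) ^ finrank K U * (X - C α) ^ finrank K U) :=
    hG.lower hP' ((Polynomial.isCoprime_X_sub_C_of_isUnit_sub (isUnit_iff_ne_zero.2 (sub_ne_zero.2 hne))).pow) E
  have hmul : e₀.conj A₀ * e₀.conj (τ.conj A₀) = e₀.conj (lower G E P') := by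
    rw [← hW]
    exact LinearMap.ext fun z => by simp [LinearEquiv.conj_apply_apply, Module.End.mul_apply]
  obtain ⟨e, he⟩ := (hcy.of_sim (sim_conj e₀ _)).sim hz
  obtain rfl := Sim.eq_conj he
  refine ⟨e.conj (e₀.conj A₀), e.conj (e₀.conj (τ.conj A₀)), hfullA.sconj ?_, hfullA.sconj ?_, ?_⟩
  · exact ((show Sim A₀ A from ⟨e₀, hA₀⟩).symm.trans (sim_conj e₀ A₀)).trans (sim_conj e _)
  · exact ((show Sim A₀ A from ⟨e₀, hA₀⟩).symm.trans ((sim_conj τ A₀).trans (sim_conj e₀ _))).trans (sim_conj e _)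
  · rw [← hmul]
    exact LinearMap.ext fun z => by simp [LinearEquiv.conj_apply_apply, Module.End.mul_apply]

end Cfsg.Agent.LevCover
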