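import Cfsg.Agent.Lib.LevCover.Base

/-!
The polynomial types used by the block constructions.
-/

set_option autoImplicit false

namespace Cfsg.Agent.LevCover

open Module Polynomial

universe u

variable {K : Type u} [Field K]

/-- The cyclic class of `p` is closed under inversion. -/
def Recip (p : K[X]) : Prop :=
  ∀ (V : Type u) [AddCommGroup V] [Module K V] [FiniteDimensional K V] (x y : End K V),
    CycTy x p → x * y = 1 → CycTy y p

theorem coprime_lin {a : K} {p : K[X]} (h : p.eval a ≠ 0) : IsCoprime (X - C a) p :=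
  ((irreducible_X_sub_C a).coprime_iff_not_dvd).2 fun hd => h (dvd_iff_isRoot.1 hd)

theorem quad_eval (t d r : K) : (quad t d).eval r = r ^ 2 - t * r + d := by simp [quad]

theorem quad_factor_roots (e f : K) : quad (e + f) (e * f) = (X - C e) * (X - C f) := by
  rw [quad, map_add, map_mul]; ring

theorem coprime_irr {t d t' d' : K} (h : ∀ r, r ^ 2 - t * r + d ≠ 0) (hne : t ≠ t' ∨ d ≠ d') :
    IsCoprime (quad t d) (quad t' d') := by
  have hirr : Irreducible (quad t d) := by
    apply Polynomial.irreducible_of_degree_le_three_of_not_isRoot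
    · rw [quad_natDegree]; simp
    · intro r hr
      exact h r (by rwa [IsRoot, quad_eval] at hr)
  refine hirr.coprime_iff_not_dvd.2 fun hd => ?_
  have := eq_of_monic_of_dvd_of_natDegree_le (quad_monic t d) (quad_monic t' d') hd
    (by rw [quad_natDegree, quad_natDegree])
  rcases hne with h1 | h1
  · exact h1 (by simpa [quad, coeff_one, coeff_X_pow] using (congrArg (fun p => p.coeff 1) this).symm)
  · exact h1 (by simpa [quad_coeff] using (congrArg (fun p => p.coeff 0) this).symm)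

theorem coprime_lin_pow {a b : K} (h : a ≠ b) (m k : ℕ) : IsCoprime ((X - C a) ^ m) ((X - C b) ^ k) :=
  (coprime_lin (p := X - C b) (by simpa [sub_eq_zero] using h)).pow

theorem coprime_pow_quad {a t d : K} (h : a ^ 2 - t * a + d ≠ 0) (m : ℕ) :
    IsCoprime ((X - C a) ^ m) (quad t d) :=
  (coprime_lin (by rwa [quad_eval])).pow_left

theorem pow_coeff_zero (a : K) (m : ℕ) : ((X - C a) ^ m).coeff 0 = (-a) ^ m := by
  simp [coeff_zero_eq_eval_zero]

theorem sep_of_irr {t d : K} (h : ∀ r, r ^ 2 - t * r + d ≠ 0) : Sep t d := fun r hr => absurd hr (h r)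

variable [Fintype K]

theorem exists_two_irr (h4 : 4 ≤ Fintype.card K) {d : K} (hd : d ≠ 0) :
    ∃ t t' : K, t ≠ t' ∧ (∀ r, r ^ 2 - t * r + d ≠ 0) ∧ ∀ r, r ^ 2 - t' * r + d ≠ 0 := by
  classical
  let S : Finset K := (Finset.univ.erase 0).image fun r => r + d / r
  suffices h : S.card + 2 ≤ Fintype.card K by
    obtain ⟨t, ht, t', ht', hne⟩ := Finset.one_lt_card.1 (show 1 < (Finset.univ \ S).card by
      rw [Finset.card_univ_diff]; omega)
    have key : ∀ t, t ∈ Finset.univ \ S → ∀ r, r ^ 2 - t * r + d ≠ 0 := by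
      intro t ht r hr
      have hr0 : r ≠ 0 := fun h0 => hd (by simpa [h0] using hr)
      refine (Finset.mem_sdiff.1 ht).2 (Finset.mem_image.2 ⟨r, Finset.mem_erase.2 ⟨hr0, Finset.mem_univ _⟩, ?_⟩)
      field_simp
      linear_combination hr
    exact ⟨t, t', hne, key t ht, key t' ht'⟩
  -- each value is taken twice, except at most two
  let F : Finset K := (Finset.univ.erase 0).filter fun r => r ^ 2 = d
  have hF : F.card ≤ 2 := by
    have hp : (X ^ 2 - C d).natDegree = 2 := by compute_degree!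
    refine le_trans (Finset.card_le_card (t := (X ^ 2 - C d).roots.toFinset) fun r hr => ?_)
      ((Multiset.toFinset_card_le _).trans ((card_roots' _).trans hp.le))
    rw [Multiset.mem_toFinset, mem_roots (X_pow_sub_C_ne_zero (by norm_num : 0 < 2) d)]
    simp [(Finset.mem_filter.1 hr).2]
  have hcount : 2 * S.card ≤ (Finset.univ.erase (0 : K)).card + F.card := by
    have h1 : ∑ t ∈ S, ((((Finset.univ.erase (0 : K)).filter fun r => r + d / r = t).card) +
        (F.filter fun r => r + d / r = t).card) = (Finset.univ.erase (0 : K)).card + F.card := by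
      rw [Finset.sum_add_distrib,
        ← Finset.card_eq_sum_card_fiberwise (s := Finset.univ.erase (0 : K)) (t := S) (f := fun r => r + d / r)
          (fun r hr => Finset.mem_image_of_mem _ hr),
        ← Finset.card_eq_sum_card_fiberwise (s := F) (t := S) (f := fun r => r + d / r)
          fun r hr => Finset.mem_image_of_mem _ (Finset.mem_filter.1 hr).1]
    rw [← h1, mul_comm, ← smul_eq_mul]
    refine Finset.card_nsmul_le_sum _ _ _ fun t ht => ?_
    obtain ⟨r, hr, rfl⟩ := Finset.mem_image.1 ht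
    have hr0 := Finset.ne_of_mem_erase hr
    by_cases hfix : r ^ 2 = d
    · have a : 0 < ((Finset.univ.erase (0 : K)).filter fun z => z + d / z = r + d / r).card :=
        Finset.card_pos.2 ⟨r, Finset.mem_filter.2 ⟨hr, rfl⟩⟩
      have b : 0 < (F.filter fun z => z + d / z = r + d / r).card :=
        Finset.card_pos.2 ⟨r, Finset.mem_filter.2 ⟨Finset.mem_filter.2 ⟨hr, hfix⟩, rfl⟩⟩
      omega
    · have hne : r ≠ d / r := fun h => hfix (by rw [eq_div_iff hr0] at h; rw [sq, h])
      have a : 1 < ((Finset.univ.erase (0 : K)).filter fun z => z + d / z = r + d / r).card :=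
        Finset.one_lt_card.2 ⟨r, Finset.mem_filter.2 ⟨hr, rfl⟩, d / r, Finset.mem_filter.2
          ⟨Finset.mem_erase.2 ⟨div_ne_zero hd hr0, Finset.mem_univ _⟩, by field_simp; ring⟩, hne⟩
      omega
  rw [Finset.card_erase_of_mem (Finset.mem_univ _), Finset.card_univ] at hcount
  omega

theorem exists_notMem_card (s : Finset K) (h : s.card < Fintype.card K) : ∃ x, x ∉ s := by
  by_contra hne
  push Not at hne
  have := Finset.card_le_card (s := Finset.univ) (fun x _ => hne x)
  rw [Finset.card_univ] at this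
  omega

theorem two_eq_zero_of_four (h : Fintype.card K = 4) : (2 : K) = 0 := by
  have hc : ringChar K = 2 := FiniteField.even_card_iff_char_two.2 (by omega)
  have := ringChar.Nat.cast_ringChar (R := K)
  rw [hc] at this
  exact_mod_cast this

omit [Fintype K] in
theorem recip_quad_mul {t t' : K} : Recip (quad t (1 : K) * quad t' 1) := by
  intro V _ _ _ x y hx hxy
  have hyx : y * x = 1 := by
    rw [mul_eq_one_comm]; exact hxy
  obtain ⟨r, hr⟩ := exists_inv_poly (G := x) hx.zero (by simp [mul_coeff_zero, quad_coeff])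
  have hyr : y = aeval x r := by
    rw [← one_mul y, ← hr, mul_assoc, hxy, mul_one]
  have key : ∀ s : K, (y * y - s • y + 1) * (x * x) = x * x - s • x + 1 := fun s => by
    have h1 : y * y * (x * x) = 1 := by rw [mul_assoc y y, ← mul_assoc y x x, hyx, one_mul, hyx]
    rw [add_mul, sub_mul, h1, one_mul, smul_mul_assoc, ← mul_assoc, hyx, one_mul]
    abel
  have hz : aeval y (quad t (1 : K) * quad t' 1) = 0 := by
    have hx0 := hx.zero
    rw [map_mul, aeval_quad, aeval_quad, one_smul] at hx0 ⊢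
    have hu : IsUnit (x * x) := ⟨⟨x * x, y * y, by rw [mul_assoc x x, ← mul_assoc x y y, hxy, one_mul, hxy],
      by rw [mul_assoc y y, ← mul_assoc y x x, hyx, one_mul, hyx]⟩, rfl⟩
    refine (hu.mul hu).mul_left_eq_zero.1 ?_
    have hc : Commute (y * y - t' • y + 1) (x * x) := by
      have : Commute y x := hyx.trans hxy.symm
      exact (((this.mul_left this).sub_left (this.smul_left t')).add_left (Commute.one_left x)).mul_right
        (((this.mul_left this).sub_left (this.smul_left t')).add_left (Commute.one_left x))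
    calc (y * y - t • y + 1) * (y * y - t' • y + 1) * (x * x * (x * x))
        = ((y * y - t • y + 1) * (x * x)) * ((y * y - t' • y + 1) * (x * x)) := by
          rw [mul_assoc (y * y - t • y + 1), ← mul_assoc (y * y - t' • y + 1), hc.eq,
            mul_assoc (x * x), ← mul_assoc (y * y - t • y + 1), hc.eq]
      _ = 0 := by rw [key, key]; exact hx0
  obtain ⟨r', hr'⟩ := exists_inv_poly (G := y) hz (by simp [mul_coeff_zero, quad_coeff])
  refine ⟨hx.monic, hx.deg, hz, cyc_of_aeval r' ?_ hx.cyc⟩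
  rw [← one_mul x, ← hr', mul_assoc, hyx, mul_one]

/-- The types in even dimension `2 s`. -/
structure EvenTypes (p₁ p₂ : K[X]) (s : ℕ) (D : K) : Prop where
  pair : Pairable p₂ p₁
  deg : p₁.natDegree = s
  cop : IsCoprime p₂ p₁
  self : Pairable (p₂ * p₁) (p₂ * p₁)
  coeff : p₂.coeff 0 * p₁.coeff 0 = D
  root : ∃ r, r ^ 2 * p₁.coeff 0 = 1
  full : ∀ (W : Type u) [AddCommGroup W] [Module K W] [FiniteDimensional K W] (x : End K W),
    CycTy x (p₂ * p₁) → FullDet x
  recip : s = 2 → D = 1 → Recip (p₂ * p₁)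

theorem exists_evenTypes_of (h4 : 4 ≤ Fintype.card K) {s : ℕ} (hs : 2 ≤ s) {D α β t₁ d₁ t₂ d₂ : K}
    (hα : α ≠ 0) (hβ : β ≠ 0) (hd₁ : d₁ ≠ 0) (hd₂ : d₂ ≠ 0) (hαβ : α ≠ β)
    (hirr : ∀ r, r ^ 2 - t₂ * r + d₂ ≠ 0) (hsep : Sep t₁ d₁) (hne : t₂ ≠ t₁ ∨ d₂ ≠ d₁)
    (hβ₁ : β ^ 2 - t₁ * β + d₁ ≠ 0) (hα₁ : s = 2 ∨ α ^ 2 - t₁ * α + d₁ ≠ 0)
    (hpq : (∃ r, r ^ 2 - t₁ * r + d₁ = 0) ∨ d₂ * t₁ ^ 2 ≠ d₁ * t₂ ^ 2)
    (hD : (-β) ^ (s - 2) * d₂ * ((-α) ^ (s - 2) * d₁) = D) (hr : ∃ r, r ^ 2 * ((-α) ^ (s - 2) * d₁) = 1)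
    (hrec : s = 2 → D = 1 → d₁ = 1) :
    ∃ p₁ p₂, EvenTypes p₁ p₂ s D := by
  have hpair : Pairable ((X - C β) ^ (s - 2) * quad t₂ d₂) ((X - C α) ^ (s - 2) * quad t₁ d₁) := by
    refine (pairable_regular h4 hβ hα _).mul h4 (pairable_quad hd₂ hd₁ (sep_of_irr hirr) hsep ?_) ?_ ?_
    · rcases hpq with h | h
      exacts [Or.inr (Or.inl h), Or.inr (Or.inr h)]
    · exact coprime_pow_quad (hirr β) _
    · rcases hα₁ with h | h
      · simp [h, isCoprime_one_left]
      · exact coprime_pow_quad h _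
  have hcop : IsCoprime ((X - C β) ^ (s - 2) * quad t₂ d₂) ((X - C α) ^ (s - 2) * quad t₁ d₁) :=
    ((coprime_lin_pow hαβ.symm _ _).mul_right (coprime_pow_quad hβ₁ _)).mul_left
      ((coprime_pow_quad (hirr α) _).symm.mul_right (coprime_irr hirr hne))
  refine ⟨(X - C α) ^ (s - 2) * quad t₁ d₁, (X - C β) ^ (s - 2) * quad t₂ d₂, hpair, ?_, hcop, ?_, ?_, ?_, ?_, ?_⟩
  · rw [((monic_X_sub_C α).pow _).natDegree_mul (quad_monic _ _), (monic_X_sub_C α).natDegree_pow, quad_natDegree]
    simp; omega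
  · have h := hpair.mul h4 hpair.symm hcop hcop.symm
    rwa [mul_comm ((X - C α) ^ (s - 2) * quad t₁ d₁) ((X - C β) ^ (s - 2) * quad t₂ d₂)] at h
  · rw [mul_coeff_zero, mul_coeff_zero, pow_coeff_zero, pow_coeff_zero, quad_coeff, quad_coeff, hD]
  · rw [mul_coeff_zero, pow_coeff_zero, quad_coeff]; exact hr
  · intro W _ _ _ x hx
    refine CycTy.fullDet (p := (X - C β) ^ (s - 2) * ((X - C α) ^ (s - 2) * quad t₁ d₁)) (q := quad t₂ d₂) ?_
      (((monic_X_sub_C β).pow _).mul (((monic_X_sub_C α).pow _).mul (quad_monic _ _))) (quad_monic _ _) ?_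
      (fullDet_rootMul_quad hirr)
    · rwa [mul_right_comm ((X - C β) ^ (s - 2))] at hx
    · exact (coprime_pow_quad (hirr β) _).mul_left
        ((coprime_pow_quad (hirr α) _).mul_left (coprime_irr hirr hne).symm)
  · intro hs2 hD1
    have h1 := hrec hs2 hD1
    subst hs2 h1
    have h2 : d₂ = 1 := by simpa [hD1] using hD
    subst h2
    simp only [Nat.sub_self, pow_zero, one_mul]
    exact recip_quad_mul

theorem exists_evenTypes (h4 : 4 ≤ Fintype.card K) {s : ℕ} (hs : 2 ≤ s) {D : K} (hD : D ≠ 0) :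
    ∃ p₁ p₂, EvenTypes p₁ p₂ s D := by
  classical
  by_cases hq : Fintype.card K = 4
  · have h2 := two_eq_zero_of_four hq
    have hneg : ∀ x : K, -x = x := fun x => by linear_combination (-x) * h2
    have hsq : ∀ x : K, ∃ y, y ^ 2 = x := fun x => by
      obtain ⟨y, hy⟩ := FiniteField.isSquare_of_char_two (FiniteField.even_card_iff_char_two.2 (by omega)) x
      exact ⟨y, by rw [hy, sq]⟩
    obtain ⟨α, hα⟩ := exists_notMem_card ({0, 1} : Finset K) (by
      have := Finset.card_insert_le (0 : K) {1}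
      simp at this ⊢; omega)
    simp only [Finset.mem_insert, Finset.mem_singleton, not_or] at hα
    obtain ⟨d, hd⟩ := hsq (D / ((1 : K) * α) ^ (s - 2))
    have hd0 : d ≠ 0 := by
      rintro rfl
      rw [zero_pow (by norm_num), eq_comm, div_eq_zero_iff] at hd
      rcases hd with h | h
      · exact hD h
      · exact pow_ne_zero _ (by simpa using hα.1) h
    obtain ⟨t₁, t₂, hne, h1, h2'⟩ := exists_two_irr h4 hd0
    refine exists_evenTypes_of h4 hs (α := α) (β := 1) (t₁ := t₁) (t₂ := t₂) (d₁ := d) (d₂ := d) hα.1 one_ne_zero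
      hd0 hd0 hα.2 h2' (sep_of_irr h1) (Or.inl hne.symm) (h1 1) (Or.inr (h1 α)) (Or.inr ?_) ?_ ?_ ?_
    · intro h
      apply hne
      have h3 : (t₁ + t₂) ^ 2 = 0 := by linear_combination (mul_left_cancel₀ hd0 h) + (t₁ * t₂ + t₂ ^ 2) * h2
      linear_combination (pow_eq_zero_iff (n := 2) (by norm_num)).1 h3 - t₂ * h2
    · rw [hneg, hneg]
      have : ((1 : K) * α) ^ (s - 2) ≠ 0 := pow_ne_zero _ (by simpa using hα.1)
      rw [mul_mul_mul_comm, ← mul_pow, ← sq, hd, mul_div_cancel₀ _ this]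
    · obtain ⟨y, hy⟩ := hsq ((-α) ^ (s - 2) * d)⁻¹
      exact ⟨y, by rw [hy, inv_mul_cancel₀ (mul_ne_zero (pow_ne_zero _ (neg_ne_zero.2 hα.1)) hd0)]⟩
    · intro hs2 hD1
      subst hs2 hD1
      simp only [Nat.sub_self, pow_zero, div_one] at hd
      linear_combination (pow_eq_zero_iff (n := 2) (by norm_num)).1
        (show (d - 1) ^ 2 = 0 by linear_combination hd + (1 - d) * h2)
  · obtain ⟨e, he⟩ := exists_notMem_card ({0, 1, -1} : Finset K) (by
      have := Finset.card_le_three (a := (0 : K)) (b := 1) (c := -1)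
      omega)
    simp only [Finset.mem_insert, Finset.mem_singleton, not_or] at he
    obtain ⟨β, hβ⟩ := exists_notMem_card ({0, -1, e, e⁻¹} : Finset K) (by
      have := Finset.card_le_four (a := (0 : K)) (b := -1) (c := e) (d := e⁻¹)
      omega)
    simp only [Finset.mem_insert, Finset.mem_singleton, not_or] at hβ
    have hroots : ∀ z : K, z ≠ e → z ≠ e⁻¹ → z ^ 2 - (e + e⁻¹) * z + 1 ≠ 0 := by
      intro z h1 h2 h
      have : (z - e) * (z - e⁻¹) = 0 := by
        linear_combination h + mul_inv_cancel₀ he.1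
      rcases mul_eq_zero.1 this with h' | h'
      exacts [h1 (sub_eq_zero.1 h'), h2 (sub_eq_zero.1 h')]
    have hee : e ≠ e⁻¹ := fun h => by
      have : (e - 1) * (e + 1) = 0 := by
        have h' : e * e = 1 := by nth_rw 2 [h]; exact mul_inv_cancel₀ he.1
        linear_combination h'
      rcases mul_eq_zero.1 this with h' | h'
      exacts [he.2.1 (sub_eq_zero.1 h'), he.2.2 (eq_neg_of_add_eq_zero_left h')]
    obtain ⟨d₂, hd₂⟩ : ∃ d₂, d₂ = D / (-β) ^ (s - 2) := ⟨_, rfl⟩
    have hd₂0 : d₂ ≠ 0 := hd₂ ▸ div_ne_zero hD (pow_ne_zero _ (neg_ne_zero.2 hβ.1))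
    obtain ⟨t₂, t', hne, hirr, hirr'⟩ := exists_two_irr h4 hd₂0
    have hne' : t₂ ≠ e + e⁻¹ ∨ d₂ ≠ (1 : K) := by
      by_contra hc
      push Not at hc
      exact hirr e (by rw [hc.1, hc.2]; linear_combination -mul_inv_cancel₀ he.1)
    refine exists_evenTypes_of h4 hs (α := -1) (β := β) (t₁ := e + e⁻¹) (t₂ := t₂) (d₁ := 1) (d₂ := d₂)
      (by simp) hβ.1 one_ne_zero hd₂0 (fun h => hβ.2.1 h.symm) hirr ?_ hne' (hroots β hβ.2.2.1 hβ.2.2.2)
      (Or.inr (hroots (-1) (fun h => he.2.2 h.symm) fun h => he.2.2 (by rw [← inv_inv e, ← h]; simp)))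
      (Or.inl ⟨e, by linear_combination -mul_inv_cancel₀ he.1⟩) ?_ ⟨1, by simp⟩ fun _ _ => rfl
    · intro r hr h
      by_cases h1 : r = e
      · exact hee (by rw [h1] at h; linear_combination h)
      by_cases h2 : r = e⁻¹
      · exact hee (by rw [h2] at h; linear_combination -h)
      exact hroots r h1 h2 hr
    · rw [neg_neg, one_pow, one_mul, mul_one, hd₂, mul_div_cancel₀ _ (pow_ne_zero _ (neg_ne_zero.2 hβ.1))]

/-- The types in odd dimension `2 s + 1`. -/
structure OddTypes (p₁ p₂ : K[X]) (c : K) (s : ℕ) (D : K) : Prop where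
  c_ne : c ≠ 0
  pair : Pairable p₂ p₁
  deg : p₁.natDegree = s
  cop : IsCoprime p₂ p₁
  cop₁ : IsCoprime (X - C c) p₁
  cop₂ : IsCoprime p₂ (X - C c)
  self : Pairable (p₂ * (X - C c) * p₁) (p₂ * (X - C c) * p₁)
  coeff : p₂.coeff 0 * p₁.coeff 0 * c = D

theorem exists_oddTypes_of (h4 : 4 ≤ Fintype.card K) {s : ℕ} {p₁ p₂ : K[X]} {c D : K} (hc : c ≠ 0)
    (hpair : Pairable p₂ p₁) (hdeg : p₁.natDegree = s) (hcop : IsCoprime p₂ p₁) (h1 : p₁.eval c ≠ 0)
    (h2 : p₂.eval c ≠ 0) (hD : p₂.coeff 0 * p₁.coeff 0 * c = D) : OddTypes p₁ p₂ c s D := by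
  refine ⟨hc, hpair, hdeg, hcop, coprime_lin h1, (coprime_lin h2).symm, ?_, hD⟩
  have h := (hpair.mul h4 (pairable_lin hc hc) (coprime_lin h2).symm (coprime_lin h1).symm).mul h4 hpair.symm
    (hcop.mul_left (coprime_lin h1)) (hcop.symm.mul_left (coprime_lin h2))
  rwa [show p₁ * (X - C c) * p₂ = p₂ * (X - C c) * p₁ by ring] at h

theorem exists_oddTypes (h4 : 4 ≤ Fintype.card K) {s : ℕ} (hs : 2 ≤ s) {δ : K} (hδ : δ ≠ 0) :
    ∃ p₁ p₂ c, OddTypes p₁ p₂ c s (δ ^ 2) := by
  classical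
  by_cases hq : Fintype.card K = 4
  · have h2 := two_eq_zero_of_four hq
    have hneg : ∀ x : K, -x = x := fun x => by linear_combination (-x) * h2
    obtain ⟨α, hα⟩ := exists_notMem_card ({0, 1} : Finset K) (by
      have := Finset.card_insert_le (0 : K) {1}
      simp at this ⊢; omega)
    simp only [Finset.mem_insert, Finset.mem_singleton, not_or] at hα
    have hne : α ≠ α⁻¹ := fun h => hα.2 (by
      have h' : α * α = 1 := by nth_rw 2 [h]; exact mul_inv_cancel₀ hα.1
      linear_combination (pow_eq_zero_iff (n := 2) (by norm_num)).1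
        (show (α - 1) ^ 2 = 0 by linear_combination h' + (1 - α) * h2))
    obtain ⟨t₁, t₂, htne, h1, h2'⟩ := exists_two_irr h4 hδ
    have hc : IsCoprime (quad t₂ δ) (quad t₁ δ) := coprime_irr h2' (Or.inl htne.symm)
    refine ⟨(X - C α) ^ (s - 2) * quad t₁ δ, (X - C α⁻¹) ^ (s - 2) * quad t₂ δ, 1, exists_oddTypes_of h4
      one_ne_zero ?_ ?_ ?_ ?_ ?_ ?_⟩
    · refine (pairable_regular h4 (inv_ne_zero hα.1) hα.1 _).mul h4 (pairable_quad hδ hδ (sep_of_irr h2')
        (sep_of_irr h1) (Or.inr (Or.inr ?_))) (coprime_pow_quad (h2' _) _) (coprime_pow_quad (h1 _) _)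
      intro h
      apply htne
      have h3 : (t₁ + t₂) ^ 2 = 0 := by linear_combination (mul_left_cancel₀ hδ h) + (t₁ * t₂ + t₂ ^ 2) * h2
      linear_combination (pow_eq_zero_iff (n := 2) (by norm_num)).1 h3 - t₂ * h2
    · rw [((monic_X_sub_C α).pow _).natDegree_mul (quad_monic _ _), (monic_X_sub_C α).natDegree_pow, quad_natDegree]
      simp; omega
    · exact ((coprime_lin_pow hne.symm _ _).mul_right (coprime_pow_quad (h1 _) _)).mul_left
        ((coprime_pow_quad (h2' _) _).symm.mul_right hc)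
    · rw [eval_mul, quad_eval, eval_pow, eval_sub, eval_X, eval_C]
      exact mul_ne_zero (pow_ne_zero _ (sub_ne_zero.2 (Ne.symm hα.2))) (h1 1)
    · rw [eval_mul, quad_eval, eval_pow, eval_sub, eval_X, eval_C]
      exact mul_ne_zero (pow_ne_zero _ (sub_ne_zero.2 fun h => hα.2 (inv_eq_one.1 h.symm))) (h2' 1)
    · rw [mul_coeff_zero, mul_coeff_zero, pow_coeff_zero, pow_coeff_zero, quad_coeff, quad_coeff, hneg, hneg,
        mul_one, mul_mul_mul_comm, ← mul_pow, inv_mul_cancel₀ hα.1, one_pow, one_mul, sq]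
  · obtain ⟨α, hα⟩ : ∃ α : K, α ≠ 0 ∧ α ≠ 1 ∧ α ≠ -1 ∧ α ≠ δ ^ 2 ∧ α ≠ (δ ^ 2)⁻¹ := by
      by_cases hq5 : Fintype.card K = 5
      · obtain ⟨α, hα⟩ := exists_notMem_card ({0, 1, -1} : Finset K) (by
          have := Finset.card_le_three (a := (0 : K)) (b := 1) (c := -1)
          omega)
        simp only [Finset.mem_insert, Finset.mem_singleton, not_or] at hα
        have hpm : δ ^ 2 = 1 ∨ δ ^ 2 = -1 := by
          have h := FiniteField.pow_card_sub_one_eq_one δ hδ
          rw [hq5] at h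
          rcases mul_eq_zero.1 (show (δ ^ 2 - 1) * (δ ^ 2 + 1) = 0 by linear_combination h) with h' | h'
          exacts [Or.inl (sub_eq_zero.1 h'), Or.inr (eq_neg_of_add_eq_zero_left h')]
        refine ⟨α, hα.1, hα.2.1, hα.2.2, ?_, ?_⟩ <;> rcases hpm with h | h <;> simp [h, hα.2.1, hα.2.2]
      · obtain ⟨α, hα⟩ := exists_notMem_card ({0, 1, -1, δ ^ 2, (δ ^ 2)⁻¹} : Finset K) (by
          have := Finset.card_le_five (a := (0 : K)) (b := 1) (c := -1) (d := δ ^ 2) (e := (δ ^ 2)⁻¹)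
          omega)
        simp only [Finset.mem_insert, Finset.mem_singleton, not_or] at hα
        exact ⟨α, hα⟩
    obtain ⟨hα0, hα1, hαm, hαD, hαD'⟩ := hα
    have hne : α ≠ α⁻¹ := fun h => by
      have h' : α * α = 1 := by nth_rw 2 [h]; exact mul_inv_cancel₀ hα0
      rcases mul_eq_zero.1 (show (α - 1) * (α + 1) = 0 by linear_combination h') with h' | h'
      exacts [hα1 (sub_eq_zero.1 h'), hαm (eq_neg_of_add_eq_zero_left h')]
    refine ⟨(X - C α) ^ s, (X - C α⁻¹) ^ s, δ ^ 2, exists_oddTypes_of h4 (pow_ne_zero _ hδ)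
      (pairable_regular h4 (inv_ne_zero hα0) hα0 s) (by simp [(monic_X_sub_C α).natDegree_pow])
      (coprime_lin_pow hne.symm _ _) ?_ ?_ ?_⟩
    · simp [sub_eq_zero, Ne.symm hαD]
    · simp only [eval_pow, eval_sub, eval_X, eval_C]
      exact pow_ne_zero _ (sub_ne_zero.2 fun h => hαD' (by rw [h, inv_inv]))
    · rw [pow_coeff_zero, pow_coeff_zero, ← mul_pow, neg_mul_neg, inv_mul_cancel₀ hα0, one_pow, one_mul]

end Cfsg.Agent.LevCover
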