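import Cfsg.Agent.Lib.LevCover.Greedy
import Cfsg.Agent.Lib.LevCover.Types

/-!
Endomorphisms with small eigenspaces in dimension at least four: a large class inside the products of two
conjugates, and all non-scalar endomorphisms as products of four or more.
-/

set_option autoImplicit false

namespace Cfsg.Agent.LevCover

open Module Polynomial Cfsg.Agent.GL.TwoReg

universe u

variable {K : Type u} [Field K] {V : Type u} [AddCommGroup V] [Module K V] [FiniteDimensional K V]

/-- A product of `k` conjugates. -/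
def SProd (A : End K V) (k : ℕ) (g : End K V) : Prop :=
  ∃ L : List (End K V), L.length = k ∧ (∀ x ∈ L, SConj A x) ∧ L.prod = g

variable {U : Type u} [AddCommGroup U] [Module K U] [FiniteDimensional K U]

theorem det_evenModel (X Y : End K U) :
    LinearMap.det ((X.comp (LinearMap.snd K U U)).prod (LinearMap.fst K U U + Y.comp (LinearMap.snd K U U))) =
      (-1) ^ finrank K U * LinearMap.det X := by
  obtain ⟨J, hJ, hJa⟩ := exists_swap (K := K) (U := U)
  rw [show (X.comp (LinearMap.snd K U U)).prod (LinearMap.fst K U U + Y.comp (LinearMap.snd K U U)) =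
      (J : (U × U) →ₗ[K] U × U).comp (upper ((-1 : K) • (1 : End K U)) (-Y) X) from
      LinearMap.ext fun ⟨u, v⟩ => by simp [hJa, add_comm],
    LinearMap.det_comp, hJ, one_mul, det_upper, LinearMap.det_smul, map_one, mul_one]

variable [Fintype K]

/-- The outcome of the constructions. -/
def BaseProp (A : End K V) : Prop :=
  ∃ p : K[X], Pairable p p ∧ p.natDegree = finrank K V ∧ p.coeff 0 ^ 2 = LinearMap.det A ^ 4 ∧ TwoProd A p ∧
    (finrank K V = 4 → LinearMap.det A = 1 → Recip p)

/-- Coordinates from a good choice in even dimension. -/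
theorem exists_even_coords {s : ℕ} {A : End K V} (u : Fin s → V)
    (hu : LinearIndependent K (Sum.elim u fun i => A (u i))) (hn : finrank K V = 2 * s) :
    ∃ (e₀ : ((Fin s → K) × (Fin s → K)) ≃ₗ[K] V) (X Y : End K (Fin s → K)),
      ∀ f g, A (e₀ (f, g)) = e₀ (X g, f + Y g) := by
  let φ := Fintype.linearCombination K u
  let L : ((Fin s → K) × (Fin s → K)) →ₗ[K] V := φ.coprod (A.comp φ)
  have hL : Function.Injective L := by
    apply LinearMap.ker_eq_bot.1
    rw [LinearMap.ker_eq_bot']
    rintro ⟨f, g⟩ h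
    have h' := Fintype.linearIndependent_iff.1 hu (Sum.elim f g) (by
      rw [Fintype.sum_sum_type]
      simpa [L, φ, Fintype.linearCombination_apply, map_sum] using h)
    exact Prod.ext (funext fun i => h' (Sum.inl i)) (funext fun i => h' (Sum.inr i))
  let e₀ := LinearEquiv.ofBijective L ⟨hL, (LinearMap.injective_iff_surjective_of_finrank_eq_finrank
    (by simp [hn]; omega)).1 hL⟩
  have he₀ : ∀ z, e₀ z = L z := fun z => rfl
  let W : (Fin s → K) →ₗ[K] (Fin s → K) × (Fin s → K) :=
    (e₀.symm : V →ₗ[K] _).comp (A.comp ((e₀ : _ →ₗ[K] V).comp (LinearMap.inr K (Fin s → K) (Fin s → K))))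
  refine ⟨e₀, (LinearMap.fst K _ _).comp W, (LinearMap.snd K _ _).comp W, fun f g => ?_⟩
  have h1 : A (e₀ (f, 0)) = e₀ (0, f) := by simp [he₀, L]
  have h2 : A (e₀ (0, g)) = e₀ (W g) := by simp [W]
  rw [show ((f, g) : (Fin s → K) × (Fin s → K)) = (f, 0) + (0, g) by simp, map_add, map_add, h1, h2, ← map_add]
  congr 1
  simp
  exact Prod.ext (by simp) (by simp)

theorem baseProp_even (h4 : 4 ≤ Fintype.card K) {s : ℕ} (hs : 2 ≤ s) {A : End K V} (hn : finrank K V = 2 * s)
    (hnr : ∀ a b : K, (A - a • 1) * (A - b • 1) ≠ 0) (hdA : LinearMap.det A ≠ 0) (e₀ : ((Fin s → K) × (Fin s → K)) ≃ₗ[K] V)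
    (X Y : End K (Fin s → K)) (hA₀ : ∀ f g, A (e₀ (f, g)) = e₀ (X g, f + Y g)) : BaseProp A := by
  classical
  have hU : finrank K (Fin s → K) = s := Module.finrank_fintype_fun_eq_card K |>.trans (by simp)
  have hdet : ∀ (e : ((Fin s → K) × (Fin s → K)) ≃ₗ[K] V) (X Y : End K (Fin s → K)),
      (∀ f g, A (e (f, g)) = e (X g, f + Y g)) → LinearMap.det A = (-1) ^ s * LinearMap.det X := by
    intro e X Y h
    have h1 := det_evenModel X Y
    rw [hU] at h1
    rw [← h1]
    exact Sim.det_eq ⟨e, fun ⟨f, g⟩ => (h f g).symm⟩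
  have hns : ∀ (e : ((Fin s → K) × (Fin s → K)) ≃ₗ[K] V) (X Y : End K (Fin s → K)),
      (∀ f g, A (e (f, g)) = e (X g, f + Y g)) → NS X → BaseProp A := by
    intro e X Y h hX
    have hd := hdet e X Y h
    have hX0 : LinearMap.det X ≠ 0 := fun h0 => hdA (by rw [hd, h0, mul_zero])
    obtain ⟨p₁, p₂, hT⟩ := exists_evenTypes h4 hs (pow_ne_zero 2 hX0)
    obtain ⟨r, hr⟩ := hT.root
    have hsq : ((-1 : K) ^ s) ^ 2 = 1 := by rw [← pow_mul, pow_mul', neg_one_sq, one_pow]
    refine ⟨p₂ * p₁, hT.self, ?_, ?_, twoProd_even (hU.symm ▸ hs) e X Y h hX hX0 hT.pair (hT.deg.trans hU.symm)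
      hT.cop hT.full hT.coeff hr, fun h4' h1 => hT.recip (by omega) ?_⟩
    · rw [hT.pair.1.natDegree_mul hT.pair.2.1, hT.pair.2.2.1, hT.deg, hn, two_mul]
    · rw [mul_coeff_zero, hT.coeff, hd]
      linear_combination (LinearMap.det X ^ 4 * (-1 - ((-1 : K) ^ s) ^ 2)) * hsq
    · rw [hd] at h1
      linear_combination ((-1 : K) ^ s * LinearMap.det X + 1) * h1 - LinearMap.det X ^ 2 * hsq
  by_cases hX : NS X
  · exact hns e₀ X Y hA₀ hX
  obtain ⟨x, rfl⟩ : ∃ x, X = x • 1 := by simpa [NS] using hX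
  have hdA' := hdet e₀ _ Y hA₀
  rw [LinearMap.det_smul, map_one, mul_one, hU] at hdA'
  have hx : x ≠ 0 := fun h => hdA (by rw [hdA', h, zero_pow (by omega), mul_zero])
  by_cases hY : NS Y
  · -- move the subspace
    obtain ⟨ω, hω⟩ := hY.exists_noneigen
    obtain ⟨a, ha⟩ := exists_notMem_card ({0, -1, -2} : Finset K) (by
      have := Finset.card_le_three (a := (0 : K)) (b := -1) (c := -2)
      omega)
    simp only [Finset.mem_insert, Finset.mem_singleton, not_or] at ha
    have hω0 : ω ≠ 0 := by simpa using hω.ne_zero 0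
    obtain ⟨φ, hφ0, hφ1⟩ : ∃ φ : Dual K (Fin s → K), φ ω = 0 ∧ φ (Y ω) = a := by
      obtain ⟨φ, h1, h2⟩ := Submodule.exists_dual_map_eq_bot_of_notMem (p := K ∙ ω) (x := Y ω) (fun h => by
        obtain ⟨c, hc⟩ := Submodule.mem_span_singleton.1 h
        exact (pair_indep_iff hω0).1 hω c hc.symm) inferInstance
      have : φ ω ∈ (K ∙ ω).map φ := Submodule.mem_map_of_mem (Submodule.mem_span_singleton_self ω)
      rw [h2, Submodule.mem_bot] at this
      exact ⟨(a / φ (Y ω)) • φ, by simp [this], by simp [h1]⟩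
    let ι : (Fin s → K) →ₗ[K] (Fin s → K) × (Fin s → K) := LinearMap.id.prod (φ.smulRight ω)
    let A₀ : End K ((Fin s → K) × (Fin s → K)) := ((x • (1 : End K (Fin s → K))).comp (LinearMap.snd K _ _)).prod
      (LinearMap.fst K _ _ + Y.comp (LinearMap.snd K _ _))
    let L := ι.coprod (A₀.comp ι)
    have hLa : ∀ u v, L (u, v) = (u + x • φ v • ω, φ u • ω + (v + φ v • Y ω)) := fun u v => by
      simp [L, ι, A₀]
    have hL : Function.Injective L := by
      apply LinearMap.ker_eq_bot.1
      rw [LinearMap.ker_eq_bot']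
      rintro ⟨u, v⟩ h
      rw [hLa, Prod.mk_eq_zero] at h
      obtain ⟨h1, h2⟩ := h
      have hu : φ u = 0 := by simpa [hφ0] using congrArg φ h1
      rw [hu, zero_smul, zero_add] at h2
      have hv : φ v = 0 := by
        have := congrArg φ h2
        rw [map_add, map_smul, hφ1, map_zero, smul_eq_mul] at this
        refine (mul_eq_zero.1 (show φ v * (1 + a) = 0 by linear_combination this)).resolve_right fun h => ha.2.1 ?_
        linear_combination h
      rw [hv, zero_smul, add_zero] at h2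
      rw [hv, zero_smul, smul_zero, add_zero] at h1
      simp [h1, h2]
    let e : ((Fin s → K) × (Fin s → K)) ≃ₗ[K] ((Fin s → K) × (Fin s → K)) :=
      LinearEquiv.ofBijective L ⟨hL, LinearMap.surjective_of_injective hL⟩
    let e₁ := e.trans e₀
    have he : ∀ z, e z = L z := fun z => rfl
    have hA1 : ∀ z, A (e₀ z) = e₀ (A₀ z) := fun ⟨f, g⟩ => by simpa [A₀] using hA₀ f g
    let W : (Fin s → K) →ₗ[K] (Fin s → K) × (Fin s → K) :=
      (e.symm : _ →ₗ[K] _).comp (A₀.comp (A₀.comp ι))
    refine hns e₁ ((LinearMap.fst K _ _).comp W) ((LinearMap.snd K _ _).comp W) (fun f g => ?_) fun x' hx' => ?_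
    · show A (e₀ (e (f, g))) = e₀ (e _)
      rw [hA1]
      congr 1
      have hW : e (W g) = A₀ (A₀ (ι g)) := by simp [W]
      have hsum : ((LinearMap.fst K _ _).comp W g, f + (LinearMap.snd K _ _).comp W g) =
          ((0, f) : (Fin s → K) × (Fin s → K)) + W g := Prod.ext (by simp) (by simp)
      rw [hsum, map_add e, hW]
      simp [he, L, map_add]
    · have key : ∀ u, ∃ w, A₀ (A₀ (ι u)) - x' • ι u = A₀ (ι w) := fun u => by
        refine ⟨(W u).2, ?_⟩
        have hW : e (W u) = A₀ (A₀ (ι u)) := by simp [W]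
        have h1 : (W u).1 = x' • u := by simpa using LinearMap.congr_fun hx' u
        rw [← hW, show W u = ((W u).1, (W u).2) from rfl, h1]
        simp [he, L, map_smul]
      have hAA : ∀ u, A₀ (A₀ (ι u)) = (x • (u + φ u • Y ω), x • φ u • ω + Y (u + φ u • Y ω)) := fun u => by
        simp [ι, A₀]
      obtain ⟨w, hw⟩ := key ω
      obtain ⟨w', hw'⟩ := key (Y ω)
      rw [hAA, Prod.ext_iff] at hw hw'
      simp [ι, A₀, hφ0, hφ1] at hw hw'
      obtain ⟨h1, h2⟩ := hw
      obtain ⟨h1', -⟩ := hw'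
      have hind := LinearIndependent.pair_iff.1 hω
      have e1 : x - x' = x * φ w := by
        have := hind (x - x' - x * φ w) 0 (by
          rw [zero_smul, add_zero, sub_smul, sub_smul, mul_smul, ← h1]; abel)
        exact sub_eq_zero.1 this.1
      have e2 : (1 - φ w) * a = φ w := by
        have := congrArg φ h2
        rw [map_add, map_smul, hφ1, smul_eq_mul] at this
        linear_combination this
      have e3 : x - x' + x * a = 0 := (hind (-(x * φ w')) (x - x' + x * a) (by
        rw [neg_smul, mul_smul, ← h1', add_smul, sub_smul, mul_smul]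
        simp only [smul_add, smul_smul]
        abel)).2
      have hpw : φ w = -a := mul_left_cancel₀ hx (by linear_combination -e1 + e3)
      rw [hpw] at e2
      have : a * (a + 2) = 0 := by linear_combination e2
      rcases mul_eq_zero.1 this with h | h
      exacts [ha.1 h, ha.2.2 (eq_neg_of_add_eq_zero_left h)]
  -- the quadratic case
  obtain ⟨y, rfl⟩ : ∃ y, Y = y • 1 := by simpa [NS] using hY
  have hirr : ∀ r, r ^ 2 - y * r + -x ≠ 0 := by
    intro r hr
    have hq : (A - r • 1) * (A - (y - r) • 1) = 0 := by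
      refine LinearMap.ext fun z => ?_
      obtain ⟨⟨f, g⟩, rfl⟩ := e₀.surjective z
      simp [Module.End.mul_apply, hA₀, ← map_smul, ← map_sub]
      refine ⟨?_, ?_⟩
      · match_scalars <;> first | ring1 | linear_combination hr | linear_combination -hr
      · match_scalars <;> first | ring1 | linear_combination hr | linear_combination -hr
    exact hnr r (y - r) hq
  have hfin : finrank K (Fin s → K) = s := hU
  obtain ⟨α, hα⟩ := exists_notMem_card ({0, x, -x} : Finset K) (by
    have := Finset.card_le_three (a := (0 : K)) (b := x) (c := -x)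
    omega)
  simp only [Finset.mem_insert, Finset.mem_singleton, not_or] at hα
  have hne : x ^ 2 / α ≠ α := fun h => by
    rw [div_eq_iff hα.1] at h
    rcases mul_eq_zero.1 (show (α - x) * (α + x) = 0 by linear_combination -h) with h' | h'
    exacts [hα.2.1 (sub_eq_zero.1 h'), hα.2.2 (eq_neg_of_add_eq_zero_left h')]
  have hβ : x ^ 2 / α ≠ 0 := div_ne_zero (pow_ne_zero _ hx) hα.1
  have hT := twoProd_quadratic (hU.symm ▸ (show 1 ≤ s by omega)) e₀ hirr (fun f g => by simpa using hA₀ f g) hα.1 hne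
  rw [hU] at hT
  refine ⟨_, ?_, ?_, ?_, hT, fun h4' h1 => ?_⟩
  · have h := (pairable_regular h4 hβ hα.1 s).mul h4 (pairable_regular h4 hα.1 hβ s)
      (coprime_lin_pow hne _ _) (coprime_lin_pow hne.symm _ _)
    rwa [mul_comm ((X - C α) ^ s) ((X - C (x ^ 2 / α)) ^ s)] at h
  · rw [((monic_X_sub_C _).pow _).natDegree_mul ((monic_X_sub_C _).pow _), hn]
    simp [(monic_X_sub_C α).natDegree_pow, (monic_X_sub_C (x ^ 2 / α)).natDegree_pow]
    omega
  · rw [mul_coeff_zero, pow_coeff_zero, pow_coeff_zero, ← mul_pow, neg_mul_neg, div_mul_cancel₀ _ hα.1, hdA']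
    have hsq : ((-1 : K) ^ s) ^ 2 = 1 := by rw [← pow_mul, pow_mul', neg_one_sq, one_pow]
    linear_combination ((x ^ s) ^ 4 * (-1 - ((-1 : K) ^ s) ^ 2)) * hsq
  · obtain rfl : s = 2 := by omega
    have hx2 : x ^ 2 = 1 := by rw [hdA'] at h1; linear_combination h1
    have hfac : ∀ e f : K, e * f = 1 → (X - C e) ^ 2 * (X - C f) ^ 2 = quad (e + f) (1 : K) * quad (e + f) 1 := by
      intro e f hef
      rw [← hef, quad_factor_roots]
      ring
    rw [hfac _ _ (by rw [div_mul_cancel₀ _ hα.1, hx2])]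
    exact recip_quad_mul

theorem baseProp_of_good (h4 : 4 ≤ Fintype.card K) {A : End K V} (hdA : LinearMap.det A ≠ 0)
    (hn : 4 ≤ finrank K V) {s : ℕ} (u : Fin s → V) (hu : LinearIndependent K (Sum.elim u fun i => A (u i)))
    (hs : s = finrank K V / 2) (hnr : ∀ a b : K, (A - a • 1) * (A - b • 1) ≠ 0)
    (hrob : finrank K V = 2 * s + 1 → ∀ c : K,
      ¬ LinearMap.range (A - c • 1) ≤ Submodule.span K (Set.range (Sum.elim u fun i => A (u i)))) : BaseProp A := by
  classical
  rcases Nat.even_or_odd (finrank K V) with ⟨k, hk⟩ | ⟨k, hk⟩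
  · obtain ⟨e₀, X, Y, h⟩ := exists_even_coords u hu (by omega)
    exact baseProp_even h4 (by omega) (by omega) hnr hdA e₀ X Y h
  have hn' : finrank K V = 2 * s + 1 := by omega
  have hs2 : 2 ≤ s := by omega
  obtain ⟨S, hSdef⟩ : ∃ S, S = Submodule.span K (Set.range (Sum.elim u fun i => A (u i))) := ⟨_, rfl⟩
  have hS : finrank K S = 2 * s := by rw [hSdef, finrank_span_eq_card hu]; simp; omega
  obtain ⟨w, hw⟩ : ∃ w, w ∉ S := by
    by_contra hne
    push Not at hne
    rw [Submodule.eq_top_iff'.2 hne, finrank_top] at hS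
    omega
  let φ := Fintype.linearCombination K u
  let L : ((Fin s → K) × ((Fin s → K) × K)) →ₗ[K] V :=
    φ.coprod ((A.comp φ).coprod ((LinearMap.id (R := K) (M := K)).smulRight w))
  have hS' : ∀ f g, φ f + A (φ g) ∈ S := fun f g => by
    simp only [φ, Fintype.linearCombination_apply, map_sum, map_smul, hSdef]
    exact Submodule.add_mem _
      (Submodule.sum_mem _ fun i _ => Submodule.smul_mem _ _ (Submodule.subset_span ⟨Sum.inl i, rfl⟩))
      (Submodule.sum_mem _ fun i _ => Submodule.smul_mem _ _ (Submodule.subset_span ⟨Sum.inr i, rfl⟩))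
  have hL : Function.Injective L := by
    apply LinearMap.ker_eq_bot.1
    rw [LinearMap.ker_eq_bot']
    rintro ⟨f, g, t⟩ h
    have h2 : φ f + A (φ g) + t • w = 0 := by simpa [L, add_assoc] using h
    have ht : t = 0 := by
      by_contra ht
      refine hw ((S.smul_mem_iff ht).1 ?_)
      rw [eq_neg_of_add_eq_zero_right h2]
      exact S.neg_mem (hS' f g)
    subst ht
    rw [zero_smul, add_zero] at h2
    have h' := Fintype.linearIndependent_iff.1 hu (Sum.elim f g) (by
      rw [Fintype.sum_sum_type]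
      simpa [φ, Fintype.linearCombination_apply, map_sum] using h2)
    exact Prod.ext (funext fun i => h' (Sum.inl i)) (Prod.ext (funext fun i => h' (Sum.inr i)) rfl)
  let e₀ := LinearEquiv.ofBijective L ⟨hL, (LinearMap.injective_iff_surjective_of_finrank_eq_finrank
    (by simp [hn']; omega)).1 hL⟩
  have he₀ : ∀ z, e₀ z = L z := fun z => rfl
  let W : ((Fin s → K) × K) →ₗ[K] (Fin s → K) × ((Fin s → K) × K) :=
    (e₀.symm : V →ₗ[K] _).comp (A.comp ((e₀ : _ →ₗ[K] V).comp (LinearMap.inr K (Fin s → K) ((Fin s → K) × K))))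
  let M : End K ((Fin s → K) × K) :=
    ((LinearMap.fst K _ _).comp W).prod ((LinearMap.snd K _ _).comp ((LinearMap.snd K _ _).comp W))
  let N : ((Fin s → K) × K) →ₗ[K] (Fin s → K) := (LinearMap.fst K _ _).comp ((LinearMap.snd K _ _).comp W)
  have h1 : ∀ f, A (e₀ (f, 0)) = e₀ (0, (f, 0)) := fun f => by simp [he₀, L]
  have hW : ∀ z, A (e₀ (0, z)) = e₀ (W z) := fun z => by simp [W]
  have hform : ∀ f g t, A (e₀ (f, (g, t))) = e₀ ((M (g, t)).1, (f + N.comp (LinearMap.inl K _ _) g +
      t • N (0, 1), (M (g, t)).2)) := by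
    intro f g t
    rw [show ((f, (g, t)) : (Fin s → K) × ((Fin s → K) × K)) = (f, 0) + (0, (g, t)) by simp, map_add, map_add,
      h1, hW, ← map_add]
    congr 1
    have hN : N (g, t) = N.comp (LinearMap.inl K _ _) g + t • N (0, 1) := by
      rw [show ((g, t) : (Fin s → K) × K) = LinearMap.inl K _ _ g + t • ((0, 1) : (Fin s → K) × K) by simp,
        map_add, map_smul]
      rfl
    refine Prod.ext (by simp [M]) (Prod.ext ?_ (by simp [M]))
    simp only [Prod.snd_add, Prod.fst_add]
    rw [add_assoc, ← hN]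
    rfl
  have hAinj : Function.Injective A := by
    apply LinearMap.ker_eq_bot.1
    by_contra hk'
    exact hdA (LinearMap.det_eq_zero_iff_ker_ne_bot.2 hk')
  have hM : LinearMap.det M ≠ 0 := by
    intro hdM
    obtain ⟨z, hz, hz0⟩ := Submodule.exists_mem_ne_zero_of_ne_bot (LinearMap.det_eq_zero_iff_ker_ne_bot.1 hdM)
    rw [LinearMap.mem_ker] at hz
    obtain ⟨g, t⟩ := z
    have h := hform (-(N.comp (LinearMap.inl K _ _) g + t • N (0, 1))) g t
    rw [hz] at h
    have h' : A (e₀ (-(N.comp (LinearMap.inl K _ _) g + t • N (0, 1)), (g, t))) = A 0 := by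
      rw [h, map_zero, ← e₀.map_zero]
      congr 1
      refine Prod.ext rfl (Prod.ext ?_ rfl)
      simp
    have := e₀.map_eq_zero_iff.1 (hAinj h')
    exact hz0 (Prod.ext_iff.1 this).2
  have hρ : ∃ g, (M (g, 0)).2 ≠ 0 := by
    by_contra hne
    push Not at hne
    have hinv : ∀ z ∈ S, A z ∈ S := by
      intro z hz
      have hz' : ∃ f g, z = e₀ (f, (g, (0 : K))) := by
        rw [hSdef] at hz
        obtain ⟨c, hc⟩ := (Submodule.mem_span_range_iff_exists_fun K).1 hz
        refine ⟨fun i => c (Sum.inl i), fun i => c (Sum.inr i), ?_⟩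
        rw [← hc, Fintype.sum_sum_type]
        simp [he₀, L, φ, Fintype.linearCombination_apply, map_sum]
      obtain ⟨f, g, rfl⟩ := hz'
      rw [hform, hne g]
      have := hS' (M (g, 0)).1 (f + N.comp (LinearMap.inl K _ _) g + (0 : K) • N (0, 1))
      simpa [he₀, L] using this
    obtain ⟨c, hc⟩ : ∃ c : K, A w - c • w ∈ S := by
      obtain ⟨⟨f, g, t⟩, hft⟩ := e₀.surjective (A w)
      refine ⟨t, ?_⟩
      rw [← hft]
      simpa [he₀, L, ← add_assoc] using hS' f g
    have hrange : LinearMap.range (A - c • 1) ≤ S := by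
      rintro _ ⟨z, rfl⟩
      obtain ⟨⟨f, g, t⟩, rfl⟩ := e₀.surjective z
      have hz : e₀ (f, (g, t)) = φ f + A (φ g) + t • w := by simp [he₀, L, add_assoc]
      rw [hz]
      have : (A - c • 1) (φ f + A (φ g) + t • w) =
          (A (φ f + A (φ g)) - c • (φ f + A (φ g))) + t • (A w - c • w) := by
        simp [smul_sub, smul_smul, mul_comm c t]; abel
      rw [this]
      exact S.add_mem (S.sub_mem (hinv _ (hS' f g)) (S.smul_mem _ (hS' f g))) (S.smul_mem _ hc)
    exact hrob hn' c (hSdef ▸ hrange)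
  have hU : finrank K (Fin s → K) = s := Module.finrank_fintype_fun_eq_card K |>.trans (by simp)
  obtain ⟨p₁, p₂, c, hT⟩ := exists_oddTypes h4 hs2 hdA
  refine ⟨p₂ * (X - C c) * p₁, hT.self, ?_, ?_, twoProd_odd (hU.symm ▸ hs2) e₀ M (N.comp (LinearMap.inl K _ _))
    (N (0, 1)) hM hρ hform hT.c_ne hT.pair (hT.deg.trans hU.symm) hT.cop hT.cop₁ hT.cop₂ hT.coeff, fun h => by omega⟩
  · rw [(hT.pair.1.mul (monic_X_sub_C c)).natDegree_mul hT.pair.2.1, hT.pair.1.natDegree_mul (monic_X_sub_C c),
      natDegree_X_sub_C, hT.pair.2.2.1, hT.deg]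
    omega
  · have h := hT.coeff
    simp only [mul_coeff_zero, coeff_sub, coeff_X_zero, coeff_C_zero, zero_sub]
    linear_combination (p₂.coeff 0 * p₁.coeff 0 * c + LinearMap.det A ^ 2) * h

theorem baseProp (h4 : 4 ≤ Fintype.card K) {A : End K V} (hA : LowMult A) (hdA : LinearMap.det A ≠ 0)
    (hn : 4 ≤ finrank K V) : BaseProp A := by
  classical
  obtain ⟨u, hu, hu0⟩ := exists_good h4 hA hdA hn (finrank K V / 2) (by omega)
  refine baseProp_of_good h4 hdA hn u hu rfl (fun a b h => ?_) fun hodd c hc => ?_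
  · have h1 : LinearMap.range (A - b • 1) ≤ LinearMap.ker (A - a • 1) := by
      rintro _ ⟨z, rfl⟩
      exact LinearMap.mem_ker.2 (by rw [← Module.End.mul_apply, h]; rfl)
    have h2 := LinearMap.finrank_range_add_finrank_ker (A - b • 1)
    have h3 := Submodule.finrank_mono h1
    have h5 := hA a
    have h6 := hA b
    omega
  · set S := Submodule.span K (Set.range (Sum.elim u fun i => A (u i))) with hSdef
    have hS : finrank K S = 2 * (finrank K V / 2) := by
      rw [hSdef, finrank_span_eq_card hu]; simp; omega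
    have h2 := LinearMap.finrank_range_add_finrank_ker (A - c • 1)
    have h3 := Submodule.finrank_mono hc
    have h5 := hA c
    have heq : LinearMap.range (A - c • 1) = S := Submodule.eq_of_le_of_finrank_le hc (by omega)
    refine hu0 (by omega) c ?_ ?_
    · intro hbot
      rw [hbot, finrank_bot] at h2
      omega
    · rw [heq, hSdef]
      exact Submodule.subset_span ⟨Sum.inl _, rfl⟩

/-- Four conjugates give every non-scalar endomorphism. -/
theorem sprod_four {A : End K V} (hA : BaseProp A) (hn : 2 ≤ finrank K V) {g : End K V} (hg : NS g)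
    (hdet : LinearMap.det g = LinearMap.det A ^ 4) : SProd A 4 g := by
  obtain ⟨p, hp, hd, hc, htwo, -⟩ := hA
  obtain ⟨x, y, hxy, hx, hy⟩ := hp.2.2.2.2.2 V g hd.symm (Or.inr hg) (by rw [hdet, ← hc, sq])
  obtain ⟨a, b, ha, hb, rfl⟩ := htwo x hx
  obtain ⟨c, d, hc', hd', rfl⟩ := htwo y hy
  exact ⟨[a, b, c, d], rfl, by simp [ha, hb, hc', hd'], by simp [hxy, mul_assoc]⟩

theorem SConj.det {A x : End K V} (h : SConj A x) : LinearMap.det x = LinearMap.det A := h.sim.det_eq

/-- One more conjugate. -/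
theorem sprod_succ {A : End K V} (hA : NS A) (hdA : LinearMap.det A ≠ 0) (hn : 3 ≤ finrank K V) {k : ℕ}
    (ih : ∀ g : End K V, NS g → LinearMap.det g = LinearMap.det A ^ k → SProd A k g) {g : End K V}
    (hdet : LinearMap.det g = LinearMap.det A ^ (k + 1)) : SProd A (k + 1) g := by
  obtain ⟨x, hx, hne⟩ := exists_sconj_not_prop hn hA g
  obtain ⟨e, he⟩ := exists_equiv_of_det (A := x) (hx.det ▸ hdA)
  let h := g * (e.symm : End K V)
  have hh : h * x = g := LinearMap.ext fun z => by simp [h, Module.End.mul_apply, ← he]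
  have hdh : LinearMap.det h = LinearMap.det A ^ k := by
    apply mul_right_cancel₀ hdA
    have := congrArg LinearMap.det hh
    rw [map_mul, hx.det] at this
    rw [← pow_succ, ← hdet, this]
  have hns : NS h := fun c hc => by
    rcases hne c with h' | h'
    · exact h' (by rw [← hh, hc, smul_one_mul])
    · subst h'
      rw [zero_smul] at hc
      have : Nontrivial V := Module.nontrivial_of_finrank_pos (R := K) (by omega)
      refine pow_ne_zero k hdA ?_
      rw [← hdh, hc, ← zero_smul K (1 : End K V), LinearMap.det_smul, zero_pow (by omega), zero_mul]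
  obtain ⟨L, hL, hLc, hLp⟩ := ih h hns hdh
  refine ⟨L ++ [x], by simp [hL], fun y hy => ?_, by simp [hLp, hh]⟩
  rcases List.mem_append.1 hy with h' | h'
  · exact hLc y h'
  · simp at h'; exact h' ▸ hx

theorem sprod_of_baseProp {A : End K V} (hbase : BaseProp A) (hNS : NS A) (hdA : LinearMap.det A ≠ 0)
    (hn : 4 ≤ finrank K V) : ∀ k, 4 ≤ k → ∀ g : End K V, LinearMap.det g = LinearMap.det A ^ k →
      (4 < k ∨ NS g) → SProd A k g := by
  intro k hk
  induction k, hk using Nat.le_induction with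
  | base =>
    intro g hdet h
    exact sprod_four hbase (by omega) (g := g) (h.resolve_left (lt_irrefl _)) hdet
  | succ k hk ih =>
    exact fun g hdet _ => sprod_succ hNS hdA (by omega) (fun g' hg' hd' => ih g' hd' (Or.inr hg')) hdet

theorem sprod_of_lowMult (h4 : 4 ≤ Fintype.card K) {A : End K V} (hA : LowMult A) (hdA : LinearMap.det A ≠ 0)
    (hn : 4 ≤ finrank K V) : ∀ k, 4 ≤ k → ∀ g : End K V, LinearMap.det g = LinearMap.det A ^ k →
      (4 < k ∨ NS g) → SProd A k g :=
  sprod_of_baseProp (baseProp h4 hA hdA hn) (fun c hc => by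
    have h := hA c
    rw [hc, sub_self, LinearMap.ker_zero, finrank_top] at h
    omega) hdA hn

end Cfsg.Agent.LevCover
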