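import Cfsg.Agent.Lib.LevCover.Pairable

/-!
Conjugates under endomorphisms of determinant one and elementary facts about non-scalar endomorphisms.
-/

set_option autoImplicit false

namespace Cfsg.Agent.LevCover

open Module Polynomial

universe u

variable {K : Type u} [Field K] {V : Type u} [AddCommGroup V] [Module K V]

/-- Conjugate by an automorphism of determinant one. -/
def SConj (A x : End K V) : Prop := ∃ e : V ≃ₗ[K] V, LinearMap.det (e : V →ₗ[K] V) = 1 ∧ x = e.conj A

/-- The centraliser has every determinant. -/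
def FullDet (A : End K V) : Prop :=
  ∀ d : K, d ≠ 0 → ∃ e : V ≃ₗ[K] V, LinearMap.det (e : V →ₗ[K] V) = d ∧ e.conj A = A

/-- No common eigenvector with a common eigenvalue. -/
def NoEig (L : List (End K V)) : Prop := ∀ (z : V) (ν : K), z ≠ 0 → ∃ x ∈ L, x z ≠ ν • z

/-- Non-scalar. -/
def NS (A : End K V) : Prop := ∀ c : K, A ≠ c • 1

/-- Without eigenvalues. -/
def Free (A : End K V) : Prop := ∀ (z : V) (c : K), A z = c • z → z = 0

theorem Sim.iff_conj {A x : End K V} : Sim A x ↔ ∃ e : V ≃ₗ[K] V, x = e.conj A :=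
  ⟨fun ⟨e, he⟩ => ⟨e, Sim.eq_conj he⟩, fun ⟨e, he⟩ => he ▸ sim_conj e A⟩

theorem SConj.sim {A x : End K V} (h : SConj A x) : Sim A x :=
  Sim.iff_conj.2 ⟨h.choose, h.choose_spec.2⟩

theorem det_trans (e f : V ≃ₗ[K] V) :
    LinearMap.det ((e.trans f : V ≃ₗ[K] V) : V →ₗ[K] V) =
      LinearMap.det (e : V →ₗ[K] V) * LinearMap.det (f : V →ₗ[K] V) := by
  rw [LinearEquiv.coe_trans, LinearMap.det_comp, mul_comm]

theorem det_equiv_ne_zero (e : V ≃ₗ[K] V) : LinearMap.det (e : V →ₗ[K] V) ≠ 0 :=
  (LinearEquiv.isUnit_det' e).ne_zero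

theorem conj_trans_apply {U W : Type u} [AddCommGroup U] [Module K U] [AddCommGroup W] [Module K W]
    (e : V ≃ₗ[K] U) (f : U ≃ₗ[K] W) (A : End K V) : (e.trans f).conj A = f.conj (e.conj A) :=
  LinearMap.ext fun x => by simp [LinearEquiv.conj_apply_apply]

theorem aeval_quad (g : End K V) (t d : K) : aeval g (quad t d) = g * g - t • g + d • 1 := by
  simp [quad, Algebra.algebraMap_eq_smul_one, pow_two]

theorem SConj.trans {A x y : End K V} (h : SConj A x) (h' : SConj x y) : SConj A y := by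
  obtain ⟨e, he, rfl⟩ := h
  obtain ⟨f, hf, rfl⟩ := h'
  exact ⟨e.trans f, by rw [det_trans, he, hf, one_mul], (conj_trans_apply e f A).symm⟩

theorem sconj_conj {A x : End K V} (e : V ≃ₗ[K] V) (he : LinearMap.det (e : V →ₗ[K] V) = 1) (h : SConj A x) :
    SConj A (e.conj x) :=
  h.trans ⟨e, he, rfl⟩

/-- With full determinants in the centraliser, similarity is conjugacy. -/
theorem FullDet.sconj {A x : End K V} (hA : FullDet A) (h : Sim A x) : SConj A x := by
  obtain ⟨e, rfl⟩ := Sim.iff_conj.1 h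
  obtain ⟨f, hf, hfA⟩ := hA _ (inv_ne_zero (det_equiv_ne_zero e))
  refine ⟨f.trans e, by rw [det_trans, hf, inv_mul_cancel₀ (det_equiv_ne_zero e)], ?_⟩
  rw [conj_trans_apply, hfA]

theorem FullDet.of_sim {W : Type u} [AddCommGroup W] [Module K W] {A : End K V} {B : End K W}
    (hA : FullDet A) (h : Sim A B) : FullDet B := by
  obtain ⟨e, he⟩ := h
  obtain rfl := Sim.eq_conj he
  intro d hd
  obtain ⟨f, hf, hfA⟩ := hA d hd
  refine ⟨e.symm.trans (f.trans e), ?_, ?_⟩
  · rw [← hf]
    exact LinearMap.det_conj (f : V →ₗ[K] V) e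
  · rw [conj_trans_apply, conj_trans_apply]
    rw [show e.symm.conj (e.conj A) = A from LinearMap.ext fun x => by simp [LinearEquiv.conj_apply_apply], hfA]

theorem FullDet.upper_zero {W : Type u} [AddCommGroup W] [Module K W] [FiniteDimensional K V]
    [FiniteDimensional K W] (A : End K V) {B : End K W} (hB : FullDet B) :
    FullDet (GL.TwoReg.upper A 0 B) := by
  intro d hd
  obtain ⟨f, hf, hfB⟩ := hB d hd
  refine ⟨(LinearEquiv.refl K V).prodCongr f, ?_, ?_⟩
  · rw [show (((LinearEquiv.refl K V).prodCongr f : (V × W) ≃ₗ[K] (V × W)) : (V × W) →ₗ[K] V × W) =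
      GL.TwoReg.upper 1 0 (f : W →ₗ[K] W) from LinearMap.ext fun ⟨x, y⟩ => by simp,
      GL.TwoReg.det_upper, map_one, one_mul, hf]
  · refine LinearMap.ext fun ⟨x, y⟩ => ?_
    have := LinearMap.congr_fun hfB y
    simp [LinearEquiv.conj_apply_apply, LinearEquiv.prodCongr_symm] at this ⊢
    exact this

theorem fullDet_rootMul_linear (c : K) : FullDet (Semisimple.rootMul (X - C c)) := by
  have hfin := Semisimple.finrank_adjoinRoot (monic_X_sub_C c)
  rw [natDegree_X_sub_C] at hfin
  have := Semisimple.finite_adjoinRoot (monic_X_sub_C c)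
  intro d hd
  refine ⟨LinearEquiv.smulOfNeZero K _ d hd, ?_, ?_⟩
  · rw [show ((LinearEquiv.smulOfNeZero K (AdjoinRoot (X - C c)) d hd : _ ≃ₗ[K] _) :
      AdjoinRoot (X - C c) →ₗ[K] AdjoinRoot (X - C c)) = d • LinearMap.id from LinearMap.ext fun x => rfl,
      LinearMap.det_smul, LinearMap.det_id, hfin, pow_one, mul_one]
  · refine LinearMap.ext fun x => ?_
    obtain ⟨y, rfl⟩ := (LinearEquiv.smulOfNeZero K _ d hd).surjective x
    rw [LinearEquiv.conj_apply_apply, LinearEquiv.symm_apply_apply]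
    exact (map_smul (Semisimple.rootMul (X - C c)) d y).symm

/-- `a + b f` in dimension two. -/
theorem det_add_smul_two [FiniteDimensional K V] (hd : finrank K V = 2) {f : End K V} {t d : K}
    (hf : ∀ c : K, f ≠ c • 1) (hp : f * f = t • f - d • 1) (a b : K) :
    LinearMap.det (a • (1 : End K V) + b • f) = a ^ 2 + t * a * b + d * b ^ 2 := by
  obtain ⟨v, hv⟩ : ∃ v, LinearIndependent K ![v, f v] := by
    by_contra hne
    push Not at hne
    obtain ⟨c, hc⟩ := f.exists_eq_smul_id_of_forall_notLinearIndependent hne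
    exact hf c hc
  let B : Basis (Fin 2) K V := basisOfLinearIndependentOfCardEqFinrank hv (by simp [hd])
  have hb : ⇑B = ![v, f v] := coe_basisOfLinearIndependentOfCardEqFinrank _ _
  have h0 : f (B (0 : Fin 2)) = B 1 := by simp [hb]
  have h1 : f (B (1 : Fin 2)) = t • B 1 - d • B 0 := by
    simp only [hb, Matrix.cons_val_one, Matrix.cons_val_zero]
    rw [← Module.End.mul_apply, hp]
    simp
  rw [← LinearMap.det_toMatrix B, Matrix.det_fin_two]
  simp [LinearMap.toMatrix_apply, h0, h1, Finsupp.single_apply]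
  ring

theorem fullDet_rootMul_quad [Fintype K] {t d : K} (hirr : ∀ r, r ^ 2 - t * r + d ≠ 0) :
    FullDet (Semisimple.rootMul (quad t d)) := by
  have hfin := Semisimple.finrank_adjoinRoot (quad_monic t d)
  rw [quad_natDegree] at hfin
  have := Semisimple.finite_adjoinRoot (quad_monic t d)
  set f := Semisimple.rootMul (quad t d)
  have hcy := cycTy_rootMul (quad t d) (quad_monic t d)
  have hp : f * f = t • f - d • 1 := by
    have h := hcy.zero
    rw [aeval_quad] at h
    rw [← sub_eq_zero]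
    rw [← h]; abel
  have hns : ∀ c : K, f ≠ c • 1 := by
    intro c hc
    have : Nontrivial (AdjoinRoot (quad t d)) := Module.nontrivial_of_finrank_pos (R := K) (by omega)
    obtain ⟨v, hv⟩ := exists_ne (0 : AdjoinRoot (quad t d))
    have := LinearMap.congr_fun hp v
    simp [hc, smul_smul, ← sub_smul] at this
    exact hirr c (by linear_combination smul_left_injective K hv this)
  intro e he
  obtain ⟨a, b, hab⟩ := form_surjective (T := t) (D := d) (fun h => by
    obtain ⟨r, hr, hT⟩ := exists_double_root h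
    exact hirr (-r) (by rw [← hr, hT]; ring)) e
  have hdet : LinearMap.det (a • (1 : End K _) + b • f) = e := (det_add_smul_two hfin hns hp a b).trans hab
  obtain ⟨g, hg⟩ : ∃ g, g = a • (1 : End K (AdjoinRoot (quad t d))) + b • f := ⟨_, rfl⟩
  rw [← hg] at hdet
  have hdu : IsUnit (LinearMap.toMatrix (Module.finBasis K _) (Module.finBasis K _) g).det := by
    rw [LinearMap.det_toMatrix, hdet]; exact isUnit_iff_ne_zero.2 he
  refine ⟨LinearEquiv.ofIsUnitDet hdu, hdet, ?_⟩
  refine LinearMap.ext fun x => ?_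
  obtain ⟨y, rfl⟩ := (LinearEquiv.ofIsUnitDet hdu).surjective x
  rw [LinearEquiv.conj_apply_apply, LinearEquiv.symm_apply_apply]
  change g (f y) = f (g y)
  simp [hg, map_add]

theorem CycTy.fullDet [FiniteDimensional K V] {f : End K V} {p q : K[X]} (hf : CycTy f (p * q)) (hp : p.Monic)
    (hq : q.Monic) (hc : IsCoprime p q) (h : FullDet (Semisimple.rootMul q)) : FullDet f := by
  have := Semisimple.finite_adjoinRoot hp
  have := Semisimple.finite_adjoinRoot hq
  exact (h.upper_zero (Semisimple.rootMul p)).of_sim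
    (((cycTy_rootMul p hp).upper (cycTy_rootMul q hq) hc 0).sim hf)

/-- An automorphism with prescribed determinant extending a map of independent vectors. -/
theorem exists_equiv [FiniteDimensional K V] {k : ℕ} {v w : Fin k → V} (hv : LinearIndependent K v)
    (hw : LinearIndependent K w) (hk : k < finrank K V) {d : K} (hd : d ≠ 0) :
    ∃ e : V ≃ₗ[K] V, LinearMap.det (e : V →ₗ[K] V) = d ∧ ∀ i, e (v i) = w i := by
  set P := Submodule.span K (Set.range v)
  set Q := Submodule.span K (Set.range w)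
  have hP : finrank K P = k := (finrank_span_eq_card hv).trans (by simp)
  have hQ : finrank K Q = k := (finrank_span_eq_card hw).trans (by simp)
  obtain ⟨P', hP'⟩ := Submodule.exists_isCompl P
  obtain ⟨Q', hQ'⟩ := Submodule.exists_isCompl Q
  have hd' : finrank K P' = finrank K Q' := by
    have := Submodule.finrank_add_eq_of_isCompl hP'
    have := Submodule.finrank_add_eq_of_isCompl hQ'
    omega
  let e₁ : P ≃ₗ[K] Q := (Basis.span hv).equiv (Basis.span hw) (Equiv.refl _)
  let e₂ : P' ≃ₗ[K] Q' := LinearEquiv.ofFinrankEq _ _ hd'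
  let e₀ : V ≃ₗ[K] V := (Submodule.prodEquivOfIsCompl P P' hP').symm.trans
    ((e₁.prodCongr e₂).trans (Submodule.prodEquivOfIsCompl Q Q' hQ'))
  have he₀ : ∀ i, e₀ (v i) = w i := by
    intro i
    have hb : Submodule.prodEquivOfIsCompl P P' hP' (Basis.span hv i, 0) = v i := by
      simp [Submodule.coe_prodEquivOfIsCompl', Basis.span_apply]
    rw [← hb]
    simp only [e₀, e₁, LinearEquiv.trans_apply, LinearEquiv.symm_apply_apply, LinearEquiv.prodCongr_apply,
      Basis.equiv_apply, map_zero, Equiv.refl_apply]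
    simp [Submodule.coe_prodEquivOfIsCompl']
    exact congrArg Subtype.val (Basis.span_apply hw i)
  obtain ⟨u, hu⟩ : ∃ u, u ∉ Q := by
    by_contra hne
    push Not at hne
    have : Q = ⊤ := Submodule.eq_top_iff'.2 hne
    rw [this, finrank_top] at hQ
    omega
  obtain ⟨φ, hφu, hφQ⟩ := Submodule.exists_dual_map_eq_bot_of_notMem hu inferInstance
  have hφ : ∀ i, φ (w i) = 0 := fun i => by
    have : φ (w i) ∈ Q.map φ := Submodule.mem_map_of_mem (Submodule.subset_span ⟨i, rfl⟩)
    rwa [hφQ, Submodule.mem_bot] at this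
  have hd₀ := det_equiv_ne_zero e₀
  set c := d / LinearMap.det (e₀ : V →ₗ[K] V) with hc
  have hc0 : c ≠ 0 := div_ne_zero hd hd₀
  let ψ : Dual K V := ((c - 1) / φ u) • φ
  have hψ : 1 + ψ u = c := by simp [ψ, hφu]
  refine ⟨e₀.trans (LinearEquiv.dilatransvection (f := ψ) (v := u) (hψ ▸ isUnit_iff_ne_zero.2 hc0)), ?_, fun i => ?_⟩
  · rw [det_trans, LinearEquiv.dilatransvection.coe_toLinearMap, LinearMap.transvection.det, hψ, hc,
      mul_div_cancel₀ _ hd₀]
  · rw [LinearEquiv.trans_apply, he₀, LinearEquiv.dilatransvection.apply]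
    simp [ψ, hφ]

theorem NS.exists_noneigen {A : End K V} (hA : NS A) : ∃ v, LinearIndependent K ![v, A v] := by
  by_contra hne
  push Not at hne
  obtain ⟨a, ha⟩ := A.exists_eq_smul_id_of_forall_notLinearIndependent hne
  exact hA a ha

theorem pair_indep_iff {v w : V} (hv : v ≠ 0) : LinearIndependent K ![v, w] ↔ ∀ c : K, w ≠ c • v := by
  rw [LinearIndependent.pair_iff' hv]
  exact forall_congr' fun c => ne_comm

/-- A non-eigenvector outside a proper subspace. -/
theorem NS.exists_noneigen_notMem [Fintype K] (h4 : 4 ≤ Fintype.card K) {A : End K V} (hA : NS A)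
    {I : Submodule K V} (hI : I ≠ ⊤) : ∃ z, z ∉ I ∧ LinearIndependent K ![z, A z] := by
  classical
  obtain ⟨z, hz⟩ := hA.exists_noneigen
  by_cases hzI : z ∈ I
  swap
  · exact ⟨z, hzI, hz⟩
  obtain ⟨y, hy⟩ : ∃ y, y ∉ I := by
    by_contra hne
    push Not at hne
    exact hI (Submodule.eq_top_iff'.2 hne)
  have hz0 : z ≠ 0 := by simpa using hz.ne_zero 0
  have hzA := (pair_indep_iff hz0).1 hz
  by_cases hyA : LinearIndependent K ![y, A y]
  · exact ⟨y, hy, hyA⟩
  have hy0 : y ≠ 0 := fun h => hy (h ▸ I.zero_mem)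
  obtain ⟨c, hc⟩ : ∃ c : K, A y = c • y := by simpa [pair_indep_iff hy0] using hyA
  obtain ⟨a₁, a₂, ha₁, ha₂, hne⟩ : ∃ a₁ a₂ : K, a₁ ≠ 0 ∧ a₂ ≠ 0 ∧ a₁ ≠ a₂ := by
    obtain ⟨a₁, ha₁, a₂, ha₂, hne⟩ := Finset.one_lt_card.1 (show 1 < ((Finset.univ : Finset K).erase 0).card by
      rw [Finset.card_erase_of_mem (Finset.mem_univ _), Finset.card_univ]; omega)
    exact ⟨a₁, a₂, Finset.ne_of_mem_erase ha₁, Finset.ne_of_mem_erase ha₂, hne⟩
  have key : ∀ a : K, a ≠ 0 → z + a • y ∉ I := fun a ha h => hy ((I.smul_mem_iff ha).1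
    ((I.add_mem_iff_right hzI).1 h))
  by_contra hcon
  push Not at hcon
  have heig : ∀ a : K, a ≠ 0 → ∃ e : K, A z - e • z = ((e - c) * a) • y := by
    intro a ha
    have h0 : z + a • y ≠ 0 := fun h => key a ha (h ▸ I.zero_mem)
    obtain ⟨e, he⟩ : ∃ e : K, A (z + a • y) = e • (z + a • y) := by
      simpa [pair_indep_iff h0] using hcon _ (key a ha)
    refine ⟨e, ?_⟩
    rw [map_add, map_smul, hc, smul_add, smul_smul, smul_smul, ← sub_eq_zero] at he
    rw [← sub_eq_zero, sub_mul, sub_smul, mul_comm c a, ← he]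
    abel
  obtain ⟨e₁, he₁⟩ := heig a₁ ha₁
  obtain ⟨e₂, he₂⟩ := heig a₂ ha₂
  have he12 : (e₂ - e₁) • z = ((e₁ - c) * a₁ - (e₂ - c) * a₂) • y := by
    rw [sub_smul ((e₁ - c) * a₁), ← he₁, ← he₂, sub_smul]
    abel
  by_cases he : e₁ = e₂
  · subst he
    rw [sub_self, zero_smul, eq_comm, smul_eq_zero] at he12
    have := he12.resolve_right hy0
    have hec : e₁ - c = 0 := (mul_eq_zero.1 (by linear_combination this : (e₁ - c) * (a₁ - a₂) = 0)).resolve_right
      (sub_ne_zero.2 hne)
    rw [hec, zero_mul, zero_smul, sub_eq_zero] at he₁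
    exact hzA _ he₁
  · refine hy ((I.smul_mem_iff (fun h => ?_)).1 (he12 ▸ I.smul_mem _ hzI))
    rw [h, zero_smul, smul_eq_zero] at he12
    exact he (sub_eq_zero.1 (he12.resolve_right hz0)).symm

/-- Some transvection moves a non-scalar endomorphism off its line. -/
theorem NS.exists_transvection [FiniteDimensional K V] {A : End K V} (hA : NS A) :
    ∃ e : V ≃ₗ[K] V, LinearMap.det (e : V →ₗ[K] V) = 1 ∧ ∀ κ : K, e.conj A ≠ κ • A := by
  obtain ⟨z, hz⟩ := hA.exists_noneigen
  obtain ⟨φ, hφ0, hφ1⟩ : ∃ φ : Dual K V, φ z = 0 ∧ φ (A z) = 1 := by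
    have hnot : A z ∉ Submodule.span K ({z} : Set V) := fun h => by
      obtain ⟨c, hc⟩ := Submodule.mem_span_singleton.1 h
      exact (pair_indep_iff (by simpa using hz.ne_zero 0)).1 hz c hc.symm
    obtain ⟨φ, h1, h2⟩ := Submodule.exists_dual_map_eq_bot_of_notMem hnot inferInstance
    have : φ z ∈ (Submodule.span K ({z} : Set V)).map φ :=
      Submodule.mem_map_of_mem (Submodule.mem_span_singleton_self z)
    rw [h2, Submodule.mem_bot] at this
    exact ⟨(φ (A z))⁻¹ • φ, by simp [this], by simp [h1]⟩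
  refine ⟨LinearEquiv.transvection hφ0, (by rw [← LinearEquiv.coe_det, LinearEquiv.transvection.det_eq_one hφ0, Units.val_one]), fun κ h => ?_⟩
  have h' := LinearMap.congr_fun h (LinearEquiv.transvection hφ0 z)
  rw [LinearEquiv.conj_apply_apply, LinearEquiv.symm_apply_apply, LinearMap.smul_apply,
    LinearEquiv.transvection.apply, LinearEquiv.transvection.apply, hφ0, hφ1, one_smul, zero_smul, add_zero] at h'
  have h0 : (1 : K) • z + (1 - κ) • A z = 0 := by
    rw [one_smul, sub_smul, one_smul, ← h']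
    abel
  exact one_ne_zero (LinearIndependent.pair_iff.1 hz 1 (1 - κ) h0).1

/-- A conjugate with the image of one vector prescribed. -/
theorem exists_sconj_map [FiniteDimensional K V] {A : End K V} {v₀ : V}
    (hv₀ : LinearIndependent K ![v₀, A v₀]) {v w : V} (hvw : LinearIndependent K ![v, w])
    (hn : 3 ≤ finrank K V) : ∃ x, SConj A x ∧ x v = w := by
  obtain ⟨e, he, hei⟩ := exists_equiv hv₀ hvw (by omega) one_ne_zero
  refine ⟨e.conj A, ⟨e, he, rfl⟩, ?_⟩
  have h0 : e v₀ = v := hei 0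
  have h1 : e (A v₀) = w := hei 1
  rw [LinearEquiv.conj_apply_apply, ← h0, e.symm_apply_apply, h1]

/-- A conjugate not proportional to a given endomorphism. -/
theorem exists_sconj_not_prop [FiniteDimensional K V] (hn : 3 ≤ finrank K V) {A : End K V} (hA : NS A)
    (g : End K V) : ∃ x, SConj A x ∧ ∀ c : K, g ≠ c • x ∨ c = 0 := by
  obtain ⟨v₀, hv₀⟩ := hA.exists_noneigen
  have : Nontrivial V := Module.nontrivial_of_finrank_pos (R := K) (by omega)
  obtain ⟨z, hz⟩ := exists_ne (0 : V)
  obtain ⟨w, hw⟩ : ∃ w, w ∉ Submodule.span K ({z, g z} : Set V) := by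
    by_contra hne
    push Not at hne
    classical
    have h1 : finrank K (Submodule.span K ({z, g z} : Set V)) ≤ 2 := by
      have := finrank_span_finset_le_card (R := K) ({z, g z} : Finset V)
      rw [Finset.coe_pair] at this
      exact this.trans Finset.card_le_two
    rw [Submodule.eq_top_iff'.2 hne, finrank_top] at h1
    omega
  have hzw : LinearIndependent K ![z, w] := (pair_indep_iff hz).2 fun c hc =>
    hw (hc ▸ Submodule.smul_mem _ _ (Submodule.subset_span (by simp)))
  obtain ⟨x, hx, hxz⟩ := exists_sconj_map hv₀ hzw hn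
  refine ⟨x, hx, fun c => ?_⟩
  by_cases hc : c = 0
  · exact Or.inr hc
  refine Or.inl fun h => hw ?_
  have : w = c⁻¹ • g z := by rw [h, LinearMap.smul_apply, hxz, smul_smul, inv_mul_cancel₀ hc, one_smul]
  exact this ▸ Submodule.smul_mem _ _ (Submodule.subset_span (by simp))

end Cfsg.Agent.LevCover
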