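import Cfsg.Agent.Lib.GL.TwoRegularUnipotent
import Cfsg.Agent.Lib.Semisimple.Basic

/-!
Cyclic endomorphisms with a given polynomial: determined up to similarity, glued along coprime polynomials.
-/

set_option autoImplicit false

namespace Cfsg.Agent.LevCover

open Module Polynomial Cfsg.Agent.GL.TwoReg

universe uK u₁ u₂ u₃

variable {K : Type uK} [Field K]
variable {V : Type u₁} [AddCommGroup V] [Module K V]
variable {W : Type u₂} [AddCommGroup W] [Module K W]
variable {U : Type u₃} [AddCommGroup U] [Module K U]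

/-- Similarity of endomorphisms of possibly different spaces. -/
def Sim (f : End K V) (g : End K W) : Prop := ∃ e : V ≃ₗ[K] W, ∀ x, e (f x) = g (e x)

theorem Sim.refl (f : End K V) : Sim f f := ⟨LinearEquiv.refl K V, fun _ => rfl⟩

theorem Sim.symm {f : End K V} {g : End K W} (h : Sim f g) : Sim g f := by
  obtain ⟨e, he⟩ := h
  exact ⟨e.symm, fun x => e.injective (by rw [he]; simp)⟩

theorem Sim.trans {f : End K V} {g : End K W} {h : End K U} (a : Sim f g) (b : Sim g h) : Sim f h := by
  obtain ⟨e, he⟩ := a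
  obtain ⟨d, hd⟩ := b
  exact ⟨e.trans d, fun x => by simp [he, hd]⟩

theorem sim_conj (e : V ≃ₗ[K] W) (f : End K V) : Sim f (e.conj f) :=
  ⟨e, fun x => by simp [LinearEquiv.conj_apply_apply]⟩

theorem Sim.eq_conj {f : End K V} {g : End K W} {e : V ≃ₗ[K] W} (he : ∀ x, e (f x) = g (e x)) :
    g = e.conj f := by
  refine LinearMap.ext fun y => ?_
  rw [LinearEquiv.conj_apply_apply, he, e.apply_symm_apply]

theorem Sim.det_eq [FiniteDimensional K V] {f : End K V} {g : End K W} (h : Sim f g) :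
    LinearMap.det g = LinearMap.det f := by
  obtain ⟨e, he⟩ := h
  rw [Sim.eq_conj he, LinearEquiv.conj_apply, ← LinearMap.det_conj f e]
  rfl

theorem Sim.finrank_eq {f : End K V} {g : End K W} (h : Sim f g) : finrank K V = finrank K W :=
  h.choose.finrank_eq

/-- Cyclic, annihilated by the monic polynomial `p` of degree the dimension. -/
structure CycTy (f : End K V) (p : K[X]) : Prop where
  monic : p.Monic
  deg : p.natDegree = finrank K V
  zero : aeval f p = 0
  cyc : ∃ w : V, ∀ x, ∃ r : K[X], aeval f r w = x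

theorem aeval_intertwine {f : End K V} {g : End K W} (φ : V →ₗ[K] W) (h : ∀ x, φ (f x) = g (φ x)) (r : K[X]) :
    ∀ x, φ (aeval f r x) = aeval g r (φ x) := by
  induction r using Polynomial.induction_on' with
  | add a b ha hb => intro x; simp [ha, hb]
  | monomial k c =>
    intro x
    rw [aeval_monomial, aeval_monomial, Module.algebraMap_end_eq_smul_id]
    simp only [Module.End.mul_apply, LinearMap.smul_apply, LinearMap.id_apply, map_smul]
    congr 1
    induction k generalizing x with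
    | zero => simp
    | succ k ih => simp [pow_succ, ih, h]

theorem CycTy.of_sim {f : End K V} {g : End K W} {p : K[X]} (h : CycTy f p) (hs : Sim f g) : CycTy g p := by
  obtain ⟨e, he⟩ := hs
  obtain ⟨w, hw⟩ := h.cyc
  refine ⟨h.monic, h.deg.trans e.finrank_eq, LinearMap.ext fun y => ?_, e w, fun y => ?_⟩
  · obtain ⟨x, rfl⟩ := e.surjective y
    rw [← LinearEquiv.coe_coe, ← aeval_intertwine (e : V →ₗ[K] W) he p x, h.zero]
    simp
  · obtain ⟨x, rfl⟩ := e.surjective y
    obtain ⟨r, hr⟩ := hw x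
    exact ⟨r, by rw [← LinearEquiv.coe_coe, ← aeval_intertwine (e : V →ₗ[K] W) he r w, hr]⟩

theorem cycTy_rootMul (p : K[X]) (hp : p.Monic) : CycTy (Semisimple.rootMul p) p := by
  refine ⟨hp, (Semisimple.finrank_adjoinRoot hp).symm, Semisimple.aeval_rootMul p, 1, fun x => ?_⟩
  obtain ⟨r, rfl⟩ := AdjoinRoot.mk_surjective x
  refine ⟨r, ?_⟩
  rw [Semisimple.rootMul, aeval_algHom_apply, AdjoinRoot.aeval_eq]
  simp

theorem CycTy.sim_rootMul [FiniteDimensional K V] {f : End K V} {p : K[X]} (h : CycTy f p) :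
    Sim (Semisimple.rootMul p) f := by
  have := Semisimple.finite_adjoinRoot h.monic
  obtain ⟨w, hw⟩ := h.cyc
  let L : K[X] →ₗ[K] V := (LinearMap.applyₗ w).comp (aeval f).toLinearMap
  have hL : ∀ r, L r = aeval f r w := fun r => rfl
  have hker : (Ideal.span {p}).restrictScalars K ≤ LinearMap.ker L := by
    intro r hr
    rw [Submodule.restrictScalars_mem, Ideal.mem_span_singleton] at hr
    obtain ⟨s, rfl⟩ := hr
    rw [LinearMap.mem_ker, hL, map_mul, h.zero]
    simp
  have hd : ∀ r s : K[X], AdjoinRoot.mk p r = AdjoinRoot.mk p s → L r = L s := by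
    intro r s hrs
    rw [← sub_eq_zero, ← map_sub]
    refine LinearMap.mem_ker.1 (hker ?_)
    rw [Submodule.restrictScalars_mem, Ideal.mem_span_singleton, ← AdjoinRoot.mk_eq_zero, map_sub, hrs, sub_self]
  let M : AdjoinRoot p →ₗ[K] V :=
    { toFun := fun x => L (Function.surjInv AdjoinRoot.mk_surjective x)
      map_add' := fun x y => by
        rw [← map_add]
        exact hd _ _ (by simp [Function.surjInv_eq])
      map_smul' := fun c x => by
        rw [RingHom.id_apply, ← map_smul]
        exact hd _ _ (by simp [Function.surjInv_eq, Polynomial.smul_eq_C_mul, Algebra.smul_def]) }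
  have hM : ∀ r, M (AdjoinRoot.mk p r) = aeval f r w := fun r =>
    hd _ _ (Function.surjInv_eq AdjoinRoot.mk_surjective _)
  have hsurj : Function.Surjective M := fun x => by
    obtain ⟨r, hr⟩ := hw x
    exact ⟨AdjoinRoot.mk p r, (hM r).trans hr⟩
  have hfin : finrank K (AdjoinRoot p) = finrank K V := (Semisimple.finrank_adjoinRoot h.monic).trans h.deg
  have hinj : Function.Injective M := (LinearMap.injective_iff_surjective_of_finrank_eq_finrank hfin).2 hsurj
  refine ⟨LinearEquiv.ofBijective M ⟨hinj, hsurj⟩, fun x => ?_⟩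
  obtain ⟨r, rfl⟩ := AdjoinRoot.mk_surjective x
  have hr : Semisimple.rootMul p (AdjoinRoot.mk p r) = AdjoinRoot.mk p (X * r) := by
    rw [map_mul, AdjoinRoot.mk_X]
    rfl
  change M _ = f (M _)
  rw [hr, hM, hM, map_mul, aeval_X]
  rfl

theorem CycTy.sim [FiniteDimensional K V] [FiniteDimensional K W] {f : End K V} {g : End K W} {p : K[X]}
    (hf : CycTy f p) (hg : CycTy g p) : Sim f g :=
  hf.sim_rootMul.symm.trans hg.sim_rootMul

theorem CycTy.det_eq [FiniteDimensional K V] {f : End K V} {p : K[X]} (h : CycTy f p) :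
    LinearMap.det f = (-1) ^ finrank K V * p.coeff 0 := by
  have := Semisimple.finite_adjoinRoot h.monic
  rw [h.sim_rootMul.det_eq, LinearMap.det_eq_sign_charpoly_coeff, Semisimple.charpoly_rootMul p h.monic,
    h.sim_rootMul.finrank_eq]

theorem cycTy_of_finrank_zero (f : End K V) [FiniteDimensional K V] (h : finrank K V = 0) : CycTy f 1 := by
  have : Subsingleton V := Module.finrank_zero_iff.1 h
  exact ⟨monic_one, by simp [h], Subsingleton.elim _ _, 0, fun x => ⟨0, Subsingleton.elim _ _⟩⟩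

theorem cycTy_one_dim [FiniteDimensional K V] (h : finrank K V = 1) (a : K) :
    CycTy (a • (1 : End K V)) (X - C a) := by
  obtain ⟨w, hw⟩ := finrank_eq_one_iff'.1 h
  refine ⟨monic_X_sub_C a, by simp [h], LinearMap.ext fun x => by simp [Module.algebraMap_end_apply], w, fun x => ?_⟩
  obtain ⟨c, hc⟩ := hw.2 x
  exact ⟨C c, by simp [Module.algebraMap_end_apply, hc]⟩

theorem exists_eq_smul_one (h : finrank K V = 1) (f : End K V) : ∃ a : K, f = a • 1 := by
  obtain ⟨w, hw0, hw⟩ := finrank_eq_one_iff'.1 h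
  obtain ⟨a, ha⟩ := hw (f w)
  refine ⟨a, LinearMap.ext fun x => ?_⟩
  obtain ⟨c, rfl⟩ := hw x
  simp [← ha, smul_comm a c]

theorem aeval_upper_inl (A₁ : End K V) (E : W →ₗ[K] V) (A₂ : End K W) (r : K[X]) (x : V) :
    aeval (upper A₁ E A₂) r (x, 0) = (aeval A₁ r x, 0) :=
  (aeval_intertwine (f := A₁) (g := upper A₁ E A₂) (LinearMap.inl K V W) (fun y => by simp) r x).symm

theorem aeval_upper_snd (A₁ : End K V) (E : W →ₗ[K] V) (A₂ : End K W) (r : K[X]) (z : V × W) :
    (aeval (upper A₁ E A₂) r z).2 = aeval A₂ r z.2 :=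
  aeval_intertwine (f := upper A₁ E A₂) (g := A₂) (LinearMap.snd K V W) (fun _ => rfl) r z

/-- Gluing two cyclic pieces with coprime polynomials. -/
theorem CycTy.upper [FiniteDimensional K V] [FiniteDimensional K W] {A₁ : End K V} {A₂ : End K W} {p₁ p₂ : K[X]}
    (h₁ : CycTy A₁ p₁) (h₂ : CycTy A₂ p₂) (hc : IsCoprime p₁ p₂) (E : W →ₗ[K] V) :
    CycTy (GL.TwoReg.upper A₁ E A₂) (p₁ * p₂) := by
  obtain ⟨v₁, hv₁⟩ := h₁.cyc
  obtain ⟨v₂, hv₂⟩ := h₂.cyc
  set f := GL.TwoReg.upper A₁ E A₂
  obtain ⟨a, b, hab⟩ := hc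
  have hinl : ∀ z : V × W, z.2 = 0 → ∀ r, aeval f r z = (aeval A₁ r z.1, 0) := fun z hz r => by
    rw [show z = (z.1, 0) from Prod.ext rfl hz]
    exact aeval_upper_inl A₁ E A₂ r _
  have h2nd : ∀ z, (aeval f p₂ z).2 = 0 := fun z => by rw [aeval_upper_snd, h₂.zero]; rfl
  -- `p₂` is invertible on the first piece
  have hid : ∀ x : V, aeval A₁ p₂ (aeval A₁ b x) = x := fun x => by
    have hid' : aeval A₁ (a * p₁) + aeval A₁ (b * p₂) = aeval A₁ (1 : K[X]) := by rw [← map_add, hab]
    rw [← Module.End.mul_apply, ← map_mul]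
    refine Eq.trans ?_ (Module.End.one_apply (R := K) x)
    congr 1
    rw [map_mul (aeval (R := K) A₁) a, h₁.zero, mul_zero, zero_add, map_one, mul_comm b p₂] at hid'
    exact hid'
  refine ⟨h₁.monic.mul h₂.monic, ?_, ?_, ?_⟩
  · rw [h₁.monic.natDegree_mul h₂.monic, h₁.deg, h₂.deg, Module.finrank_prod]
  · refine LinearMap.ext fun z => ?_
    rw [map_mul, Module.End.mul_apply, hinl _ (h2nd z), h₁.zero]
    rfl
  · obtain ⟨e, he⟩ : ∃ e, e = aeval A₁ b (v₁ - (aeval f p₂ (0, v₂)).1) := ⟨_, rfl⟩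
    refine ⟨(e, v₂), fun x => ?_⟩
    have hw : aeval f p₂ (e, v₂) = (v₁, 0) := by
      have h1 : ((e, v₂) : V × W) = (e, 0) + (0, v₂) := by simp
      rw [h1, map_add, hinl (e, 0) rfl, he, hid]
      exact Prod.ext (by simp) (by simpa using h2nd (0, v₂))
    obtain ⟨r₂, hr₂⟩ := hv₂ x.2
    obtain ⟨r₁, hr₁⟩ := hv₁ (x - aeval f r₂ (e, v₂)).1
    refine ⟨r₁ * p₂ + r₂, ?_⟩
    rw [map_add, LinearMap.add_apply, map_mul, Module.End.mul_apply, hw, aeval_upper_inl, hr₁]
    refine Prod.ext (by simp) ?_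
    simp [aeval_upper_snd, hr₂, f]

/-- A scalar multiple of a regular unipotent element. -/
theorem cycTy_regular [FiniteDimensional K V] {N : End K V} (hN : N ^ finrank K V = 0) {u : V}
    (hu : (N ^ (finrank K V - 1)) u ≠ 0) {a : K} (ha : a ≠ 0) :
    CycTy (a • (1 + N)) ((X - C a) ^ finrank K V) := by
  set n := finrank K V
  have h1 : ∀ k, aeval (a • (1 + N)) ((X - C a) ^ k) = a ^ k • N ^ k := by
    intro k
    rw [map_pow, map_sub, aeval_X, aeval_C, Algebra.algebraMap_eq_smul_one, smul_add, add_sub_cancel_left,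
      _root_.smul_pow]
  refine ⟨(monic_X_sub_C a).pow n, by simp [(monic_X_sub_C a).natDegree_pow, n], by rw [h1, hN, smul_zero], u, ?_⟩
  -- the vectors `N ^ i u` form a basis
  have hli : LinearIndependent K fun i : Fin n => (N ^ (i : ℕ)) u := by
    rw [Fintype.linearIndependent_iff]
    intro c hc
    by_contra hne
    push Not at hne
    obtain ⟨i, hi, hmin⟩ := WellFounded.has_min (wellFounded_lt (α := Fin n)) {i | c i ≠ 0} hne
    have := congrArg (N ^ (n - 1 - i)) hc
    rw [map_sum, map_zero, Finset.sum_eq_single i] at this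
    · rw [map_smul, ← Module.End.mul_apply, ← pow_add] at this
      rw [show n - 1 - (i : ℕ) + i = n - 1 by omega] at this
      exact hu ((smul_eq_zero.1 this).resolve_left hi)
    · intro j _ hj
      by_cases hcj : c j = 0
      · simp [hcj]
      have : (i : ℕ) < j := by
        rcases lt_or_gt_of_ne hj with h | h
        · exact absurd h (hmin j hcj)
        · exact h
      rw [map_smul, ← Module.End.mul_apply, ← pow_add,
        pow_eq_zero_of_le (by omega : n ≤ n - 1 - i + j) hN]
      simp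
    · simp
  have hspan := hli.span_eq_top_of_card_eq_finrank' (by simp [n])
  intro x
  obtain ⟨c, hc⟩ := (Submodule.mem_span_range_iff_exists_fun K).1 (hspan ▸ Submodule.mem_top (x := x))
  refine ⟨∑ i : Fin n, C (c i / a ^ (i : ℕ)) * (X - C a) ^ (i : ℕ), ?_⟩
  rw [map_sum, LinearMap.sum_apply, ← hc]
  refine Finset.sum_congr rfl fun i _ => ?_
  rw [map_mul, h1, aeval_C, Algebra.algebraMap_eq_smul_one]
  simp [smul_smul]
  rw [mul_div_cancel₀ _ (pow_ne_zero _ ha)]

/-- Two-dimensional: a vector moved off its line gives cyclicity. -/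
theorem cycTy_two [FiniteDimensional K V] (hd : finrank K V = 2) {f : End K V} (hf : ∀ c : K, f ≠ c • 1)
    {t d : K} (hp : f * f = t • f - d • 1) : CycTy f (X ^ 2 - C t * X + C d) := by
  have hdeg : (X ^ 2 - C t * X + C d).natDegree = 2 := by compute_degree!
  refine ⟨by monicity!, hdeg.trans hd.symm, ?_, ?_⟩
  · simp [map_add, map_sub, map_mul, Algebra.algebraMap_eq_smul_one, pow_two, hp]
  · obtain ⟨v, hv⟩ : ∃ v, LinearIndependent K ![v, f v] := by
      by_contra hne
      push Not at hne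
      obtain ⟨a, ha⟩ := f.exists_eq_smul_id_of_forall_notLinearIndependent hne
      exact hf a ha
    refine ⟨v, fun x => ?_⟩
    have hspan := hv.span_eq_top_of_card_eq_finrank' (by simp [hd])
    obtain ⟨c, hc⟩ := (Submodule.mem_span_range_iff_exists_fun K).1 (hspan ▸ Submodule.mem_top (x := x))
    refine ⟨C (c 0) + C (c 1) * X, ?_⟩
    rw [← hc, Fin.sum_univ_two]
    simp [Module.algebraMap_end_apply]

end Cfsg.Agent.LevCover
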