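import Cfsg.Agent.Lib.LevCover.Scalar

/-!
Scalar products from commuting conjugates: two semisimple eigenvalues, and square-zero nilpotent parts.
-/

set_option autoImplicit false

namespace Cfsg.Agent.LevCover

open Module

universe u

variable {K : Type u} [Field K] {V : Type u} [AddCommGroup V] [Module K V]

/-- The product of diagonal endomorphisms, evaluated at a common eigenvector. -/
theorem prod_eigen (z : V) : ∀ (L : List (End K V × K)), (∀ p ∈ L, p.1 z = p.2 • z) →
    (L.map Prod.fst).prod z = (L.map Prod.snd).prod • z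
  | [], _ => by simp
  | p :: L, h => by
    rw [List.map_cons, List.prod_cons, Module.End.mul_apply,
      prod_eigen z L fun q hq => h q (List.mem_cons_of_mem _ hq), map_smul, h p List.mem_cons_self, smul_smul,
      List.map_cons, List.prod_cons, mul_comm]

variable [FiniteDimensional K V]

/-- A diagonal endomorphism of determinant one: the cyclic shifts multiply to one. -/
theorem scalarProd_diag {k : ℕ} (b : Basis (Fin k) K V) {A : End K V} {d : Fin k → K} (hd : ∀ i, A (b i) = d i • b i)
    (hdA : LinearMap.det A = 1) : ScalarProd A k := by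
  classical
  rcases Nat.eq_zero_or_pos k with rfl | hk
  · exact ⟨[], 1, rfl, by simp, by simp⟩
  have : NeZero k := ⟨by omega⟩
  have hfull : FullDet A := fullDet_of_split (lam := d 0) (v := b 0) (φ := b.coord 0) (hd 0) (by simp) (fun z => by
    have : (b.coord 0).comp A = d 0 • b.coord 0 := b.ext fun i => by
      simp only [LinearMap.comp_apply, hd, LinearMap.smul_apply, map_smul, Basis.coord_apply, Basis.repr_self, Finsupp.single_apply, smul_eq_mul]
      split_ifs with h <;> simp [h]
    exact LinearMap.congr_fun this z)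
  have hprod : ∏ i, d i = 1 := by
    rw [← hdA, ← LinearMap.det_toMatrix b]
    have : LinearMap.toMatrix b b A = Matrix.diagonal d := by
      ext i j
      by_cases h : i = j
      · subst h; simp [LinearMap.toMatrix_apply, hd]
      · simp [LinearMap.toMatrix_apply, hd, h, Ne.symm h]
    rw [this, Matrix.det_diagonal]
  let x : Fin k → End K V := fun j => b.constr K fun i => d (i + j) • b i
  have hx : ∀ j i, x j (b i) = d (i + j) • b i := fun j i => b.constr_basis K _ i
  refine ⟨List.ofFn x, 1, List.length_ofFn, ?_, b.ext fun i => ?_⟩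
  · intro y hy
    obtain ⟨j, rfl⟩ := (List.mem_ofFn ..).1 hy
    refine hfull.sconj ⟨b.equiv b (Equiv.subRight j), fun z => ?_⟩
    have : ((b.equiv b (Equiv.subRight j) : V ≃ₗ[K] V) : V →ₗ[K] V).comp A =
        (x j).comp (b.equiv b (Equiv.subRight j) : V →ₗ[K] V) := b.ext fun i => by simp [hd, hx]
    exact LinearMap.congr_fun this z
  · have h := prod_eigen (b i) (List.ofFn fun j => (x j, d (i + j))) (fun p hp => by
      obtain ⟨j, rfl⟩ := (List.mem_ofFn ..).1 hp
      exact hx j i)
    rw [List.map_ofFn, List.map_ofFn] at h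
    simp only [Function.comp_def] at h
    rw [h, List.prod_ofFn, one_smul, Module.End.one_apply,
      Fintype.prod_equiv (Equiv.addLeft i) (fun j => d (i + j)) d (fun j => by simp), hprod, one_smul]

/-- Two semisimple eigenvalues. -/
theorem scalarProd_two_eig {A : End K V} {a b : K} (hab : a ≠ b) (h : (A - a • 1) * (A - b • 1) = 0)
    (hdA : LinearMap.det A = 1) : ScalarProd A (finrank K V) := by
  classical
  set E₁ := LinearMap.ker (A - a • 1)
  set E₂ := LinearMap.ker (A - b • 1)
  have hcompl : IsCompl E₁ E₂ := by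
    refine ⟨?_, ?_⟩
    · rw [disjoint_iff, Submodule.eq_bot_iff]
      rintro z ⟨h1, h2⟩
      rw [SetLike.mem_coe, LinearMap.mem_ker] at h1 h2
      simp [sub_eq_zero] at h1 h2
      by_contra hz
      exact hab (smul_left_injective K hz (h1.symm.trans h2))
    · rw [codisjoint_iff, Submodule.eq_top_iff']
      intro z
      have hz1 : (A - b • 1) z ∈ E₁ := by
        show (A - a • 1) ((A - b • 1) z) = 0
        rw [← Module.End.mul_apply, h, LinearMap.zero_apply]
      have hz2 : (A - a • 1) z ∈ E₂ := by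
        show (A - b • 1) ((A - a • 1) z) = 0
        have hc : (A - b • 1) * (A - a • 1) = (A - a • 1) * (A - b • 1) := by
          simp only [sub_mul, mul_sub, smul_one_mul, mul_smul_comm, mul_one]
          module
        rw [← Module.End.mul_apply, hc, h, LinearMap.zero_apply]
      have hab' : a - b ≠ 0 := sub_ne_zero.2 hab
      rw [show z = (a - b)⁻¹ • ((A - b • 1) z) + (-(a - b)⁻¹) • ((A - a • 1) z) by
        simp only [LinearMap.sub_apply, LinearMap.smul_apply, Module.End.one_apply]
        match_scalars <;> field_simp <;> ring]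
      exact Submodule.add_mem_sup (E₁.smul_mem _ hz1) (E₂.smul_mem _ hz2)
  let bs := ((Module.finBasis K E₁).prod (Module.finBasis K E₂)).map (Submodule.prodEquivOfIsCompl _ _ hcompl)
  have hcard : finrank K E₁ + finrank K E₂ = finrank K V := Submodule.finrank_add_eq_of_isCompl hcompl
  let e := finSumFinEquiv.trans (finCongr hcard)
  refine scalarProd_diag (bs.reindex e) (d := fun i => Sum.elim (fun _ => a) (fun _ => b) (e.symm i)) (fun i => ?_) hdA
  rw [Basis.reindex_apply]
  generalize e.symm i = j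
  rcases j with j | j
  · have hj := LinearMap.mem_ker.1 (Module.finBasis K E₁ j).2
    rw [LinearMap.sub_apply, sub_eq_zero] at hj
    simpa [bs, Submodule.coe_prodEquivOfIsCompl'] using hj
  · have hj := LinearMap.mem_ker.1 (Module.finBasis K E₂ j).2
    rw [LinearMap.sub_apply, sub_eq_zero] at hj
    simpa [bs, Submodule.coe_prodEquivOfIsCompl'] using hj

/-- Square-zero scalings inside the special linear group. -/
theorem sconj_sq_zero {N : End K V} (hN : N * N = 0) {c : K} (hc : c ≠ 0) : SConj (1 + N) (1 + c ^ 2 • N) := by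
  have hN' : ∀ z, N (N z) = 0 := fun z => LinearMap.congr_fun hN z
  obtain ⟨C, hC⟩ := Submodule.exists_isCompl (LinearMap.ker N)
  obtain ⟨E₀, hE₀⟩ := Submodule.exists_isCompl (Submodule.comap (LinearMap.ker N).subtype (LinearMap.range N))
  set R := Submodule.comap (LinearMap.ker N).subtype (LinearMap.range N)
  let i := ((Submodule.prodEquivOfIsCompl R E₀ hE₀).prodCongr (LinearEquiv.refl K C)).trans
    (Submodule.prodEquivOfIsCompl _ _ hC)
  let d : ((R × E₀) × C) ≃ₗ[K] ((R × E₀) × C) :=
    ((LinearEquiv.smulOfNeZero K R c hc).prodCongr (LinearEquiv.refl K E₀)).prodCongr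
      (LinearEquiv.smulOfNeZero K C c⁻¹ (inv_ne_zero hc))
  have hda : ∀ r x y, d ((r, x), y) = ((c • r, x), c⁻¹ • y) := fun r x y => rfl
  have hR : finrank K R = finrank K C := by
    have h1 := LinearMap.finrank_range_add_finrank_ker N
    have h2 := Submodule.finrank_add_eq_of_isCompl hC
    have h3 : finrank K R = finrank K (LinearMap.range N) :=
      (Submodule.comapSubtypeEquivOfLe (p := LinearMap.range N) (q := LinearMap.ker N) (by
        rintro _ ⟨z, rfl⟩; exact hN' z)).finrank_eq
    omega
  have hdd : LinearMap.det (d : ((R × E₀) × C) →ₗ[K] (R × E₀) × C) = 1 := by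
    rw [show (d : ((R × E₀) × C) →ₗ[K] (R × E₀) × C) =
        GL.TwoReg.upper (GL.TwoReg.upper (c • 1 : End K R) 0 (1 : End K E₀)) 0 (c⁻¹ • 1 : End K C) from
      LinearMap.ext fun ⟨⟨r, x⟩, y⟩ => by simp [hda],
      GL.TwoReg.det_upper, GL.TwoReg.det_upper, LinearMap.det_smul, LinearMap.det_smul]
    simp [hR, ← mul_pow, hc]
  refine ⟨i.symm.trans (d.trans i), ?_, ?_⟩
  · rw [← hdd]
    exact LinearMap.det_conj (d : ((R × E₀) × C) →ₗ[K] (R × E₀) × C) i
  · refine LinearMap.ext fun z => ?_
    obtain ⟨⟨⟨r, x⟩, y⟩, rfl⟩ := (d.trans i).surjective z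
    rw [LinearEquiv.conj_apply_apply]
    have hi : ∀ r x y, i ((r, x), y) = ((r : LinearMap.ker N) : V) + ((x : LinearMap.ker N) : V) + (y : V) := by
      intro r x y; simp [i, Submodule.coe_prodEquivOfIsCompl']
    have hsymm : (i.symm.trans (d.trans i)).symm ((d.trans i) ((r, x), y)) = i ((r, x), y) := by simp
    have he : ∀ z, (i.symm.trans (d.trans i)) (i z) = (d.trans i) z := fun z => by simp
    rw [hsymm, LinearMap.add_apply, LinearMap.add_apply, Module.End.one_apply, Module.End.one_apply, map_add, he]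
    congr 1
    have hk : ∀ w : LinearMap.ker N, N w = 0 := fun w => w.2
    have h1 : N (i ((r, x), y)) = N (y : V) := by simp [hi, hk]
    have hmem : (⟨N y, LinearMap.mem_ker.2 (hN' y)⟩ : LinearMap.ker N) ∈ R := LinearMap.mem_range_self N (y : V)
    have h2 : N (y : V) = i ((⟨_, hmem⟩, 0), 0) := by simp [hi]
    have h3 : (d.trans i) ((r, x), y) = i ((c • r, x), c⁻¹ • y) := rfl
    rw [h1, h2, he, LinearEquiv.trans_apply, hda, hi, LinearEquiv.trans_apply, hda, hi]
    simp [hk, smul_smul, pow_two, hc, hN']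

theorem prod_sq_zero {N : End K V} (hN : N * N = 0) : ∀ l : List K,
    (l.map fun a => 1 + a • N).prod = 1 + l.sum • N
  | [] => by simp
  | a :: l => by
    rw [List.map_cons, List.prod_cons, prod_sq_zero hN l, List.sum_cons, add_smul, mul_add, mul_one, add_mul, one_mul,
      smul_mul_assoc, mul_smul_comm, hN, smul_zero, smul_zero, add_zero, add_assoc]

variable [Fintype K]

/-- Nonzero numbers whose squares sum to zero. -/
theorem exists_squares (h4 : 4 ≤ Fintype.card K) {k : ℕ} (hk : k = 4 ∨ k = 5 ∨ k = 6) :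
    ∃ l : List K, l.length = k ∧ (∀ c ∈ l, c ≠ 0) ∧ (l.map (· ^ 2)).sum = 0 := by
  classical
  obtain ⟨t, ht⟩ := exists_notMem_card ({0, 1, -1} : Finset K) (by
    have := Finset.card_le_three (a := (0 : K)) (b := 1) (c := -1)
    omega)
  simp only [Finset.mem_insert, Finset.mem_singleton, not_or] at ht
  by_cases h2 : (2 : K) = 0
  · have hchar : ringChar K = 2 := by
      have : ringChar K ∣ 2 := (ringChar.spec K 2).1 (by exact_mod_cast h2)
      rcases (Nat.dvd_prime Nat.prime_two).1 this with h | h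
      · exact absurd h CharP.ringChar_ne_one
      · exact h
    obtain ⟨a, ha⟩ := FiniteField.isSquare_of_char_two hchar t
    obtain ⟨b, hb⟩ := FiniteField.isSquare_of_char_two hchar (1 + t)
    have ha0 : a ≠ 0 := fun h => ht.1 (by simp [ha, h])
    have hb0 : b ≠ 0 := fun h => ht.2.2 (eq_neg_of_add_eq_zero_right (by simp [hb, h]))
    rcases hk with rfl | rfl | rfl
    · exact ⟨[1, 1, 1, 1], rfl, by simp, by simp; linear_combination 2 * h2⟩
    · exact ⟨[1, 1, 1, a, b], rfl, by simp [ha0, hb0], by
        simp [pow_two, ← ha, ← hb]; linear_combination (2 + t) * h2⟩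
    · exact ⟨[1, 1, 1, 1, 1, 1], rfl, by simp, by simp; linear_combination 3 * h2⟩
  by_cases hi : ∃ i : K, i ^ 2 = -1
  · obtain ⟨i, hi⟩ := hi
    have hi0 : i ≠ 0 := fun h => by simp [h] at hi
    rcases hk with rfl | rfl | rfl
    · exact ⟨[1, i, 1, i], rfl, by simp [hi0], by simp [hi]⟩
    · by_cases h3 : (3 : K) = 0
      · exact ⟨[1, 1, 1, 1, i], rfl, by simp [hi0], by simp [hi]; linear_combination h3⟩
      by_cases h5 : (5 : K) = 0
      · exact ⟨[1, 1, 1, 1, 1], rfl, by simp, by simp; linear_combination h5⟩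
      have h4' : (4 : K) ≠ 0 := fun h => h2 (pow_eq_zero_iff (by norm_num : 2 ≠ 0) |>.1 (by linear_combination h))
      exact ⟨[3 / 5, 4 / 5, i, 1, i], rfl, by simp [hi0, h3, h4', h5], by simp [hi]; field_simp; ring⟩
    · exact ⟨[1, i, 1, i, 1, i], rfl, by simp [hi0], by simp [hi]⟩
  push Not at hi
  have hodd : ringChar K ≠ 2 := fun h => h2 (by
    have : ((2 : ℕ) : K) = 0 := (ringChar.spec K 2).2 (by rw [h])
    exact_mod_cast this)
  obtain ⟨x, y, hxy'⟩ := FiniteField.exists_root_sum_quadratic (f := (Polynomial.X ^ 2 : Polynomial K))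
    (g := Polynomial.X ^ 2 + Polynomial.C 1) (Polynomial.degree_X_pow 2)
    (Polynomial.degree_X_pow_add_C (by norm_num) 1) (FiniteField.odd_card_of_char_ne_two hodd)
  have hxy : x ^ 2 + y ^ 2 = -1 := by
    simp at hxy'
    linear_combination hxy'
  have hx : x ≠ 0 := fun h => hi y (by rw [h] at hxy; linear_combination hxy)
  have hy : y ≠ 0 := fun h => hi x (by rw [h] at hxy; linear_combination hxy)
  have ht1 : 1 + t ^ 2 ≠ 0 := fun h => hi t (by linear_combination h)
  have hu : (1 - t ^ 2) / (1 + t ^ 2) ≠ 0 := div_ne_zero (fun h => by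
    rcases mul_eq_zero.1 (show (1 - t) * (1 + t) = 0 by linear_combination h) with h' | h'
    exacts [ht.2.1 (sub_eq_zero.1 h').symm, ht.2.2 (eq_neg_of_add_eq_zero_right h')]) ht1
  have hv : 2 * t / (1 + t ^ 2) ≠ 0 := div_ne_zero (mul_ne_zero h2 ht.1) ht1
  have huv : ((1 - t ^ 2) / (1 + t ^ 2)) ^ 2 + (2 * t / (1 + t ^ 2)) ^ 2 = 1 := by field_simp; ring
  generalize (1 - t ^ 2) / (1 + t ^ 2) = u at hu huv
  generalize 2 * t / (1 + t ^ 2) = v at hv huv
  rcases hk with rfl | rfl | rfl
  · exact ⟨[u, v, x, y], rfl, by simp [hu, hv, hx, hy], by simp; linear_combination huv + hxy⟩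
  · exact ⟨[u, v, x * u, x * v, y], rfl, by simp [hu, hv, hx, hy], by
      simp [mul_pow]; linear_combination (1 + x ^ 2) * huv + hxy⟩
  · exact ⟨[1, x, y, 1, x, y], rfl, by simp [hx, hy], by simp; linear_combination 2 * hxy⟩

/-- A scalar plus a square-zero map. -/
theorem scalarProd_sq_zero (h4 : 4 ≤ Fintype.card K) {k : ℕ} (hk : k = 4 ∨ k = 5 ∨ k = 6) {A : End K V} {a : K}
    (ha : a ≠ 0) (hA : (A - a • 1) * (A - a • 1) = 0) : ScalarProd A k := by
  obtain ⟨N, hNdef⟩ : ∃ N, N = a⁻¹ • (A - a • 1) := ⟨_, rfl⟩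
  have hN : N * N = 0 := by rw [hNdef, smul_mul_smul_comm, hA, smul_zero]
  have hA' : A = a • (1 + N) := by
    rw [hNdef, smul_add, smul_smul, mul_inv_cancel₀ ha, one_smul, add_sub_cancel]
  obtain ⟨l, hl, hl0, hls⟩ := exists_squares h4 hk
  rw [hA']
  refine ScalarProd.smul ⟨(l.map (· ^ 2)).map fun a => 1 + a • N, 1, by simp [hl], ?_, ?_⟩ a
  · intro y hy
    simp only [List.map_map, List.mem_map] at hy
    obtain ⟨c, hc, rfl⟩ := hy
    exact sconj_sq_zero hN (hl0 c hc)
  · rw [prod_sq_zero hN, hls]; simp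

end Cfsg.Agent.LevCover
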