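import Cfsg.Agent.Lib.LevCover.Cyclic

/-!
Quadratic forms in two variables over a finite field and products of two cyclic elements in dimension two.
-/

set_option autoImplicit false

namespace Cfsg.Agent.LevCover

open Module Polynomial

universe uK u₁

variable {K : Type uK} [Field K] [Fintype K]

/-- A non-degenerate binary form takes every value. -/
theorem form_surjective {T D : K} (h : T ^ 2 ≠ 4 * D) (e : K) : ∃ a c : K, a ^ 2 + T * a * c + D * c ^ 2 = e := by
  by_cases h2 : (2 : K) = 0
  · have hc : ringChar K = 2 := CharP.ringChar_of_prime_eq_zero Nat.prime_two (by exact_mod_cast h2)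
    obtain ⟨a, ha⟩ := FiniteField.isSquare_of_char_two hc e
    exact ⟨a, 0, by rw [ha]; ring⟩
  · set E := D - T ^ 2 / 4
    have h4 : (4 : K) ≠ 0 := by rw [show (4 : K) = 2 * 2 by norm_num]; exact mul_ne_zero h2 h2
    have hE : E ≠ 0 := fun h0 => h (by
      simp only [E, sub_eq_zero] at h0
      rw [h0, mul_div_cancel₀ _ h4])
    obtain ⟨u, c, huc⟩ := FiniteField.exists_root_sum_quadratic (f := X ^ 2) (g := C E * X ^ 2 - C e)
      (by simp) (by compute_degree!) (FiniteField.odd_card_of_char_ne_two fun hc => h2 (by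
        have := ringChar.Nat.cast_ringChar (R := K)
        rw [hc] at this
        exact_mod_cast this))
    simp only [eval_pow, eval_X, eval_sub, eval_mul, eval_C] at huc
    refine ⟨u - T * c / 2, c, ?_⟩
    simp only [E] at huc
    field_simp at huc ⊢
    linear_combination huc

/-- The number `r` behind a degenerate form. -/
theorem exists_double_root {T D : K} (h : T ^ 2 = 4 * D) : ∃ r : K, r ^ 2 = D ∧ T = -2 * r := by
  by_cases h2 : (2 : K) = 0
  · have hc : ringChar K = 2 := CharP.ringChar_of_prime_eq_zero Nat.prime_two (by exact_mod_cast h2)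
    obtain ⟨r, hr⟩ := FiniteField.isSquare_of_char_two hc D
    refine ⟨r, by rw [hr]; ring, ?_⟩
    rw [neg_mul, h2, zero_mul, neg_zero]
    have : T ^ 2 = 0 := by rw [h, show (4 : K) = 2 * 2 by norm_num, h2]; ring
    simpa using this
  · refine ⟨-T / 2, ?_, by field_simp⟩
    field_simp
    linear_combination h

/-- The conic in the two-dimensional factorisation. -/
theorem conic {T D t d s : K}
    (h : (∃ r, r ^ 2 - t * r + d = 0) ∨ T ^ 2 ≠ 4 * D ∨ s ^ 2 ≠ t ^ 2 * D) :
    ∃ a c : K, a ^ 2 + T * a * c + D * c ^ 2 - t * a - s * c + d = 0 := by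
  rcases h with ⟨r, hr⟩ | h
  · exact ⟨r, 0, by linear_combination hr⟩
  by_cases hΔ : T ^ 2 ≠ 4 * D
  · have hE : 4 * D - T ^ 2 ≠ 0 := fun h0 => hΔ (sub_eq_zero.1 h0).symm
    obtain ⟨a₀, ha₀⟩ : ∃ a₀, a₀ = (2 * D * t - T * s) / (4 * D - T ^ 2) := ⟨_, rfl⟩
    obtain ⟨c₀, hc₀⟩ : ∃ c₀, c₀ = (2 * s - T * t) / (4 * D - T ^ 2) := ⟨_, rfl⟩
    have e1 : 2 * a₀ + T * c₀ = t := by
      rw [ha₀, hc₀, mul_div_assoc', mul_div_assoc', ← add_div, div_eq_iff hE]; ring
    have e2 : T * a₀ + 2 * D * c₀ = s := by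
      rw [ha₀, hc₀, mul_div_assoc', mul_div_assoc', ← add_div, div_eq_iff hE]; ring
    obtain ⟨a, c, hac⟩ := form_surjective hΔ
      (-(a₀ ^ 2 + T * a₀ * c₀ + D * c₀ ^ 2 - t * a₀ - s * c₀ + d))
    exact ⟨a₀ + a, c₀ + c, by linear_combination hac + a * e1 + c * e2⟩
  · have hs := h.resolve_left hΔ
    obtain ⟨r, hr, hT⟩ := exists_double_root (not_not.1 hΔ)
    have hk : t * r + s ≠ 0 := fun h0 => hs (by
      rw [← hr, show s = -(t * r) by linear_combination h0]; ring)
    obtain ⟨c, hc⟩ : ∃ c, c * (t * r + s) = d := ⟨d / (t * r + s), by field_simp⟩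
    exact ⟨r * c, c, by linear_combination c ^ 2 * r * hT - c ^ 2 * hr - hc⟩

variable {V : Type u₁} [AddCommGroup V] [Module K V] [FiniteDimensional K V]

omit [Fintype K] in
theorem exists_noneigen_two {H : End K V} (hH : ∀ c : K, H ≠ c • 1) :
    ∃ v, LinearIndependent K ![v, H v] := by
  by_contra hne
  push Not at hne
  obtain ⟨a, ha⟩ := H.exists_eq_smul_id_of_forall_notLinearIndependent hne
  exact hH a ha

/-- Sides without a repeated root give non-scalar factors. -/
def Sep (t d : K) : Prop := ∀ r, r ^ 2 - t * r + d = 0 → 2 * r ≠ t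

/-- Two quadratic pieces in dimension two. -/
theorem quad_factor (hV : finrank K V = 2) {H : End K V} (hH : ∀ c : K, H ≠ c • 1) {T : K}
    (hT : H * H = T • H - LinearMap.det H • 1) {t d t' d' : K} (hd : d ≠ 0) (hdet : LinearMap.det H = d * d')
    (h : (∃ r, r ^ 2 - t * r + d = 0) ∨ T ^ 2 ≠ 4 * LinearMap.det H ∨ d * t' ^ 2 ≠ d' * t ^ 2) :
    ∃ x y : End K V, H = x * y ∧ x * x = t • x - d • 1 ∧ y * y = t' • y - d' • 1 ∧ LinearMap.det x = d := by
  obtain ⟨v, hv⟩ := exists_noneigen_two hH
  let b : Basis (Fin 2) K V := basisOfLinearIndependentOfCardEqFinrank hv (by simp [hV])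
  let φ := LinearMap.toMatrixAlgEquiv b
  have hb : ⇑b = ![v, H v] := coe_basisOfLinearIndependentOfCardEqFinrank _ _
  have hM : φ H = !![0, -(d * d'); 1, T] := by
    have h0 : H (b (0 : Fin 2)) = b 1 := by simp [hb]
    have h1 : H (b (1 : Fin 2)) = T • b 1 - (d * d') • b 0 := by
      simp only [hb, Matrix.cons_val_one, Matrix.cons_val_zero]
      rw [← Module.End.mul_apply, hT, hdet]
      simp
    have hc0 : ∀ i, φ H i 0 = (b.repr (b 1)) i := fun i => by rw [← h0, LinearMap.toMatrixAlgEquiv_apply]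
    have hc1 : ∀ i, φ H i 1 = (b.repr (T • b 1 - (d * d') • b 0)) i := fun i => by
      rw [← h1, LinearMap.toMatrixAlgEquiv_apply]
    ext i j
    fin_cases i <;> fin_cases j <;> simp [hc0, hc1, Finsupp.single_apply]
  obtain ⟨a, c, hac⟩ := conic (T := T) (D := LinearMap.det H) (t := t) (d := d) (s := d * t') (by
    rcases h with h | h | h
    · exact Or.inl h
    · exact Or.inr (Or.inl h)
    · refine Or.inr (Or.inr fun h' => h ?_)
      rw [hdet] at h'
      exact mul_left_cancel₀ hd (by linear_combination h'))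
  rw [hdet] at hac
  obtain ⟨β, hβ⟩ : ∃ β, β = c * (d * d') + a * T - d * t' := ⟨_, rfl⟩
  refine ⟨φ.symm !![a, β; c, t - a],
    φ.symm (d⁻¹ • (!![t - a, -β; -c, a] * !![0, -(d * d'); 1, T])), ?_, ?_, ?_, ?_⟩
  case refine_4 =>
    rw [← LinearMap.det_toMatrix b]
    change (φ (φ.symm !![a, β; c, t - a])).det = d
    rw [AlgEquiv.apply_symm_apply, Matrix.det_fin_two]
    simp
    subst hβ
    grind
  all_goals apply φ.injective
  · rw [map_mul, AlgEquiv.apply_symm_apply, AlgEquiv.apply_symm_apply, hM]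
    ext i j
    fin_cases i <;> fin_cases j <;> simp [Matrix.mul_apply, Fin.sum_univ_two] <;> field_simp <;>
      subst hβ <;> grind
  · simp only [map_mul, map_sub, map_smul, map_one, AlgEquiv.apply_symm_apply]
    ext i j
    fin_cases i <;> fin_cases j <;> simp [Matrix.mul_apply, Fin.sum_univ_two] <;> subst hβ <;> grind
  · simp only [map_mul, map_sub, map_smul, map_one, AlgEquiv.apply_symm_apply]
    ext i j
    fin_cases i <;> fin_cases j <;> simp [Matrix.mul_apply, Fin.sum_univ_two] <;> field_simp <;>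
      subst hβ <;> grind

omit [Fintype K] in
theorem exists_trace_two (hV : finrank K V = 2) (H : End K V) :
    ∃ T : K, H * H = T • H - LinearMap.det H • 1 := by
  let b := Module.finBasisOfFinrankEq K V hV
  refine ⟨LinearMap.trace K V H, (LinearMap.toMatrixAlgEquiv b).injective ?_⟩
  rw [map_mul, map_sub, map_smul, map_smul, map_one, LinearMap.trace_eq_matrix_trace K b, ← LinearMap.det_toMatrix b]
  change LinearMap.toMatrix b b H * LinearMap.toMatrix b b H =
    Matrix.trace (LinearMap.toMatrix b b H) • LinearMap.toMatrix b b H - (LinearMap.toMatrix b b H).det • 1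
  ext i j
  fin_cases i <;> fin_cases j <;>
    simp [Matrix.mul_apply, Fin.sum_univ_two, Matrix.trace_fin_two, Matrix.det_fin_two, -LinearMap.det_toMatrix] <;> ring

omit [Fintype K] in
theorem ne_smul_of_sep {x : End K V} {t d : K} (hx : x * x = t • x - d • 1) (hs : Sep t d) (hV : finrank K V = 2)
    (hdet : LinearMap.det x = d) (h0 : d ≠ 0) : ∀ c : K, x ≠ c • 1 := by
  rintro c rfl
  have : Nontrivial V := Module.nontrivial_of_finrank_pos (R := K) (by omega)
  have hd : d = c ^ 2 := by rw [← hdet, LinearMap.det_smul, map_one, mul_one, hV]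
  have h1 : c * c = t * c - d := by
    obtain ⟨v, hv⟩ := exists_ne (0 : V)
    have := LinearMap.congr_fun hx v
    simp [smul_smul, ← sub_smul] at this
    exact smul_left_injective K hv this
  by_cases hc : c = 0
  · exact h0 (by rw [hd, hc]; ring)
  · refine hs c (by linear_combination h1) (mul_left_cancel₀ hc ?_)
    linear_combination h1 - hd

end Cfsg.Agent.LevCover
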