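import Cfsg.Agent.Lib.LevCover.Base

/-!
Endomorphisms with one-dimensional eigenspaces: a subspace `U` meeting its image trivially, and coordinates.
-/

set_option autoImplicit false

namespace Cfsg.Agent.LevCover

open Module

universe u

variable {K : Type u} [Field K] {V : Type u} [AddCommGroup V] [Module K V]

/-- All eigenspaces are at most lines. -/
def LowMult (A : End K V) : Prop := ∀ c : K, finrank K (LinearMap.ker (A - c • 1)) ≤ 1

theorem Free.lowMult {A : End K V} (hA : Free A) : LowMult A := fun c => by
  rw [show LinearMap.ker (A - c • 1) = ⊥ from LinearMap.ker_eq_bot'.2 fun z hz => hA z c (by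
    simpa [sub_eq_zero] using hz)]
  simp

theorem finrank_comap_le [FiniteDimensional K V] (f : End K V) (S : Submodule K V) :
    finrank K (S.comap f) ≤ finrank K S + finrank K (LinearMap.ker f) := by
  have h := LinearMap.finrank_range_add_finrank_ker (f.domRestrict (S.comap f))
  have h1 : finrank K (LinearMap.range (f.domRestrict (S.comap f))) ≤ finrank K S := by
    refine Submodule.finrank_mono ?_
    rintro _ ⟨x, rfl⟩
    exact x.2
  have h2 : finrank K (LinearMap.ker (f.domRestrict (S.comap f))) ≤ finrank K (LinearMap.ker f) := by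
    refine LinearMap.finrank_le_finrank_of_injective
      (f := ((S.comap f).subtype.domRestrict (LinearMap.ker (f.domRestrict (S.comap f)))).codRestrict (LinearMap.ker f)
        fun x => LinearMap.mem_ker.1 x.2) ?_
    intro x y h
    have h' := congrArg (fun z : LinearMap.ker f => (z : V)) h
    exact Subtype.ext (Subtype.ext h')
  omega

variable [Fintype K] [FiniteDimensional K V]

theorem card_le_pow {S : Submodule K V} {d : ℕ} (h : finrank K S ≤ d) :
    Nat.card S ≤ Fintype.card K ^ d := by
  rw [Module.natCard_eq_pow_finrank (K := K), Nat.card_eq_fintype_card]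
  exact Nat.pow_le_pow_right Fintype.card_pos h

/-- Some vector outside few small subspaces. -/
theorem exists_outside {ι : Type*} [Fintype ι] (S : Submodule K V) (P : ι → Submodule K V)
    (h : Nat.card S + ∑ i, Nat.card (P i) < Fintype.card K ^ finrank K V) :
    ∃ x, x ∉ S ∧ ∀ i, x ∉ P i := by
  classical
  have : Finite V := Module.finite_of_finite K
  have : Fintype V := Fintype.ofFinite V
  by_contra hne
  push Not at hne
  have hsub : (Finset.univ : Finset V) ⊆ (Finset.univ.filter (· ∈ S)) ∪
      Finset.univ.biUnion fun i => Finset.univ.filter (· ∈ P i) := by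
    intro x _
    by_cases hx : x ∈ S
    · simp [hx]
    · obtain ⟨i, hi⟩ := hne x hx
      simp only [Finset.mem_union, Finset.mem_biUnion]
      exact Or.inr ⟨i, Finset.mem_univ _, by simpa⟩
  have h1 := (Finset.card_le_card hsub).trans ((Finset.card_union_le _ _).trans
    (Nat.add_le_add_left Finset.card_biUnion_le _))
  have hS : ∀ Q : Submodule K V, (Finset.univ.filter (· ∈ Q)).card = Nat.card Q := fun Q => by
    rw [Nat.card_eq_fintype_card, Fintype.card_subtype]
  simp only [hS, Finset.card_univ] at h1
  rw [Module.card_eq_pow_finrank (K := K)] at h1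
  omega

theorem arith_zero {q n a b c : ℕ} (hq : 4 ≤ q) (hn : 4 ≤ n) (ha : a ≤ q ^ (2 * 0))
    (hb : b ≤ q ^ (2 * 0) + (q - 1) * q ^ (2 * 0 + 1)) (hc : c ≤ 1 + (q - 1) * q ^ (n - 1)) :
    a + (b + c) < q ^ n := by
  obtain ⟨m, rfl⟩ : ∃ m, n = m + 3 := ⟨n - 3, by omega⟩
  obtain ⟨k, rfl⟩ : ∃ k, q = k + 4 := ⟨q - 4, by omega⟩
  simp only [Nat.mul_zero, pow_zero, zero_add, pow_one] at ha hb
  rw [show m + 3 - 1 = m + 2 by omega, show k + 4 - 1 = k + 3 by omega] at hc
  rw [show k + 4 - 1 = k + 3 by omega] at hb
  have h7 : (k + 4) * (k + 4) ≤ (k + 4) ^ (m + 2) := by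
    rw [← pow_two]
    exact Nat.pow_le_pow_right (by omega) (by omega)
  rw [pow_succ _ (m + 2)]
  nlinarith

theorem arith_succ {q n j a b : ℕ} (hq : 4 ≤ q) (hj : 0 < j) (hn : 2 * (j + 1) ≤ n) (ha : a ≤ q ^ (2 * j))
    (hb : b ≤ q ^ (2 * j) + (q - 1) * q ^ (2 * j + 1)) : a + (b + q) < q ^ n := by
  obtain ⟨k, rfl⟩ : ∃ k, q = k + 4 := ⟨q - 4, by omega⟩
  rw [show k + 4 - 1 = k + 3 by omega] at hb
  have h7 : (k + 4) ^ (2 * j + 1 + 1) ≤ (k + 4) ^ n := Nat.pow_le_pow_right (by omega) (by omega)
  have hp : k + 4 ≤ (k + 4) ^ (2 * j) := Nat.le_self_pow (by omega) _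
  rw [pow_succ, pow_succ] at h7
  rw [pow_succ] at hb
  have h9 : 4 * (k + 4) ^ (2 * j) ≤ (k + 4) ^ (2 * j) * (k + 4) := by nlinarith
  nlinarith

/-- The data of the greedy choice. -/
def Good (A : End K V) {j : ℕ} (u : Fin j → V) : Prop :=
  LinearIndependent K (Sum.elim u fun i => A (u i)) ∧
    ∀ (h : 0 < j) (c : K), LinearMap.ker (A - c • 1) ≠ ⊥ → u ⟨0, h⟩ ∉ LinearMap.range (A - c • 1)

theorem exists_good (h4 : 4 ≤ Fintype.card K) {A : End K V} (hA : LowMult A) (hdet : LinearMap.det A ≠ 0)
    (hn : 4 ≤ finrank K V) : ∀ j, 2 * j ≤ finrank K V → ∃ u : Fin j → V, Good A u := by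
  intro j
  induction j with
  | zero => exact fun _ => ⟨![], linearIndependent_empty_type, fun h => absurd h (lt_irrefl 0)⟩
  | succ j ih =>
    intro hj
    obtain ⟨u, hu, hu0⟩ := ih (by omega)
    obtain ⟨S, hSdef⟩ : ∃ S, S = Submodule.span K (Set.range (Sum.elim u fun i => A (u i))) := ⟨_, rfl⟩
    have hS : finrank K S = 2 * j := by
      rw [hSdef, finrank_span_eq_card hu]; simp; omega
    have hker0 : LinearMap.ker A = ⊥ := by
      by_contra hk
      exact hdet (LinearMap.det_eq_zero_iff_ker_ne_bot.2 hk)
    classical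
    -- the subspaces to avoid
    let P : K ⊕ K → Submodule K V := Sum.elim (fun c => S.comap (A - c • 1))
      (fun c => if j = 0 ∧ LinearMap.ker (A - c • 1) ≠ ⊥ then LinearMap.range (A - c • 1) else ⊥)
    have hcount : Nat.card S + ∑ i, Nat.card (P i) < Fintype.card K ^ finrank K V := by
      have hS' : Nat.card S ≤ Fintype.card K ^ (2 * j) := card_le_pow hS.le
      have hc : ∀ c : K, Nat.card (S.comap (A - c • 1)) ≤ Fintype.card K ^ (2 * j + 1) := fun c =>
        card_le_pow ((finrank_comap_le _ _).trans (by have := hA c; omega))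
      have h0 : Nat.card (S.comap (A - (0 : K) • 1)) ≤ Fintype.card K ^ (2 * j) := by
        refine card_le_pow ((finrank_comap_le _ _).trans ?_)
        rw [zero_smul, sub_zero, hker0]
        simp [hS]
      have h1 : ∑ c : K, Nat.card (S.comap (A - c • 1)) ≤ Fintype.card K ^ (2 * j) + (Fintype.card K - 1) * Fintype.card K ^ (2 * j + 1) := by
        rw [← Finset.add_sum_erase _ _ (Finset.mem_univ (0 : K))]
        refine Nat.add_le_add h0 ((Finset.sum_le_card_nsmul _ _ _ fun c _ => hc c).trans ?_)
        rw [Finset.card_erase_of_mem (Finset.mem_univ _), Finset.card_univ, smul_eq_mul]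
      rw [Fintype.sum_sum_type]
      simp only [P, Sum.elim_inl, Sum.elim_inr]
      rcases Nat.eq_zero_or_pos j with rfl | hj0
      · have h2 : ∑ c : K, Nat.card (if (0 = 0 ∧ LinearMap.ker (A - c • 1) ≠ ⊥) then LinearMap.range (A - c • 1)
            else ⊥ : Submodule K V) ≤ 1 + (Fintype.card K - 1) * Fintype.card K ^ (finrank K V - 1) := by
          rw [← Finset.add_sum_erase _ _ (Finset.mem_univ (0 : K))]
          refine Nat.add_le_add ?_ ((Finset.sum_le_card_nsmul _ _ (Fintype.card K ^ (finrank K V - 1)) fun c _ => ?_).trans ?_)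
          · rw [zero_smul, sub_zero, hker0]
            simp
          · split_ifs with h
            · refine card_le_pow ?_
              have h3 := LinearMap.finrank_range_add_finrank_ker (A - c • 1)
              have h5 : finrank K (LinearMap.ker (A - c • 1)) ≠ 0 := fun h5 =>
                h.2 (Submodule.finrank_eq_zero.1 h5)
              omega
            · refine card_le_pow ?_
              simp
          · rw [Finset.card_erase_of_mem (Finset.mem_univ _), Finset.card_univ, smul_eq_mul]
        exact arith_zero h4 hn hS' h1 h2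
      · have h2 : ∀ c : K, Nat.card (if (j = 0 ∧ LinearMap.ker (A - c • 1) ≠ ⊥) then LinearMap.range (A - c • 1)
            else ⊥ : Submodule K V) = 1 := fun c => by
          rw [if_neg (by omega)]
          simp
        simp only [h2, Finset.sum_const, Finset.card_univ, smul_eq_mul, mul_one]
        exact arith_succ h4 hj0 hj hS' h1
    obtain ⟨x, hxS, hxP⟩ := exists_outside S P hcount
    refine ⟨Fin.snoc u x, ?_, fun h c hc => ?_⟩
    · rw [Fintype.linearIndependent_iff]
      intro g hg
      rw [Fintype.sum_sum_type, Fin.sum_univ_castSucc, Fin.sum_univ_castSucc] at hg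
      simp only [Sum.elim_inl, Sum.elim_inr, Fin.snoc_castSucc, Fin.snoc_last] at hg
      set a := g (Sum.inl (Fin.last j))
      set b := g (Sum.inr (Fin.last j))
      have hmem : a • x + b • A x ∈ S := by
        have : a • x + b • A x = -(∑ i, g (Sum.inl (Fin.castSucc i)) • u i +
            ∑ i, g (Sum.inr (Fin.castSucc i)) • A (u i)) := by
          rw [eq_neg_iff_add_eq_zero, ← hg]; abel
        rw [this, hSdef]
        exact Submodule.neg_mem _ (Submodule.add_mem _
          (Submodule.sum_mem _ fun i _ => Submodule.smul_mem _ _ (Submodule.subset_span ⟨Sum.inl i, rfl⟩))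
          (Submodule.sum_mem _ fun i _ => Submodule.smul_mem _ _ (Submodule.subset_span ⟨Sum.inr i, rfl⟩)))
      have hb : b = 0 := by
        by_contra hb
        refine hxP (Sum.inl (-(a / b))) ?_
        show (A - (-(a / b)) • 1) x ∈ S
        have := S.smul_mem b⁻¹ hmem
        rw [smul_add, smul_smul, smul_smul, inv_mul_cancel₀ hb, one_smul] at this
        simpa [div_eq_inv_mul, add_comm] using this
      have ha : a = 0 := by
        by_contra ha
        rw [hb, zero_smul, add_zero] at hmem
        exact hxS ((S.smul_mem_iff ha).1 hmem)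
      rw [ha, hb, zero_smul, zero_smul, add_zero, add_zero] at hg
      have h0 := Fintype.linearIndependent_iff.1 hu
        (Sum.elim (fun i => g (Sum.inl i.castSucc)) fun i => g (Sum.inr i.castSucc))
        (by rw [Fintype.sum_sum_type]; simpa using hg)
      rintro (i | i)
      · refine Fin.lastCases ha (fun i => ?_) i
        exact h0 (Sum.inl i)
      · refine Fin.lastCases hb (fun i => ?_) i
        exact h0 (Sum.inr i)
    · rcases Nat.eq_zero_or_pos j with rfl | hj0
      · have := hxP (Sum.inr c)
        simp only [P, Sum.elim_inr, if_pos (And.intro trivial hc)] at this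
        simpa [Fin.snoc] using this
      · have : (⟨0, h⟩ : Fin (j + 1)) = Fin.castSucc ⟨0, hj0⟩ := rfl
        rw [this, Fin.snoc_castSucc]
        exact hu0 hj0 c hc

end Cfsg.Agent.LevCover
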