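import Cfsg.Agent.Lib.LevCover.Top

/-!
An endomorphism without eigenvalues of determinant one, and products of `n - 1` transvections.
-/

set_option autoImplicit false

namespace Cfsg.Agent.LevCover

open Module Polynomial

universe u

variable {K : Type u} [Field K]

/-- An endomorphism of determinant one without eigenvalues. -/
theorem exists_free_det_one [Fintype K] {n : ℕ} (hn : 2 ≤ n) :
    ∃ g : End K (Fin n → K), LinearMap.det g = 1 ∧ Free g := by
  classical
  obtain ⟨a, ha⟩ : ∃ a : K, a ∉ (Finset.univ.erase (0 : K)).image fun r => -(r ^ n + (-1) ^ n) / r := by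
    by_contra hne
    push Not at hne
    have h1 : (Finset.univ : Finset K) ⊆ _ := fun x _ => hne x
    have h2 := (Finset.card_le_card h1).trans Finset.card_image_le
    rw [Finset.card_erase_of_mem (Finset.mem_univ _), Finset.card_univ] at h2
    have := Fintype.card_pos (α := K)
    omega
  let p : K[X] := X ^ n + (C a * X + C ((-1) ^ n))
  have hq : (C a * X + C ((-1) ^ n) : K[X]).degree < (n : ℕ) := by
    refine lt_of_le_of_lt Polynomial.degree_linear_le ?_
    exact_mod_cast (show 1 < n by omega)
  have hm : p.Monic := monic_X_pow_add hq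
  have hdeg : p.natDegree = n := by
    have : p.degree = (n : ℕ) := by
      simp only [p]
      rw [degree_add_eq_left_of_degree_lt (by rwa [degree_X_pow]), degree_X_pow]
    exact natDegree_eq_of_degree_eq_some this
  have hroot : ∀ r : K, p.eval r ≠ 0 := by
    intro r hr
    simp [p] at hr
    by_cases h0 : r = 0
    · subst h0
      rw [zero_pow (by omega)] at hr
      simp at hr
    · refine ha (Finset.mem_image.2 ⟨r, by simp [h0], ?_⟩)
      rw [div_eq_iff h0]
      linear_combination -hr
  have := Semisimple.finite_adjoinRoot hm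
  let e : AdjoinRoot p ≃ₗ[K] (Fin n → K) := LinearEquiv.ofFinrankEq _ _ (by
    rw [Semisimple.finrank_adjoinRoot hm, hdeg]; simp)
  obtain ⟨g, hg⟩ : ∃ g, g = e.conj (Semisimple.rootMul p) := ⟨_, rfl⟩
  have hgt : CycTy g p := hg ▸ (cycTy_rootMul p hm).of_sim (sim_conj e _)
  refine ⟨g, ?_, fun z c hz => ?_⟩
  · have h0 : p.coeff 0 = (-1) ^ n := by simp [p, Polynomial.coeff_zero_eq_eval_zero, show n ≠ 0 by omega]
    rw [hgt.det_eq, h0, Module.finrank_fin_fun, ← pow_add, ← two_mul, pow_mul, neg_one_sq, one_pow]
  · by_contra hz0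
    have h1 := Module.End.aeval_apply_of_hasEigenvector (p := p)
      (show Module.End.HasEigenvector g c z from ⟨Module.End.mem_eigenspace_iff.2 hz, hz0⟩)
    rw [hgt.zero, LinearMap.zero_apply, eq_comm, smul_eq_zero] at h1
    exact hroot c (h1.resolve_right hz0)

variable {V : Type u} [AddCommGroup V] [Module K V] [FiniteDimensional K V]

/-- Conjugates of `1 + φ(·) u` have a common fixed vector when they are fewer than the dimension. -/
theorem exists_common_fixed {k : ℕ} (hk : k < finrank K V) (φ : Dual K V) (u : V) (e : Fin k → V ≃ₗ[K] V) :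
    ∃ z : V, z ≠ 0 ∧ ∀ i, (e i).conj (LinearMap.transvection φ u) z = z := by
  let ψ : V →ₗ[K] (Fin k → K) := LinearMap.pi fun i => φ.comp ((e i).symm : V →ₗ[K] V)
  have h1 := LinearMap.finrank_range_add_finrank_ker ψ
  have h2 := Submodule.finrank_le (LinearMap.range ψ)
  rw [Module.finrank_fin_fun] at h2
  have h3 : LinearMap.ker ψ ≠ ⊥ := fun h => by rw [h, finrank_bot] at h1; omega
  obtain ⟨z, hz, hz0⟩ := Submodule.exists_mem_ne_zero_of_ne_bot h3
  refine ⟨z, hz0, fun i => ?_⟩
  have hi : φ ((e i).symm z) = 0 := congrFun (LinearMap.mem_ker.1 hz) i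
  rw [LinearEquiv.conj_apply_apply, LinearMap.transvection.apply, hi, zero_smul, add_zero,
    LinearEquiv.apply_symm_apply]

end Cfsg.Agent.LevCover
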