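import Cfsg.Agent.Lib.LevCover.Move

/-!
Every admissible non-scalar endomorphism is a product of `n` conjugates: peeling and the induction.
-/

set_option autoImplicit false

namespace Cfsg.Agent.LevCover

open Module Cfsg.Agent.GL.TwoReg

universe u

variable {K : Type u} [Field K] {V : Type u} [AddCommGroup V] [Module K V]

/-- A product of `k` conjugates without a common eigenvector. -/
def Cov (A : End K V) (k : ℕ) (g : End K V) : Prop :=
  ∃ L : List (End K V), L.length = k ∧ (∀ x ∈ L, SConj A x) ∧ L.prod = g ∧ NoEig L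

variable {W : Type u} [AddCommGroup W] [Module K W]

theorem prod_common (lam : K) : ∀ (L : List (End K W)) (z : W), (∀ x ∈ L, x z = lam • z) →
    L.prod z = lam ^ L.length • z
  | [], z, _ => by simp
  | x :: L, z, h => by
    rw [List.prod_cons, Module.End.mul_apply, prod_common lam L z fun y hy => h y (List.mem_cons_of_mem _ hy),
      map_smul, h x List.mem_cons_self, smul_smul, List.length_cons, pow_succ]

variable [FiniteDimensional K W]

theorem det_upper_line (a : K) (R : W →ₗ[K] K) (f : End K W) :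
    LinearMap.det (upper (a • 1 : End K K) R f) = a * LinearMap.det f := by
  rw [det_upper, LinearMap.det_smul, map_one, mul_one, Module.finrank_self, pow_one]

theorem trace_upper_line (a : K) (R : W →ₗ[K] K) (f : End K W) :
    LinearMap.trace K (K × W) (upper (a • 1 : End K K) R f) = a + LinearMap.trace K W f := by
  have h1 : upper (a • 1 : End K K) R f = LinearMap.prodMap (a • 1 : End K K) f +
      ((LinearMap.inl K K W).comp R).comp (LinearMap.snd K K W) := by
    refine LinearMap.ext fun ⟨c, y⟩ => ?_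
    simp
  rw [h1, map_add, LinearMap.trace_prodMap', LinearMap.trace_comp_comm',
    show (LinearMap.snd K K W).comp ((LinearMap.inl K K W).comp R) = 0 from LinearMap.ext fun y => by simp,
    map_zero, add_zero, map_smul, LinearMap.trace_one, Module.finrank_self]
  simp

/-- The rows reachable above a list of conjugates. -/
theorem avail {lam : K} (hlam : lam ≠ 0) (A₀ : End K W) (r₀ : W →ₗ[K] K) :
    ∀ L : List (End K W), (∀ x ∈ L, Sim A₀ x) → ∃ R₀ : W →ₗ[K] K, ∀ D : W →ₗ[K] K,
      (∀ z, (∀ x ∈ L, x z = lam • z) → D z = 0) →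
      ∃ M : List (End K (K × W)), M.length = L.length ∧ (∀ y ∈ M, SConj (upper (lam • 1 : End K K) r₀ A₀) y) ∧
        (∀ x ∈ L, ∃ y ∈ M, ∀ z, (y z).2 = x z.2) ∧
        M.prod = upper (lam ^ L.length • 1 : End K K) (R₀ + D) L.prod := by
  intro L
  induction L with
  | nil =>
    refine fun _ => ⟨0, fun D hD => ⟨[], rfl, by simp, by simp, ?_⟩⟩
    have hD0 : D = 0 := LinearMap.ext fun z => hD z (by simp)
    refine LinearMap.ext fun ⟨c, y⟩ => ?_
    simp [hD0]
  | cons x L ih =>
    intro hx
    obtain ⟨R₀, hR₀⟩ := ih fun y hy => hx y (List.mem_cons_of_mem _ hy)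
    obtain ⟨P, rfl⟩ := Sim.iff_conj.1 (hx x List.mem_cons_self)
    set κ := (LinearMap.det (P : W →ₗ[K] W))⁻¹ with hκ
    have hκ0 : κ ≠ 0 := inv_ne_zero (det_equiv_ne_zero P)
    refine ⟨lam • R₀ + (κ • r₀.comp (P.symm : W →ₗ[K] W)).comp L.prod, fun D hD => ?_⟩
    let m := L.length
    -- the part of `D` produced by the first conjugate
    let Z : Submodule K W :=
      { carrier := {z | ∀ y ∈ L, y z = lam • z}
        add_mem' := fun {a b} ha hb y hy => by rw [map_add, ha y hy, hb y hy, smul_add]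
        zero_mem' := fun y _ => by simp
        smul_mem' := fun c a ha y hy => by rw [map_smul, ha y hy, smul_comm] }
    let f : Z →ₗ[K] W := (lam ^ m • (P.conj A₀ - lam • 1)).comp Z.subtype
    have hker : D.comp Z.subtype ∈ (LinearMap.ker f).dualAnnihilator := by
      rw [Submodule.mem_dualAnnihilator]
      intro z hz
      refine hD z.1 fun y hy => ?_
      rcases List.mem_cons.1 hy with rfl | hy
      · have h' : lam ^ m • ((P.conj A₀ - lam • 1) z.1) = 0 := hz
        rw [smul_eq_zero] at h'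
        have h'' := h'.resolve_left (pow_ne_zero _ hlam)
        simpa [sub_eq_zero] using h''
      · exact z.2 y hy
    rw [← LinearMap.range_dualMap_eq_dualAnnihilator_ker] at hker
    obtain ⟨s, hs⟩ := hker
    let D₁ : W →ₗ[K] K := lam⁻¹ • (D - (s.comp (P.conj A₀ - lam • 1)).comp L.prod)
    obtain ⟨M, hM, hMc, hMs, hMp⟩ := hR₀ D₁ fun z hz => by
      have h1 := LinearMap.congr_fun hs ⟨z, hz⟩
      simp only [LinearMap.dualMap_apply, f, LinearMap.comp_apply, Submodule.coe_subtype, LinearMap.smul_apply] at h1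
      simp only [D₁, LinearMap.smul_apply, LinearMap.sub_apply, LinearMap.comp_apply, prod_common lam L z hz,
        map_smul]
      rw [← h1]
      simp [map_smul, m, LinearMap.sub_apply]
    -- the first conjugate
    obtain ⟨U, hU⟩ := exists_equiv_of_det (A := upper (κ • 1 : End K K) (s.comp (P : W →ₗ[K] W)) (P : W →ₗ[K] W))
      (by rw [det_upper_line]; exact mul_ne_zero hκ0 (det_equiv_ne_zero P))
    have hUd : LinearMap.det (U : (K × W) →ₗ[K] K × W) = 1 := by
      rw [hU, det_upper_line, hκ, inv_mul_cancel₀ (det_equiv_ne_zero P)]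
    have hUa : ∀ c y, U (c, y) = (κ * c + s (P y), P y) := fun c y => by
      rw [show U (c, y) = (U : (K × W) →ₗ[K] K × W) (c, y) from rfl, hU]
      simp
    have hy : U.conj (upper (lam • 1 : End K K) r₀ A₀) = upper (lam • 1 : End K K)
        (κ • r₀.comp (P.symm : W →ₗ[K] W) + s.comp (P.conj A₀ - lam • 1)) (P.conj A₀) := by
      refine LinearMap.ext fun z => ?_
      obtain ⟨⟨c, y⟩, rfl⟩ := U.surjective z
      rw [LinearEquiv.conj_apply_apply, U.symm_apply_apply, hUa, upper_apply, hUa, upper_apply]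
      simp [LinearEquiv.conj_apply_apply, mul_add]
      ring
    refine ⟨U.conj (upper (lam • 1 : End K K) r₀ A₀) :: M, by simp [hM], fun y hy' => ?_, fun w hw => ?_, ?_⟩
    · rcases List.mem_cons.1 hy' with rfl | hy'
      · exact ⟨U, hUd, rfl⟩
      · exact hMc y hy'
    · rcases List.mem_cons.1 hw with rfl | hw
      · exact ⟨_, List.mem_cons_self, fun z => by rw [hy]; obtain ⟨c, y⟩ := z; simp⟩
      · obtain ⟨y, hy', hys⟩ := hMs w hw
        exact ⟨y, List.mem_cons_of_mem _ hy', hys⟩
    · rw [List.prod_cons, hMp, hy, upper_mul, List.prod_cons, List.length_cons]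
      refine LinearMap.ext fun ⟨c, y⟩ => ?_
      simp [D₁, pow_succ, hlam]
      field_simp
      ring

variable [FiniteDimensional K V]

/-- Peeling one vector. -/
theorem peel (hW : 0 < finrank K W) {A g : End K V} {lam : K} (hlam : lam ≠ 0) (e₁ e : (K × W) ≃ₗ[K] V)
    (r₀ R : W →ₗ[K] K) (A' h' : End K W) (hA : A = e₁.conj (upper (lam • 1 : End K K) r₀ A'))
    (hdet : LinearMap.det ((e₁.symm.trans e : V ≃ₗ[K] V) : V →ₗ[K] V) = 1) {x : End K V} (hx : SConj A x)
    (hg : x * e.conj (upper (lam ^ finrank K W • 1 : End K K) R h') = g)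
    (hline : ∀ c : K, x (e (1, 0)) ≠ c • e (1, 0))
    (hL : ∃ L : List (End K W), L.length = finrank K W ∧ (∀ y ∈ L, Sim A' y) ∧ L.prod = h' ∧ NoEig L) :
    Cov A (finrank K W + 1) g := by
  obtain ⟨L, hLl, hLs, hLp, hLn⟩ := hL
  obtain ⟨R₀, hR₀⟩ := avail hlam A' r₀ L hLs
  obtain ⟨M, hM, hMc, hMs, hMp⟩ := hR₀ (R - R₀) fun z hz => by
    by_cases hz0 : z = 0
    · simp [hz0]
    obtain ⟨y, hy, hne⟩ := hLn z lam hz0
    exact absurd (hz y hy) hne
  rw [hLl, hLp, add_sub_cancel] at hMp
  have hprod : (M.map fun y => e.conj y).prod = e.conj M.prod := by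
    clear hM hMc hMs hMp
    induction M with
    | nil => exact LinearMap.ext fun z => by simp [LinearEquiv.conj_apply_apply]
    | cons y M ih =>
      rw [List.map_cons, List.prod_cons, ih, List.prod_cons]
      exact LinearMap.ext fun z => by simp [Module.End.mul_apply, LinearEquiv.conj_apply_apply]
  refine ⟨x :: M.map (fun y => e.conj y), by simp [hM, hLl], ?_, by rw [List.prod_cons, hprod, hMp, hg], ?_⟩
  · intro y hy
    rcases List.mem_cons.1 hy with rfl | hy
    · exact hx
    obtain ⟨y, hy', rfl⟩ := List.mem_map.1 hy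
    refine SConj.trans ⟨e₁.symm.trans e, hdet, rfl⟩ ?_
    have h0 : (e₁.symm.trans e).conj A = e.conj (upper (lam • 1 : End K K) r₀ A') := by
      rw [hA, conj_trans_apply]
      congr 1
      exact LinearMap.ext fun z => by simp [LinearEquiv.conj_apply_apply]
    rw [h0]
    exact sconj_transport e (hMc y hy')
  · intro z ν hz
    by_contra hne
    push Not at hne
    obtain ⟨⟨c, y⟩, rfl⟩ := e.surjective z
    have hy0 : y = 0 := by
      by_contra hy0
      obtain ⟨w, hw, hwne⟩ := hLn y ν hy0
      obtain ⟨q, hq, hqs⟩ := hMs w hw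
      have h1 := hne (e.conj q) (List.mem_cons_of_mem _ (List.mem_map.2 ⟨q, hq, rfl⟩))
      rw [LinearEquiv.conj_apply_apply, e.symm_apply_apply, ← map_smul] at h1
      have h2 := congrArg Prod.snd (e.injective h1)
      rw [hqs (c, y)] at h2
      exact hwne h2
    subst hy0
    have hc : c ≠ 0 := fun h => hz (by rw [h]; simp)
    have h1 := hne x List.mem_cons_self
    have he : e (c, 0) = c • e (1, 0) := by rw [← map_smul]; simp
    rw [he, map_smul, smul_comm ν c] at h1
    exact hline ν (smul_right_injective V hc h1)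

/-- An eigenvector with non-scalar quotient. -/
theorem exists_peel_vector (hn : 3 ≤ finrank K V) {A : End K V} (hA : NS A) (hfree : ¬ Free A) :
    ∃ (lam : K) (v : V), v ≠ 0 ∧ A v = lam • v ∧ ∀ κ : K, ¬ LinearMap.range (A - κ • 1) ≤ K ∙ v := by
  have hline : ∀ (v : V) (κ : K), LinearMap.range (A - κ • 1) ≤ K ∙ v →
      finrank K (LinearMap.range (A - κ • 1)) ≤ 1 := fun v κ h => by
    refine (Submodule.finrank_mono h).trans ?_
    classical
    have := finrank_span_finset_le_card (R := K) ({v} : Finset V)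
    rw [Finset.coe_singleton, Finset.card_singleton] at this
    exact this
  by_cases hG : Gen A
  · simp only [Free, not_forall] at hfree
    obtain ⟨v, lam, hv, hv0⟩ := hfree
    exact ⟨lam, v, hv0, hv, fun κ h => by have := hG κ; have := hline v κ h; omega⟩
  simp only [Gen, not_forall, not_le] at hG
  obtain ⟨κ₀, hκ₀⟩ := hG
  have h1 := LinearMap.finrank_range_add_finrank_ker (A - κ₀ • 1)
  have hnle : ¬ LinearMap.ker (A - κ₀ • 1) ≤ LinearMap.range (A - κ₀ • 1) := fun h => by
    have := Submodule.finrank_mono h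
    omega
  obtain ⟨v, hv, hvr⟩ := SetLike.not_le_iff_exists.1 hnle
  have hv0 : v ≠ 0 := fun h => hvr (h ▸ Submodule.zero_mem _)
  refine ⟨κ₀, v, hv0, by simpa [sub_eq_zero] using hv, fun κ hκ => ?_⟩
  have h2 := LinearMap.finrank_range_add_finrank_ker (A - κ • 1)
  have h3 := hline v κ hκ
  by_cases he : κ = κ₀
  · subst he
    have hne : LinearMap.range (A - κ • 1) ≠ ⊥ := fun h => hA κ (sub_eq_zero.1 (LinearMap.range_eq_bot.1 h))
    have h5 : finrank K (LinearMap.range (A - κ • 1)) ≠ 0 := fun h5 => hne (Submodule.finrank_eq_zero.1 h5)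
    refine hvr ?_
    have h6 : LinearMap.range (A - κ • 1) = K ∙ v :=
      Submodule.eq_of_le_of_finrank_le hκ (by rw [finrank_span_singleton hv0]; omega)
    rw [h6]
    exact Submodule.mem_span_singleton_self v
  · have hdisj : LinearMap.ker (A - κ₀ • 1) ⊓ LinearMap.ker (A - κ • 1) = ⊥ := by
      rw [Submodule.eq_bot_iff]
      rintro z ⟨z1, z2⟩
      rw [SetLike.mem_coe, LinearMap.mem_ker] at z1 z2
      simp [sub_eq_zero] at z1 z2
      by_contra hz
      exact he (smul_left_injective K hz (z2.symm.trans z1))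
    have hsum := Submodule.finrank_sup_add_finrank_inf_eq (LinearMap.ker (A - κ₀ • 1)) (LinearMap.ker (A - κ • 1))
    rw [hdisj, finrank_bot] at hsum
    have := Submodule.finrank_le (LinearMap.ker (A - κ₀ • 1) ⊔ LinearMap.ker (A - κ • 1))
    omega

/-- Coordinates with a given first vector. -/
theorem exists_coords {v : V} (hv : v ≠ 0) {m : ℕ} (hm : finrank K V = m + 1) :
    ∃ e : (K × (Fin m → K)) ≃ₗ[K] V, e (1, 0) = v := by
  obtain ⟨C, hC⟩ := Submodule.exists_isCompl (K ∙ v)
  have hCd : finrank K C = m := by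
    have := Submodule.finrank_add_eq_of_isCompl hC
    rw [finrank_span_singleton hv, hm] at this
    omega
  refine ⟨((LinearEquiv.toSpanNonzeroSingleton K V v hv).prodCongr
    (LinearEquiv.ofFinrankEq _ _ (by rw [hCd]; simp))).trans (Submodule.prodEquivOfIsCompl _ _ hC), ?_⟩
  simp [Submodule.coe_prodEquivOfIsCompl']

theorem exists_upper_form (e : (K × W) ≃ₗ[K] V) {f : End K V} {μ : K} (hf : f (e (1, 0)) = μ • e (1, 0)) :
    ∃ (R : W →ₗ[K] K) (f' : End K W), f = e.conj (upper (μ • 1 : End K K) R f') := by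
  let f₀ : End K (K × W) := e.symm.conj f
  refine ⟨(LinearMap.fst K K W).comp (f₀.comp (LinearMap.inr K K W)),
    (LinearMap.snd K K W).comp (f₀.comp (LinearMap.inr K K W)), LinearMap.ext fun z => ?_⟩
  obtain ⟨⟨c, y⟩, rfl⟩ := e.surjective z
  rw [LinearEquiv.conj_apply_apply, e.symm_apply_apply, upper_apply]
  apply e.symm.injective
  rw [e.symm_apply_apply, show ((c, y) : K × W) = c • ((1, 0) : K × W) + (0, y) by simp, map_add, map_add,
    map_smul, map_smul, hf, map_add, map_smul, map_smul, e.symm_apply_apply]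
  refine Prod.ext ?_ ?_ <;> simp [f₀, LinearEquiv.conj_apply_apply, mul_comm]

variable [Fintype K]

theorem main (h4 : 4 ≤ Fintype.card K) : ∀ n, 3 ≤ n → ∀ (V : Type u) [AddCommGroup V] [Module K V]
    [FiniteDimensional K V] (A g : End K V), finrank K V = n → NS A → LinearMap.det A ≠ 0 → NS g →
    LinearMap.det g = LinearMap.det A ^ n → (Gen g ∨ Gen A) → Cov A n g := by
  classical
  intro n
  induction n using Nat.strong_induction_on with
  | _ n ih =>
  intro hn V _ _ _ A g hd hA hdA hg hdg hyp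
  have hdg0 : LinearMap.det g ≠ 0 := hdg ▸ pow_ne_zero _ hdA
  have hnt : Nontrivial V := Module.nontrivial_of_finrank_pos (R := K) (by omega)
  have hpos : ∀ L : List (End K V), L.length = n → (∀ x ∈ L, SConj A x) → Free A → NoEig L := by
    intro L hL hLc hfree z ν hz
    obtain ⟨x, hx⟩ : ∃ x, x ∈ L := List.exists_mem_of_ne_nil _ (by
      intro h; rw [h] at hL; simp at hL; omega)
    obtain ⟨e, -, rfl⟩ := hLc x hx
    refine ⟨_, hx, fun h => hz ?_⟩
    have h0 := hfree (e.symm z) ν (by
      apply e.injective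
      rw [map_smul, e.apply_symm_apply, ← h, LinearEquiv.conj_apply_apply])
    simpa using congrArg e h0
  by_cases hfree : Free A
  · by_cases hn4 : 4 ≤ n
    · obtain ⟨L, hL, hLc, hLp⟩ := sprod_of_lowMult h4 hfree.lowMult hdA (hd ▸ hn4) n hn4 g hdg (Or.inr hg)
      exact ⟨L, hL, hLc, hLp, hpos L hL hLc hfree⟩
    obtain rfl : n = 3 := by omega
    have hGA : Gen A := fun c => by
      have h1 := LinearMap.finrank_range_add_finrank_ker (A - c • 1)
      have h2 : LinearMap.ker (A - c • 1) = ⊥ := LinearMap.ker_eq_bot'.2 fun z hz =>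
        hfree z c (by simpa [sub_eq_zero] using hz)
      rw [h2, finrank_bot] at h1
      omega
    set δ := LinearMap.det A with hδ
    obtain ⟨a, ha⟩ : ∃ a : K, a ≠ 0 ∧ a ≠ δ ^ 2 ∧ a ≠ δ ∧ a ≠ -δ := by
      by_cases hq : Fintype.card K = 4
      · have hneg : -δ = δ := by linear_combination (-δ) * two_eq_zero_of_four hq
        obtain ⟨a, ha⟩ := exists_notMem_card ({0, δ ^ 2, δ} : Finset K) (by
          have := Finset.card_le_three (a := (0 : K)) (b := δ ^ 2) (c := δ)
          omega)
        simp only [Finset.mem_insert, Finset.mem_singleton, not_or] at ha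
        exact ⟨a, ha.1, ha.2.1, ha.2.2, hneg.symm ▸ ha.2.2⟩
      · obtain ⟨a, ha⟩ := exists_notMem_card ({0, δ ^ 2, δ, -δ} : Finset K) (by
          have := Finset.card_le_four (a := (0 : K)) (b := δ ^ 2) (c := δ) (d := -δ)
          omega)
        simp only [Finset.mem_insert, Finset.mem_singleton, not_or] at ha
        exact ⟨a, ha⟩
    obtain ⟨μ, hμ⟩ : ∃ μ, μ = δ ^ 2 / a := ⟨_, rfl⟩
    have hμ0 : μ ≠ 0 := hμ ▸ div_ne_zero (pow_ne_zero _ hdA) ha.1
    have hμ1 : μ ≠ 1 := fun h => ha.2.1 (by rw [hμ, div_eq_one_iff_eq ha.1] at h; exact h.symm)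
    have hμa : μ ≠ a := fun h => by
      rw [hμ, div_eq_iff ha.1] at h
      rcases mul_eq_zero.1 (show (a - δ) * (a + δ) = 0 by linear_combination -h) with h' | h'
      exacts [ha.2.2.1 (sub_eq_zero.1 h'), ha.2.2.2 (eq_neg_of_add_eq_zero_left h')]
    obtain ⟨v, x, h, hv, hx, hxv, hxh, htr⟩ := exists_move_three h4 hd hA hg hdA hdg0 hyp hμ0 (μ + (a + 1))
    have hv0 : v ≠ 0 := by simpa using hv.ne_zero 0
    obtain ⟨e, he⟩ := exists_coords hv0 (m := 2) (by omega)
    have hhv : h v = μ • v := by
      have h1 := LinearMap.congr_fun hxh v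
      rw [Module.End.mul_apply, show g v = μ • (μ⁻¹ • g v) by rw [smul_smul, mul_inv_cancel₀ hμ0, one_smul],
        ← hxv, ← map_smul] at h1
      exact LinearMap.ker_eq_bot.1 (ker_eq_bot_of_det (hx.det ▸ hdA)) h1
    obtain ⟨R, h', hh⟩ := exists_upper_form e (f := h) (μ := μ) (by rw [he]; exact hhv)
    have htr' : LinearMap.trace K _ h' = a + 1 := by
      rw [hh, LinearMap.trace_conj', trace_upper_line] at htr
      exact add_left_cancel htr
    have hdh : LinearMap.det h = δ ^ 2 := by
      have := congrArg LinearMap.det hxh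
      rw [map_mul, hx.det, hdg] at this
      exact mul_left_cancel₀ hdA (this.trans (by ring))
    have hdh' : LinearMap.det h' = a := by
      rw [hh, ← (sim_conj e _).symm.det_eq] at hdh
      rw [det_upper_line, hμ, div_mul_eq_mul_div, div_eq_iff ha.1] at hdh
      exact mul_left_cancel₀ (pow_ne_zero 2 hdA) hdh
    have hW2' : finrank K (Fin 2 → K) = 1 + 1 := by simp
    have hW2 : finrank K (Fin 2 → K) = 2 := hW2'
    -- a root of the quotient
    have hq : ∃ (z : Fin 2 → K) (r : K), z ≠ 0 ∧ h' z = r • z ∧ (r = a ∨ r = 1) := by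
      have hcay := cayley_two_trace hW2 h'
      rw [htr', hdh'] at hcay
      obtain ⟨z, hz⟩ := exists_ne (0 : Fin 2 → K)
      by_cases hw : h' z - (1 : K) • z = 0
      · exact ⟨z, 1, hz, sub_eq_zero.1 hw, Or.inr rfl⟩
      refine ⟨_, a, hw, ?_, Or.inl rfl⟩
      have h1 : h' (h' z) = (a + 1) • h' z - a • z := by simpa using LinearMap.congr_fun hcay z
      rw [map_sub, map_smul, h1]
      match_scalars <;> ring
    obtain ⟨z, r, hz, hzr, hr⟩ := hq
    obtain ⟨e₂, he₂⟩ := exists_coords (K := K) (V := Fin 2 → K) hz (m := 1) hW2'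
    obtain ⟨R₂, h'', hh'⟩ := exists_upper_form e₂ (f := h') (μ := r) (by rw [he₂]; exact hzr)
    obtain ⟨c, rfl⟩ := exists_eq_smul_one (by simp) h''
    have hrc : r * c = a := by
      rw [← hdh', hh', ← (sim_conj e₂ _).symm.det_eq, det_upper_line, LinearMap.det_smul, map_one, mul_one]
      simp
    have hr0 : r ≠ 0 := left_ne_zero_of_mul (hrc.trans_ne ha.1)
    have hμr : μ ≠ r := by rcases hr with rfl | rfl <;> assumption
    have hμc : μ ≠ c := by
      rcases hr with rfl | rfl
      · rw [show c = 1 from mul_left_cancel₀ hr0 (hrc.trans (mul_one _).symm)]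
        exact hμ1
      · rw [one_mul] at hrc
        exact hrc.symm ▸ hμa
    let f : Fin 3 → V := ![v, e (0, z), e (0, e₂ (0, fun _ => 1))]
    have hf : LinearIndependent K f := by
      rw [Fintype.linearIndependent_iff]
      intro d hd'
      simp [Fin.sum_univ_three, f] at hd'
      rw [← he, ← he₂, ← map_smul, ← map_smul, ← map_smul, ← map_add, ← map_add, LinearEquiv.map_eq_zero_iff] at hd'
      simp [Prod.ext_iff, ← map_smul, ← map_add] at hd'
      intro i
      fin_cases i
      · exact hd'.1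
      · exact hd'.2.1
      · simpa [funext_iff] using hd'.2.2
    obtain ⟨p, q, hp, hq', hpq⟩ : ∃ p q : End K V, Sim A p ∧ Sim A q ∧ h = p * q := by
      obtain ⟨v₁, hv₁⟩ := exists_cyclic_three h4 hd hGA hdA
      refine three_split hd hv₁ hdA hf (b := μ) (a₂ := r) (a₃ := c) (x₀ := R z)
        (y₀ := R (e₂ (0, fun _ => 1))) (z := R₂ (fun _ => 1)) hhv ?_ ?_ hμr hμc ?_
      · rw [← he, hh, LinearEquiv.conj_apply_apply, e.symm_apply_apply, upper_apply, hzr]
        rw [← map_smul, ← map_smul, ← map_add]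
        simp
      · rw [← he, hh, LinearEquiv.conj_apply_apply, e.symm_apply_apply, upper_apply]
        rw [show h' (e₂ (0, fun _ => 1)) = e₂ (R₂ (fun _ => 1), fun _ => c) by
          rw [hh', LinearEquiv.conj_apply_apply, e₂.symm_apply_apply, upper_apply]
          congr 1
          refine Prod.ext (by simp) (funext fun _ => by simp)]
        rw [← map_smul, ← map_smul, ← map_smul, ← map_add, ← map_add]
        congr 1
        refine Prod.ext (by simp) ?_
        simp only [Prod.snd_add, Prod.smul_snd]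
        rw [← he₂, ← map_smul, ← map_smul, smul_zero, zero_add, ← map_add]
        congr 1
        refine Prod.ext (by simp) (funext fun _ => by simp)
      · rw [mul_assoc, hrc, hμ, div_mul_cancel₀ _ ha.1]
    obtain ⟨v₁, hv₁⟩ := exists_cyclic_three h4 hd hGA hdA
    obtain ⟨G, hG, hAG⟩ := cycTy_three_free hd hfree hv₁
    have hfull : FullDet A := (fullDet_rootMul_irr hG hAG.monic).of_sim hAG.sim_rootMul
    have hLc : ∀ y ∈ [x, p, q], SConj A y := by
      intro y hy
      simp at hy
      rcases hy with rfl | rfl | rfl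
      exacts [hx, hfull.sconj hp, hfull.sconj hq']
    exact ⟨[x, p, q], rfl, hLc, by simp [← hxh, hpq, mul_assoc], hpos _ rfl hLc hfree⟩
  -- peeling
  obtain ⟨lam, v₁, hv₁, hAv₁, hquot⟩ := exists_peel_vector (hd ▸ hn) hA hfree
  have hlam : lam ≠ 0 := fun h => hv₁ (by
    rw [h, zero_smul] at hAv₁
    exact (Submodule.eq_bot_iff _).1 (ker_eq_bot_of_det hdA) v₁ hAv₁)
  obtain ⟨m, rfl⟩ : ∃ m, n = m + 1 := ⟨n - 1, by omega⟩
  have hW : finrank K (Fin m → K) = m := by simp
  obtain ⟨e₁, he₁⟩ := exists_coords hv₁ hd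
  obtain ⟨r₀, A', hA'⟩ := exists_upper_form e₁ (f := A) (μ := lam) (by rw [he₁]; exact hAv₁)
  have hdA' : LinearMap.det A = lam * LinearMap.det A' := by
    rw [hA', ← (sim_conj e₁ _).symm.det_eq, det_upper_line]
  have hdA'0 : LinearMap.det A' ≠ 0 := fun h => hdA (by rw [hdA', h, mul_zero])
  have hA'ns : NS A' := by
    intro κ hκ
    refine hquot κ ?_
    rintro _ ⟨z, rfl⟩
    obtain ⟨⟨c, y⟩, rfl⟩ := e₁.surjective z
    rw [Submodule.mem_span_singleton]
    refine ⟨(lam * c + r₀ y) - κ * c, ?_⟩
    rw [← he₁, LinearMap.sub_apply, hA', LinearEquiv.conj_apply_apply, e₁.symm_apply_apply, LinearMap.smul_apply,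
      Module.End.one_apply, upper_apply, ← map_smul, ← map_smul, ← map_sub, hκ]
    congr 1
    refine Prod.ext ?_ ?_ <;> simp
  set μ := lam ^ m with hμdef
  have hμ0 : μ ≠ 0 := pow_ne_zero _ hlam
  -- the first conjugate and what remains
  have hchoice : ∃ (v : V) (x : End K V) (e : (K × (Fin m → K)) ≃ₗ[K] V), LinearIndependent K ![v, g v] ∧
      SConj A x ∧ x v = μ⁻¹ • g v ∧ (∃ d : K, e (1, 0) = d • v ∧ d ≠ 0) ∧
      LinearMap.det ((e₁.symm.trans e : V ≃ₗ[K] V) : V →ₗ[K] V) = 1 ∧
      ∃ (R : (Fin m → K) →ₗ[K] K) (h' : End K (Fin m → K)), x * e.conj (upper (μ • 1 : End K K) R h') = g ∧ Gen h' := by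
    have hfinish : ∀ (v : V) (x h : End K V), LinearIndependent K ![v, g v] → SConj A x → x v = μ⁻¹ • g v →
        x * h = g → (∀ (e : (K × (Fin m → K)) ≃ₗ[K] V) (R : (Fin m → K) →ₗ[K] K) (h' : End K (Fin m → K)),
          h = e.conj (upper (μ • 1 : End K K) R h') → (∃ d : K, e (1, 0) = d • v) → Gen h') →
        ∃ (v : V) (x : End K V) (e : (K × (Fin m → K)) ≃ₗ[K] V), LinearIndependent K ![v, g v] ∧
        SConj A x ∧ x v = μ⁻¹ • g v ∧ (∃ d : K, e (1, 0) = d • v ∧ d ≠ 0) ∧
        LinearMap.det ((e₁.symm.trans e : V ≃ₗ[K] V) : V →ₗ[K] V) = 1 ∧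
        ∃ (R : (Fin m → K) →ₗ[K] K) (h' : End K (Fin m → K)),
          x * e.conj (upper (μ • 1 : End K K) R h') = g ∧ Gen h' := by
      intro v x h hv hx hxv hxh hgen
      have hv0 : v ≠ 0 := by simpa using hv.ne_zero 0
      obtain ⟨e', he'⟩ := exists_coords hv0 hd
      obtain ⟨c, hc⟩ : ∃ c, c = (LinearMap.det ((e₁.symm.trans e' : V ≃ₗ[K] V) : V →ₗ[K] V))⁻¹ := ⟨_, rfl⟩
      have hc0 : c ≠ 0 := hc ▸ inv_ne_zero (det_equiv_ne_zero _)
      let s : (K × (Fin m → K)) ≃ₗ[K] (K × (Fin m → K)) :=
        (LinearEquiv.smulOfNeZero K K c hc0).prodCongr (LinearEquiv.refl K _)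
      have hsa : ∀ a b, s (a, b) = (c * a, b) := fun a b => rfl
      have hs : LinearMap.det (s : (K × (Fin m → K)) →ₗ[K] K × (Fin m → K)) = c := by
        rw [show (s : (K × (Fin m → K)) →ₗ[K] K × (Fin m → K)) = upper (c • 1 : End K K) 0 (1 : End K (Fin m → K))
          from LinearMap.ext fun ⟨a, b⟩ => Prod.ext (by simp [hsa]) (by simp [hsa]),
          det_upper_line, map_one, mul_one]
      refine ⟨v, x, s.trans e', hv, hx, hxv, ⟨c, ?_, hc0⟩, ?_, ?_⟩
      · rw [LinearEquiv.trans_apply, ← he', ← map_smul]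
        congr 1
        rw [hsa]; refine Prod.ext ?_ ?_ <;> simp
      · have h1 : (e₁.symm.trans (s.trans e') : V ≃ₗ[K] V) =
            (e₁.symm.trans (s.trans e₁)).trans (e₁.symm.trans e') := LinearEquiv.ext fun z => by simp
        rw [h1, det_trans, show LinearMap.det ((e₁.symm.trans (s.trans e₁) : V ≃ₗ[K] V) : V →ₗ[K] V) = c from
          (LinearMap.det_conj (s : (K × (Fin m → K)) →ₗ[K] K × (Fin m → K)) e₁).trans hs, hc,
          inv_mul_cancel₀ (det_equiv_ne_zero _)]
      · have hhv : h v = μ • v := by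
          have h1 := LinearMap.congr_fun hxh v
          rw [Module.End.mul_apply, show g v = μ • (μ⁻¹ • g v) by rw [smul_smul, mul_inv_cancel₀ hμ0, one_smul],
            ← hxv, ← map_smul] at h1
          exact LinearMap.ker_eq_bot.1 (ker_eq_bot_of_det (hx.det ▸ hdA)) h1
        have he0 : (s.trans e') (1, 0) = c • v := by
          rw [LinearEquiv.trans_apply, ← he', ← map_smul]
          congr 1
          rw [hsa]; refine Prod.ext ?_ ?_ <;> simp
        obtain ⟨R, h', hh⟩ := exists_upper_form (s.trans e') (f := h) (μ := μ) (by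
          rw [he0, map_smul, hhv, smul_comm])
        exact ⟨R, h', by rw [← hh, hxh], hgen _ R h' hh ⟨c, he0⟩⟩
    by_cases hm : m = 2
    · subst hm
      obtain ⟨t, -, -, ht, -⟩ := exists_two_irr h4 (pow_ne_zero 2 hdA'0)
      obtain ⟨v, x, h, hv, hx, hxv, hxh, htr⟩ := exists_move_three h4 hd hA hg hdA hdg0 hyp hμ0 (μ + t)
      refine hfinish v x h hv hx hxv hxh fun e R h' hh _ => ?_
      have htr' : LinearMap.trace K _ h' = t := by
        rw [hh, LinearMap.trace_conj', trace_upper_line] at htr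
        exact add_left_cancel htr
      have hdh : μ * LinearMap.det h' = LinearMap.det A ^ 2 := by
        have := congrArg LinearMap.det hxh
        rw [map_mul, hx.det, hdg, hh, ← (sim_conj e _).symm.det_eq, det_upper_line] at this
        exact mul_left_cancel₀ hdA (this.trans (by ring))
      have hdh' : LinearMap.det h' = LinearMap.det A' ^ 2 := by
        rw [hdA', hμdef] at hdh
        exact mul_left_cancel₀ (pow_ne_zero 2 hlam) (by linear_combination hdh)
      intro c
      have h1 := LinearMap.finrank_range_add_finrank_ker (h' - c • 1)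
      have h2 : LinearMap.ker (h' - c • 1) = ⊥ := by
        rw [Submodule.eq_bot_iff]
        intro z hz
        have hz' : h' z = c • z := by simpa [sub_eq_zero] using hz
        have h3 := LinearMap.congr_fun (cayley_two_trace hW h') z
        rw [Module.End.mul_apply, hz', map_smul, hz', htr', hdh'] at h3
        by_contra hz0
        simp [smul_smul, hz', ← sub_smul] at h3
        exact ht c (by linear_combination smul_left_injective K hz0 h3)
      rw [h2, finrank_bot, hW] at h1
      omega
    · obtain ⟨v, x, hv, hx, hxv, hmove⟩ := exists_move h4 (by omega) hA hg hdA hdg0 hyp hμ0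
      obtain ⟨xe, hxe⟩ := exists_equiv_of_det (A := x) (hx.det ▸ hdA)
      have hxh : x * ((xe.symm : End K V) * g) = g := LinearMap.ext fun z => by
        rw [← hxe]; simp [Module.End.mul_apply]
      refine hfinish v x _ hv hx hxv hxh fun e R h' hh he c => ?_
      by_contra hlt
      obtain ⟨d, hd'⟩ := he
      obtain ⟨b, hb⟩ := finrank_le_one_iff.1 (show finrank K (LinearMap.range (h' - c • 1)) ≤ 1 by omega)
      refine hmove c (x (e (0, b.1))) ?_
      rintro _ ⟨z, rfl⟩
      have hgz : (g - c • x) z = x ((((xe.symm : End K V) * g) - c • 1) z) := by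
        have h1 := LinearMap.congr_fun hxh z
        rw [Module.End.mul_apply] at h1
        rw [LinearMap.sub_apply, LinearMap.sub_apply, map_sub, h1, LinearMap.smul_apply, LinearMap.smul_apply,
          Module.End.one_apply, map_smul]
      rw [hgz, hh]
      obtain ⟨⟨a, y⟩, rfl⟩ := e.surjective z
      obtain ⟨k, hk⟩ := hb ⟨_, LinearMap.mem_range_self (h' - c • 1) y⟩
      have hk' : k • b.1 = h' y - c • y := by simpa using congrArg Subtype.val hk
      have h5 : (e.conj (upper (μ • 1 : End K K) R h') - c • 1) (e (a, y)) =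
          (μ * a + R y - c * a) • e (1, 0) + k • e (0, b.1) := by
        rw [LinearMap.sub_apply, LinearEquiv.conj_apply_apply, e.symm_apply_apply, LinearMap.smul_apply,
          Module.End.one_apply, upper_apply, ← map_smul, ← map_smul, ← map_smul, ← map_sub, ← map_add]
        congr 1
        refine Prod.ext ?_ ?_ <;> simp [hk']
      rw [h5, hd', map_add, map_smul, map_smul, map_smul, hxv, smul_smul]
      exact Submodule.mem_span_pair.2 ⟨_, k, rfl⟩
  obtain ⟨v, x, e, hv, hx, hxv, ⟨d, hd', hd0⟩, hdete, R, h', hgx, hgen⟩ := hchoice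
  have hdh' : LinearMap.det h' = LinearMap.det A' ^ m := by
    have := congrArg LinearMap.det hgx
    rw [map_mul, hx.det, hdg, ← (sim_conj e _).symm.det_eq, det_upper_line, hμdef, hdA'] at this
    refine mul_left_cancel₀ (mul_ne_zero (mul_ne_zero hlam hdA'0) (pow_ne_zero m hlam)) ?_
    rw [mul_assoc, this]
    ring
  have hline : ∀ c : K, x (e (1, 0)) ≠ c • e (1, 0) := by
    intro c hc
    rw [hd', map_smul, hxv, smul_comm c d] at hc
    have hc' := smul_right_injective V hd0 hc
    exact (pair_indep_iff (by simpa using hv.ne_zero 0)).1 hv (μ * c) (by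
      rw [← smul_smul, ← hc', smul_smul, mul_inv_cancel₀ hμ0, one_smul])
  have hL : ∃ L : List (End K (Fin m → K)), L.length = finrank K (Fin m → K) ∧ (∀ y ∈ L, Sim A' y) ∧
      L.prod = h' ∧ NoEig L := by
    rw [hW]
    by_cases hm : m = 2
    · subst hm
      exact two_factor hW hA'ns hdA'0 hgen hdh'
    · obtain ⟨L, h1, h2, h3, h4'⟩ := ih m (by omega) (by omega) (Fin m → K) A' h' hW hA'ns hdA'0 hgen.ns hdh'
        (Or.inl hgen)
      exact ⟨L, h1, fun y hy => (h2 y hy).sim, h3, h4'⟩
  have := peel (by omega) hlam e₁ e r₀ R A' h' hA' hdete hx (by simpa only [hW] using hgx) hline hL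
  simpa only [hW] using this

end Cfsg.Agent.LevCover
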