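import Cfsg.Agent.Lib.LevCover.Small

/-!
Moving the first conjugate: a generic quotient in dimension at least four, a prescribed trace in dimension three.
-/

set_option autoImplicit false

namespace Cfsg.Agent.LevCover

open Module

universe u

variable {K : Type u} [Field K] {V : Type u} [AddCommGroup V] [Module K V] [FiniteDimensional K V]

theorem finrank_span_pair_le (a b : V) : finrank K (Submodule.span K ({a, b} : Set V)) ≤ 2 := by
  classical
  have := finrank_span_finset_le_card (R := K) ({a, b} : Finset V)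
  rw [Finset.coe_pair] at this
  exact this.trans Finset.card_le_two

omit [FiniteDimensional K V] in
theorem map_span_pair_eq {W : Type u} [AddCommGroup W] [Module K W] (e : V →ₗ[K] W) (a b : V) :
    (Submodule.span K ({a, b} : Set V)).map e = Submodule.span K ({e a, e b} : Set W) := by
  rw [Submodule.map_span, Set.image_pair]

omit [FiniteDimensional K V] in
theorem transvection_conj_apply {φ : Dual K V} {t : V} (h : φ t = 0) (x : End K V) (y : V) :
    (LinearEquiv.transvection h).conj x (y + φ y • t) = x y + φ (x y) • t := by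
  rw [LinearEquiv.conj_apply_apply]
  have : (LinearEquiv.transvection h).symm (y + φ y • t) = y :=
    (LinearEquiv.transvection h).injective (by rw [LinearEquiv.apply_symm_apply, LinearEquiv.transvection.apply])
  rw [this, LinearEquiv.transvection.apply]

theorem sconj_transvection {A x : End K V} (hx : SConj A x) {φ : Dual K V} {t : V} (h : φ t = 0) :
    SConj A ((LinearEquiv.transvection h).conj x) :=
  sconj_conj _ (by rw [← LinearEquiv.coe_det, LinearEquiv.transvection.det_eq_one h, Units.val_one]) hx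

theorem exists_functional_pair {S : Submodule K V} {u : V} (hu : u ∉ S) :
    ∃ φ : Dual K V, φ u = 1 ∧ ∀ z ∈ S, φ z = 0 := by
  obtain ⟨φ, h1, h2⟩ := Submodule.exists_dual_map_eq_bot_of_notMem hu inferInstance
  refine ⟨(φ u)⁻¹ • φ, by simp [h1], fun z hz => ?_⟩
  have : φ z ∈ S.map φ := Submodule.mem_map_of_mem hz
  rw [h2, Submodule.mem_bot] at this
  simp [this]

variable [Fintype K]

/-- A vector whose plane contains no image of a translate. -/
theorem exists_good_vector (h4 : 4 ≤ Fintype.card K) (hn : 4 ≤ finrank K V) {A : End K V} (hA : Gen A) :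
    ∃ v, LinearIndependent K ![v, A v] ∧
      ∀ κ : K, ¬ LinearMap.range (A - κ • 1) ≤ Submodule.span K {v, A v} := by
  have heq : ∀ (v : V) (κ : K), LinearMap.range (A - κ • 1) ≤ Submodule.span K {v, A v} →
      LinearMap.range (A - κ • 1) = Submodule.span K {v, A v} := fun v κ h =>
    Submodule.eq_of_le_of_finrank_le h (le_trans (finrank_span_pair_le _ _) (hA κ))
  by_cases h0 : ∃ κ₀ : K, finrank K (LinearMap.range (A - κ₀ • 1)) ≤ 2
  · obtain ⟨κ₀, hκ₀⟩ := h0
    have hI : LinearMap.range (A - κ₀ • 1) ≠ ⊤ := fun h => by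
      rw [h, finrank_top] at hκ₀
      omega
    obtain ⟨v, hvI, hv⟩ := hA.ns.exists_noneigen_notMem h4 hI
    refine ⟨v, hv, fun κ h => ?_⟩
    have hvr : v ∈ LinearMap.range (A - κ • 1) := heq v κ h ▸ Submodule.subset_span (by simp)
    by_cases hκ : κ = κ₀
    · exact hvI (hκ ▸ hvr)
    -- the two kernels fill the space
    have hk : finrank K (LinearMap.range (A - κ • 1)) ≤ 2 := (Submodule.finrank_mono h).trans (finrank_span_pair_le _ _)
    set E₀ := LinearMap.ker (A - κ₀ • 1)
    set E := LinearMap.ker (A - κ • 1)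
    have hdisj : E₀ ⊓ E = ⊥ := by
      rw [Submodule.eq_bot_iff]
      rintro z ⟨h1, h2⟩
      rw [SetLike.mem_coe, LinearMap.mem_ker] at h1 h2
      simp [sub_eq_zero] at h1 h2
      by_contra hz
      exact hκ (smul_left_injective K hz (h2.symm.trans h1))
    have hsum := Submodule.finrank_sup_add_finrank_inf_eq E₀ E
    rw [hdisj, finrank_bot] at hsum
    have h1 : finrank K (LinearMap.range (A - κ₀ • 1)) + finrank K E₀ = finrank K V :=
      LinearMap.finrank_range_add_finrank_ker (A - κ₀ • 1)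
    have h2 : finrank K (LinearMap.range (A - κ • 1)) + finrank K E = finrank K V :=
      LinearMap.finrank_range_add_finrank_ker (A - κ • 1)
    have htop : E₀ ⊔ E = ⊤ := Submodule.eq_top_of_finrank_eq (by
      have := Submodule.finrank_le (E₀ ⊔ E)
      omega)
    obtain ⟨z, hz⟩ := hvr
    obtain ⟨a, ha, b, hb, rfl⟩ := Submodule.mem_sup.1 (htop ▸ Submodule.mem_top (x := z) : z ∈ E₀ ⊔ E)
    rw [map_add, LinearMap.mem_ker.1 hb, add_zero] at hz
    have hAv : A v = κ₀ • v := by
      rw [LinearMap.mem_ker] at ha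
      simp [sub_eq_zero] at ha hz
      rw [← hz, map_sub, map_smul, ha, map_smul, ha, smul_sub, smul_comm κ₀ κ]
    exact (pair_indep_iff (by simpa using hv.ne_zero 0)).1 hv κ₀ hAv
  · obtain ⟨v, hv⟩ := hA.ns.exists_noneigen
    exact ⟨v, hv, fun κ h => h0 ⟨κ, (Submodule.finrank_mono h).trans (finrank_span_pair_le _ _)⟩⟩

theorem arith_move {q n b : ℕ} (hq : 4 ≤ q) (hn : 4 ≤ n) (hb : b ≤ (q - 1) * q) : b < q ^ (n - 2) := by
  obtain ⟨k, rfl⟩ : ∃ k, q = k + 4 := ⟨q - 4, by omega⟩
  rw [show k + 4 - 1 = k + 3 by omega] at hb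
  have : (k + 4) ^ 2 ≤ (k + 4) ^ (n - 2) := Nat.pow_le_pow_right (by omega) (by omega)
  nlinarith

/-- The first conjugate in dimension at least four. -/
theorem exists_move (h4 : 4 ≤ Fintype.card K) (hn : 4 ≤ finrank K V) {A g : End K V} (hA : NS A) (hg : NS g)
    (hdA : LinearMap.det A ≠ 0) (hdg : LinearMap.det g ≠ 0) (hyp : Gen g ∨ Gen A) {μ : K} (hμ : μ ≠ 0) :
    ∃ (v : V) (x : End K V), LinearIndependent K ![v, g v] ∧ SConj A x ∧ x v = μ⁻¹ • g v ∧
      ∀ (ν : K) (a : V), ¬ LinearMap.range (g - ν • x) ≤ Submodule.span K {μ⁻¹ • g v, a} := by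
  classical
  obtain ⟨v₀, v, hv₀, hv, hex⟩ : ∃ v₀ v, LinearIndependent K ![v₀, A v₀] ∧ LinearIndependent K ![v, g v] ∧
      ((∀ κ : K, ¬ LinearMap.range (A - κ • 1) ≤ Submodule.span K {v₀, A v₀}) ∨
       (∀ κ : K, ¬ LinearMap.range (g - κ • 1) ≤ Submodule.span K {v, g v})) := by
    rcases hyp with h | h
    · obtain ⟨v₀, hv₀⟩ := hA.exists_noneigen
      obtain ⟨v, hv, hv'⟩ := exists_good_vector h4 hn h
      exact ⟨v₀, v, hv₀, hv, Or.inr hv'⟩
    · obtain ⟨v₀, hv₀, hv₀'⟩ := exists_good_vector h4 hn h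
      obtain ⟨v, hv⟩ := hg.exists_noneigen
      exact ⟨v₀, v, hv₀, hv, Or.inl hv₀'⟩
  have hv0 : v ≠ 0 := by simpa using hv.ne_zero 0
  obtain ⟨w, hwdef⟩ : ∃ w, w = μ⁻¹ • g v := ⟨_, rfl⟩
  have hgv : g v = μ • w := by rw [hwdef, smul_smul, mul_inv_cancel₀ hμ, one_smul]
  have hvw : LinearIndependent K ![v, w] := (pair_indep_iff hv0).2 fun c hc =>
    (pair_indep_iff hv0).1 hv (μ * c) (by rw [hgv, hc, smul_smul])
  set P := Submodule.span K ({v, w} : Set V) with hP
  have hPd : finrank K P ≤ 2 := finrank_span_pair_le _ _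
  have hvP : v ∈ P := Submodule.subset_span (by simp)
  have hwP : w ∈ P := Submodule.subset_span (by simp)
  have hgP : Submodule.span K {v, g v} ≤ P := by
    rw [Submodule.span_le, Set.insert_subset_iff, Set.singleton_subset_iff]
    exact ⟨hvP, hgv ▸ P.smul_mem _ hwP⟩
  have hgP' : P ≤ Submodule.span K {v, g v} := by
    rw [Submodule.span_le, Set.insert_subset_iff, Set.singleton_subset_iff]
    exact ⟨Submodule.subset_span (by simp), hwdef ▸ Submodule.smul_mem _ _ (Submodule.subset_span (by simp))⟩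
  have hnotP : ¬ (⊤ : Submodule K V) ≤ P := fun h => by
    have := Submodule.finrank_mono h
    rw [finrank_top] at this
    omega
  have hsurj : ∀ x : End K V, LinearMap.det x ≠ 0 → LinearMap.range x = ⊤ := fun x hx =>
    LinearMap.range_eq_top.2 (LinearMap.surjective_of_injective (LinearMap.ker_eq_bot.1 (ker_eq_bot_of_det hx)))
  -- a frame
  obtain ⟨e, he, hei⟩ := exists_equiv hv₀ hvw (by omega) one_ne_zero
  have hev : e v₀ = v := hei 0
  have hew : e (A v₀) = w := hei 1
  let x₀ := e.conj A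
  have hx₀ : SConj A x₀ := ⟨e, he, rfl⟩
  have hx₀v : x₀ v = w := by
    show e.conj A v = w
    rw [LinearEquiv.conj_apply_apply, ← hev, e.symm_apply_apply, hew]
  -- avoid a proportional quotient
  obtain ⟨x, hx, hxv, hrob⟩ : ∃ x, SConj A x ∧ x v = w ∧ ∀ ν : K, ¬ LinearMap.range (g - ν • x) ≤ P := by
    by_contra hne
    push Not at hne
    obtain ⟨ν₀, hν₀⟩ := hne x₀ hx₀ hx₀v
    have hν₀0 : ν₀ ≠ 0 := fun h => hnotP (by
      rw [h, zero_smul, sub_zero, hsurj g hdg] at hν₀
      exact hν₀)
    have key : ∀ (φ : Dual K V) (t : V) (hφt : φ t = 0), φ v = 0 → φ w = 0 →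
        ∃ κ : K, κ ≠ 0 ∧ ∀ y, (x₀ y + φ (x₀ y) • t) - κ • x₀ (y + φ y • t) ∈ P := by
      intro φ t hφt hφv hφw
      have hx₁v : (LinearEquiv.transvection hφt).conj x₀ v = w := by
        have := transvection_conj_apply hφt x₀ v
        rwa [hφv, zero_smul, add_zero, hx₀v, hφw, zero_smul, add_zero] at this
      obtain ⟨ν₁, hν₁⟩ := hne _ (sconj_transvection hx₀ hφt) hx₁v
      have hν₁0 : ν₁ ≠ 0 := fun h => hnotP (by
        rw [h, zero_smul, sub_zero, hsurj g hdg] at hν₁
        exact hν₁)
      refine ⟨ν₀ / ν₁, div_ne_zero hν₀0 hν₁0, fun y => ?_⟩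
      rw [← transvection_conj_apply hφt x₀ y]
      set z := y + φ y • t
      have h0 := hν₀ (LinearMap.mem_range_self _ z)
      have h1 := hν₁ (LinearMap.mem_range_self _ z)
      have h2 := P.smul_mem ν₁⁻¹ (P.sub_mem h0 h1)
      convert h2 using 1
      simp only [LinearMap.sub_apply, LinearMap.smul_apply, smul_sub, smul_smul]
      match_scalars <;> field_simp <;> ring
    obtain ⟨xe, hxe⟩ := exists_equiv_of_det (A := x₀) (hx₀.det ▸ hdA)
    have hxa : ∀ z, x₀ z = xe z := fun z => (LinearMap.congr_fun hxe z).symm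
    by_cases huP : xe.symm v ∈ P
    · -- the quotient map is a scalar
      have hxP : ∀ z ∈ P, x₀ z ∈ P := by
        intro z hz
        obtain ⟨a, b, rfl⟩ := Submodule.mem_span_pair.1 hz
        obtain ⟨a', b', hab⟩ := Submodule.mem_span_pair.1 huP
        have hb' : b' ≠ 0 := fun h => by
          rw [h, zero_smul, add_zero] at hab
          have h' : v = a' • w := by
            rw [← hx₀v, ← map_smul, hab, hxa, LinearEquiv.apply_symm_apply]
          exact one_ne_zero (LinearIndependent.pair_iff.1 hvw 1 (-a') (by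
            rw [one_smul, neg_smul, ← h', add_neg_cancel])).1
        have h' := congrArg x₀ hab
        rw [map_add, map_smul, map_smul, hx₀v, hxa (xe.symm v), LinearEquiv.apply_symm_apply] at h'
        have hxw : x₀ w ∈ P := by
          rw [← P.smul_mem_iff hb', show b' • x₀ w = v - a' • w by rw [← h']; abel]
          exact P.sub_mem hvP (P.smul_mem _ hwP)
        rw [map_add, map_smul, map_smul, hx₀v]
        exact P.add_mem (P.smul_mem _ hwP) (P.smul_mem _ hxw)
      by_cases hy : ∃ y, x₀ y ∉ P ⊔ K ∙ y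
      · obtain ⟨y, hy⟩ := hy
        obtain ⟨φ, hφ1, hφ0⟩ := exists_functional_pair hy
        have hφy : φ y = 0 := hφ0 y (Submodule.mem_sup_right (Submodule.mem_span_singleton_self y))
        obtain ⟨κ, -, hκ⟩ := key φ y hφy (hφ0 v (Submodule.mem_sup_left hvP)) (hφ0 w (Submodule.mem_sup_left hwP))
        have h1 := hκ y
        rw [hφ1, hφy, one_smul, zero_smul, add_zero] at h1
        by_cases hk : κ = 1
        · rw [hk, one_smul, add_sub_cancel_left] at h1
          exact hy (Submodule.mem_sup_left (hxP y h1))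
        · refine hy ((Submodule.smul_mem_iff _ (sub_ne_zero.2 (Ne.symm hk))).1 ?_)
          rw [show (1 - κ) • x₀ y = (x₀ y + y - κ • x₀ y) - y by rw [sub_smul, one_smul]; abel]
          exact Submodule.sub_mem _ (Submodule.mem_sup_left h1)
            (Submodule.mem_sup_right (Submodule.mem_span_singleton_self y))
      push Not at hy
      let π := P.mkQ
      have hq : ∀ y, ∃ c : K, π (x₀ y) = c • π y := fun y => by
        obtain ⟨p, hp, z, hz, hpz⟩ := Submodule.mem_sup.1 (hy y)
        obtain ⟨c, rfl⟩ := Submodule.mem_span_singleton.1 hz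
        refine ⟨c, ?_⟩
        rw [← hpz, map_add, map_smul, show π p = 0 from (Submodule.Quotient.mk_eq_zero P).2 hp, zero_add]
      let f : End K (V ⧸ P) := P.mapQ P x₀ fun z hz => hxP z hz
      obtain ⟨κ, hκ⟩ : ∃ κ : K, f = κ • LinearMap.id := f.exists_eq_smul_id_of_forall_notLinearIndependent fun z => by
        obtain ⟨y, rfl⟩ := Submodule.mkQ_surjective P z
        obtain ⟨c, hc⟩ := hq y
        intro hli
        by_cases hz : P.mkQ y = 0
        · exact (hli.ne_zero 0) (by simpa using hz)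
        · exact (pair_indep_iff hz).1 hli c (by simpa [f, π] using hc)
      have hrange : LinearMap.range (x₀ - κ • 1) ≤ P := by
        rintro _ ⟨y, rfl⟩
        have := LinearMap.congr_fun hκ (P.mkQ y)
        rw [← Submodule.Quotient.mk_eq_zero]
        simp [f] at this ⊢
        rw [this, sub_self]
      rcases hex with hA' | hg'
      · refine hA' κ ?_
        rintro _ ⟨y, rfl⟩
        have h1 := Submodule.mem_map_of_mem (f := (e.symm : V →ₗ[K] V)) (hrange (LinearMap.mem_range_self _ (e y)))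
        rw [map_span_pair_eq] at h1
        have h2 : (e.symm : V →ₗ[K] V) v = v₀ := by rw [LinearEquiv.coe_coe, ← hev, e.symm_apply_apply]
        have h3 : (e.symm : V →ₗ[K] V) w = A v₀ := by rw [LinearEquiv.coe_coe, ← hew, e.symm_apply_apply]
        rw [h2, h3] at h1
        simpa [x₀, LinearEquiv.conj_apply_apply, map_sub, map_smul] using h1
      · refine hg' (ν₀ * κ) (le_trans ?_ hgP')
        rintro _ ⟨y, rfl⟩
        have h0 := hν₀ (LinearMap.mem_range_self _ y)
        have h1 := P.smul_mem ν₀ (hrange (LinearMap.mem_range_self _ y))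
        have h2 := P.add_mem h0 h1
        convert h2 using 1
        simp [smul_sub, smul_smul]
    · obtain ⟨φ, hφ1, hφ0⟩ := exists_functional_pair huP
      have hlt : ¬ LinearMap.ker φ ≤ P.comap x₀ := fun h => by
        have h1 := Submodule.finrank_mono h
        have h2 : finrank K (P.comap x₀) ≤ 2 := by
          refine (finrank_comap_le x₀ P).trans ?_
          rw [ker_eq_bot_of_det (hx₀.det ▸ hdA), finrank_bot]
          omega
        have h3 := LinearMap.finrank_range_add_finrank_ker φ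
        have h5 : finrank K (LinearMap.range φ) ≤ 1 := (Submodule.finrank_le _).trans (by simp)
        omega
      obtain ⟨t, ht, htP⟩ := SetLike.not_le_iff_exists.1 hlt
      obtain ⟨κ, hκ0, hκ⟩ := key φ t (LinearMap.mem_ker.1 ht) (hφ0 v hvP) (hφ0 w hwP)
      refine htP ?_
      rw [Submodule.mem_comap]
      have h1 := hκ (xe.symm v)
      rw [hxa (xe.symm v), LinearEquiv.apply_symm_apply, hφ0 v hvP, hφ1, zero_smul, add_zero, one_smul, map_add,
        hxa (xe.symm v), LinearEquiv.apply_symm_apply] at h1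
      rw [← P.smul_mem_iff hκ0]
      have h2 := P.sub_mem hvP h1
      rw [sub_sub_cancel, smul_add] at h2
      exact (P.add_mem_iff_right (P.smul_mem κ hvP)).1 h2
  -- count the bad moves
  have : Finite V := Module.finite_of_finite K
  have : Finite (Dual K V) := Module.finite_of_finite K
  have : Fintype (Dual K V) := Fintype.ofFinite _
  let Φ : Finset (Dual K V) := Finset.univ.filter fun ψ => ψ ∈ P.dualAnnihilator
  have hΦ : Fintype.card K ^ (finrank K V - 2) ≤ Φ.card := by
    rw [show Φ.card = Nat.card P.dualAnnihilator by rw [Nat.card_eq_fintype_card, Fintype.card_subtype],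
      Module.natCard_eq_pow_finrank (K := K), Nat.card_eq_fintype_card]
    refine Nat.pow_le_pow_right Fintype.card_pos ?_
    have := Subspace.finrank_add_finrank_dualAnnihilator_eq P
    omega
  have hΦv : ∀ ψ ∈ Φ, ψ v = 0 ∧ ψ w = 0 := fun ψ hψ => by
    have h := (Submodule.mem_dualAnnihilator ψ).1 (Finset.mem_filter.1 hψ).2
    exact ⟨h v hvP, h w hwP⟩
  let X : ∀ ψ : Dual K V, ψ v = 0 → End K V := fun ψ h => (LinearEquiv.transvection h).conj x
  have hXa : ∀ (ψ : Dual K V) (h : ψ v = 0) (h' : ψ w = 0) (y : V), X ψ h y = x y + ψ (x y) • v - ψ y • w := by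
    intro ψ h h' y
    have h1 := transvection_conj_apply h x y
    rw [map_add, map_smul] at h1
    have h2 : X ψ h v = w := by
      have := transvection_conj_apply h x v
      rwa [h, zero_smul, add_zero, hxv, h', zero_smul, add_zero] at this
    rw [eq_sub_iff_add_eq, ← h1, h2]
  by_contra hne
  push Not at hne
  -- every move is bad for some non-zero `ν`
  let B : K → Finset (Dual K V) := fun ν => Φ.filter fun ψ =>
    ∀ h : ψ v = 0, ∃ a, LinearMap.range (g - ν • X ψ h) ≤ Submodule.span K {w, a}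
  have hsub : Φ ⊆ (Finset.univ.erase (0 : K)).biUnion B := by
    intro ψ hψ
    obtain ⟨h, h'⟩ := hΦv ψ hψ
    have hXv : X ψ h v = w := by rw [hXa ψ h h', hxv, h', h]; simp
    obtain ⟨ν, a, hνa⟩ := hne v (X ψ h) hv (sconj_transvection hx h) (hwdef ▸ hXv)
    rw [← hwdef] at hνa
    refine Finset.mem_biUnion.2 ⟨ν, Finset.mem_erase.2 ⟨?_, Finset.mem_univ _⟩,
      Finset.mem_filter.2 ⟨hψ, fun _ => ⟨a, hνa⟩⟩⟩
    intro h0
    rw [h0, zero_smul, sub_zero, hsurj g hdg] at hνa
    have := (Submodule.finrank_mono hνa).trans (finrank_span_pair_le w a)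
    rw [finrank_top] at this
    omega
  have hB : ∀ ν ∈ Finset.univ.erase (0 : K), (B ν).card ≤ Fintype.card K := by
    intro ν hν
    have hν0 := Finset.ne_of_mem_erase hν
    obtain ⟨y₀, hy₀⟩ : ∃ y₀, (g - ν • x) y₀ ∉ P := by
      by_contra hc
      push Not at hc
      exact hrob ν (by rintro _ ⟨y, rfl⟩; exact hc y)
    let D := g - ν • x
    -- the line of a bad move
    have hline : ∀ ψ ∈ B ν, ∃ a, a ∉ P ∧ ∀ y, ∃ α β : K,
        D y - ν • ψ (x y) • v = α • a + β • w := by
      intro ψ hψ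
      obtain ⟨hψΦ, hψ'⟩ := Finset.mem_filter.1 hψ
      obtain ⟨h, h'⟩ := hΦv ψ hψΦ
      obtain ⟨a, ha⟩ := hψ' h
      have hmem : ∀ y, ∃ α β : K, D y - ν • ψ (x y) • v = α • a + β • w := fun y => by
        have h1 := ha (LinearMap.mem_range_self _ y)
        obtain ⟨β, α, hαβ⟩ := Submodule.mem_span_pair.1 h1
        refine ⟨α, β - ν * ψ y, ?_⟩
        rw [sub_smul, ← smul_smul ν (ψ y), ← add_sub_assoc, add_comm, hαβ]
        simp [D, hXa ψ h h', smul_sub, smul_add]
        abel
      refine ⟨a, fun haP => hy₀ ?_, hmem⟩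
      obtain ⟨α, β, hαβ⟩ := hmem y₀
      rw [sub_eq_iff_eq_add] at hαβ
      show D y₀ ∈ P
      rw [hαβ]
      exact P.add_mem (P.add_mem (P.smul_mem _ haP) (P.smul_mem _ hwP)) (P.smul_mem _ (P.smul_mem _ hvP))
    refine (Finset.card_le_card_of_injOn (t := (Finset.univ : Finset K)) (fun ψ => ψ (x y₀))
      (fun _ _ => Finset.mem_univ _) ?_).trans (by rw [Finset.card_univ])
    intro ψ₁ h₁ ψ₂ h₂ heq
    rw [Finset.mem_coe] at h₁ h₂
    obtain ⟨a₁, ha₁, hl₁⟩ := hline ψ₁ h₁
    obtain ⟨a₂, ha₂, hl₂⟩ := hline ψ₂ h₂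
    have hx0 : LinearMap.range x = ⊤ := hsurj x (hx.det ▸ hdA)
    refine LinearMap.ext fun z => ?_
    obtain ⟨y, rfl⟩ := LinearMap.range_eq_top.1 hx0 z
    obtain ⟨α, β, e1⟩ := hl₁ y
    obtain ⟨α₀, β₀, e10⟩ := hl₁ y₀
    obtain ⟨γ, δ, e2⟩ := hl₂ y
    obtain ⟨γ₀, δ₀, e20⟩ := hl₂ y₀
    simp only at heq
    rw [← heq] at e20
    have hα₀ : α₀ ≠ 0 := fun h => hy₀ (by
      show D y₀ ∈ P
      rw [sub_eq_iff_eq_add.1 e10, h, zero_smul, zero_add]
      exact P.add_mem (P.smul_mem _ hwP) (P.smul_mem _ (P.smul_mem _ hvP)))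
    -- the same line on both sides
    have hγ : γ₀ • a₂ = α₀ • a₁ + (β₀ - δ₀) • w := by
      rw [sub_smul, ← add_sub_assoc, ← e10, e20]; abel
    have hγ₀ : γ₀ ≠ 0 := fun h => by
      rw [h, zero_smul] at hγ
      refine ha₁ ((P.smul_mem_iff hα₀).1 ?_)
      rw [eq_neg_of_add_eq_zero_left hγ.symm]
      exact P.neg_mem (P.smul_mem _ hwP)
    have ha2 : a₂ = (γ₀⁻¹ * α₀) • a₁ + (γ₀⁻¹ * (β₀ - δ₀)) • w := by
      rw [mul_smul, mul_smul, ← smul_add, ← hγ, smul_smul, inv_mul_cancel₀ hγ₀, one_smul]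
    have hdiff : (ν * (ψ₂ (x y) - ψ₁ (x y))) • v =
        (α - γ * (γ₀⁻¹ * α₀)) • a₁ + (β - δ - γ * (γ₀⁻¹ * (β₀ - δ₀))) • w := by
      rw [show (ν * (ψ₂ (x y) - ψ₁ (x y))) • v = (D y - ν • ψ₁ (x y) • v) - (D y - ν • ψ₂ (x y) • v) by
        match_scalars <;> ring, e1, e2, ha2]
      match_scalars <;> ring
    have hcoef : α - γ * (γ₀⁻¹ * α₀) = 0 := by
      by_contra hc
      refine ha₁ ((P.smul_mem_iff hc).1 ?_)
      rw [show (α - γ * (γ₀⁻¹ * α₀)) • a₁ = (ν * (ψ₂ (x y) - ψ₁ (x y))) • v -
        (β - δ - γ * (γ₀⁻¹ * (β₀ - δ₀))) • w by rw [hdiff]; abel]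
      exact P.sub_mem (P.smul_mem _ hvP) (P.smul_mem _ hwP)
    rw [hcoef, zero_smul, zero_add] at hdiff
    have := LinearIndependent.pair_iff.1 hvw (ν * (ψ₂ (x y) - ψ₁ (x y))) (-(β - δ - γ * (γ₀⁻¹ * (β₀ - δ₀)))) (by
      rw [hdiff, neg_smul, add_neg_cancel])
    exact (sub_eq_zero.1 ((mul_eq_zero.1 this.1).resolve_left hν0)).symm
  have hcard := (Finset.card_le_card hsub).trans (Finset.card_biUnion_le.trans (Finset.sum_le_card_nsmul _ _ _ hB))
  rw [Finset.card_erase_of_mem (Finset.mem_univ _), Finset.card_univ, smul_eq_mul] at hcard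
  have := arith_move h4 hn hcard
  omega

/-- The first conjugate in dimension three: the trace of what remains is arbitrary. -/
theorem exists_move_three (h4 : 4 ≤ Fintype.card K) (hn : finrank K V = 3) {A g : End K V} (hA : NS A) (hg : NS g)
    (hdA : LinearMap.det A ≠ 0) (hdg : LinearMap.det g ≠ 0) (hyp : Gen g ∨ Gen A) {μ : K} (hμ : μ ≠ 0) (τ : K) :
    ∃ (v : V) (x h : End K V), LinearIndependent K ![v, g v] ∧ SConj A x ∧ x v = μ⁻¹ • g v ∧ x * h = g ∧
      LinearMap.trace K V h = τ := by
  classical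
  obtain ⟨v, x, hv, hx, hxv, u, hu, hgu⟩ : ∃ v x, LinearIndependent K ![v, g v] ∧ SConj A x ∧ x v = μ⁻¹ • g v ∧
      ∃ u, x u = v ∧ g u ∉ Submodule.span K ({v, μ⁻¹ • g v} : Set V) := by
    obtain ⟨v₀, v, hv₀, hv, hex⟩ : ∃ v₀ v, LinearIndependent K ![v₀, A v₀] ∧ LinearIndependent K ![v, g v] ∧
        (LinearIndependent K ![v₀, A v₀, A (A v₀)] ∨ LinearIndependent K ![v, g v, g (g v)]) := by
      have hpair : ∀ {f : End K V} {z : V}, LinearIndependent K ![z, f z, f (f z)] → LinearIndependent K ![z, f z] :=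
        fun {f z} h => by
          have := h.comp (Fin.castSucc : Fin 2 → Fin 3) (Fin.castSucc_injective 2)
          convert this using 1
          ext i
          fin_cases i <;> rfl
      rcases hyp with h | h
      · obtain ⟨v₀, hv₀⟩ := hA.exists_noneigen
        obtain ⟨v, hv⟩ := exists_cyclic_three h4 hn h hdg
        exact ⟨v₀, v, hv₀, hpair hv, Or.inr hv⟩
      · obtain ⟨v₀, hv₀⟩ := exists_cyclic_three h4 hn h hdA
        obtain ⟨v, hv⟩ := hg.exists_noneigen
        exact ⟨v₀, v, hpair hv₀, hv, Or.inl hv₀⟩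
    have hv0 : v ≠ 0 := by simpa using hv.ne_zero 0
    obtain ⟨w, hwdef⟩ : ∃ w, w = μ⁻¹ • g v := ⟨_, rfl⟩
    have hgv : g v = μ • w := by rw [hwdef, smul_smul, mul_inv_cancel₀ hμ, one_smul]
    have hvw : LinearIndependent K ![v, w] := (pair_indep_iff hv0).2 fun c hc =>
      (pair_indep_iff hv0).1 hv (μ * c) (by rw [hgv, hc, smul_smul])
    set P := Submodule.span K ({v, w} : Set V) with hP
    have hvP : v ∈ P := Submodule.subset_span (by simp)
    have hwP : w ∈ P := Submodule.subset_span (by simp)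
    obtain ⟨e, he, hei⟩ := exists_equiv hv₀ hvw (by omega) one_ne_zero
    have hev : e v₀ = v := hei 0
    have hew : e (A v₀) = w := hei 1
    let x₀ := e.conj A
    have hx₀ : SConj A x₀ := ⟨e, he, rfl⟩
    have hx₀v : x₀ v = w := by
      show e.conj A v = w
      rw [LinearEquiv.conj_apply_apply, ← hev, e.symm_apply_apply, hew]
    obtain ⟨xe, hxe⟩ := exists_equiv_of_det (A := x₀) (hx₀.det ▸ hdA)
    have hxa : ∀ z, x₀ z = xe z := fun z => (LinearMap.congr_fun hxe z).symm
    obtain ⟨u, hu⟩ : ∃ u, x₀ u = v := ⟨xe.symm v, by rw [hxa, LinearEquiv.apply_symm_apply]⟩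
    by_cases hgu : g u ∈ P
    swap
    · exact ⟨v, x₀, hv, hx₀, hwdef ▸ hx₀v, u, hu, hwdef ▸ hgu⟩
    have huP : u ∉ P := by
      intro huP
      obtain ⟨a, b, hab⟩ := Submodule.mem_span_pair.1 huP
      have hb : b ≠ 0 := fun h => by
        rw [h, zero_smul, add_zero] at hab
        have h' : v = a • w := by rw [← hx₀v, ← map_smul, hab, hu]
        exact one_ne_zero (LinearIndependent.pair_iff.1 hvw 1 (-a) (by
          rw [one_smul, neg_smul, ← h', add_neg_cancel])).1
      rcases hex with hA3 | hg3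
      · -- pull back to the cyclic vector
        have hAv : A (e.symm u) = v₀ := by
          have h' := hu
          show _ = v₀
          rw [← hev] at h'
          simp only [x₀, LinearEquiv.conj_apply_apply] at h'
          exact e.injective h'
        have h2 : v₀ = a • A v₀ + b • A (A v₀) := by
          rw [← hab, map_add, map_smul, map_smul, ← hev, ← hew, e.symm_apply_apply, e.symm_apply_apply,
            map_add, map_smul, map_smul] at hAv
          exact hAv.symm
        have := Fintype.linearIndependent_iff.1 hA3 ![1, -a, -b] (by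
          rw [Fin.sum_univ_three]
          simp
          nth_rw 1 [h2]
          abel) 0
        simp at this
      · rw [← hab, map_add, map_smul, map_smul, hgv] at hgu
        have hgw : g w ∈ P := by
          refine (P.smul_mem_iff hb).1 ?_
          have := P.sub_mem hgu (P.smul_mem a (P.smul_mem μ hwP))
          rwa [add_sub_cancel_left] at this
        obtain ⟨c, d, hcd⟩ := Submodule.mem_span_pair.1 hgw
        have h2 : g (g v) = (μ * c) • v + d • g v := by
          rw [hgv, map_smul, ← hcd, smul_add, smul_smul, smul_smul, smul_smul, mul_comm d μ]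
        have := Fintype.linearIndependent_iff.1 hg3 ![-(μ * c), -d, 1] (by
          rw [Fin.sum_univ_three]
          simp
          rw [h2]
          abel) 2
        simp at this
    obtain ⟨φ, hφ1, hφ0⟩ := exists_functional_pair huP
    have hφw := hφ0 w hwP
    refine ⟨v, (LinearEquiv.transvection hφw).conj x₀, hv, sconj_transvection hx₀ hφw, ?_, u + φ u • w, ?_, ?_⟩
    · have := transvection_conj_apply hφw x₀ v
      rw [hφ0 v hvP, zero_smul, add_zero, hx₀v, hφw, zero_smul, add_zero] at this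
      rw [this, hwdef]
    · rw [transvection_conj_apply hφw x₀ u, hu, hφ0 v hvP, zero_smul, add_zero]
    · rw [← hwdef, ← hP, hφ1, one_smul, map_add]
      intro hc
      have hgw : g w ∈ P := (P.add_mem_iff_right hgu).1 hc
      have hinv : P ≤ P.comap g := by
        rw [hP, Submodule.span_le, Set.insert_subset_iff, Set.singleton_subset_iff, ← hP]
        exact ⟨(hgv ▸ P.smul_mem _ hwP : g v ∈ P), hgw⟩
      have heq : P = P.comap g := by
        refine Submodule.eq_of_le_of_finrank_le hinv ((finrank_comap_le g P).trans ?_)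
        rw [ker_eq_bot_of_det hdg, finrank_bot]
        omega
      exact huP (heq ▸ hgu)
  obtain ⟨w, hwdef⟩ : ∃ w, w = μ⁻¹ • g v := ⟨_, rfl⟩
  rw [← hwdef] at hxv hgu
  set P := Submodule.span K ({v, w} : Set V)
  have hvP : v ∈ P := Submodule.subset_span (by simp)
  have hwP : w ∈ P := Submodule.subset_span (by simp)
  obtain ⟨φ, hφ1, hφ0⟩ := exists_functional_pair hgu
  obtain ⟨xe, hxe⟩ := exists_equiv_of_det (A := x) (hx.det ▸ hdA)
  have hxa : ∀ z, x z = xe z := fun z => (LinearMap.congr_fun hxe z).symm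
  have hxu : xe.symm v = u := xe.injective (by rw [xe.apply_symm_apply, ← hxa, hu])
  obtain ⟨c, hc⟩ : ∃ c, c = LinearMap.trace K V ((xe.symm : End K V) * g) - τ := ⟨_, rfl⟩
  let ψ : Dual K V := c • φ
  have hψv : ψ v = 0 := by simp [ψ, hφ0 v hvP]
  have hψw : ψ w = 0 := by simp [ψ, hφ0 w hwP]
  set T := LinearEquiv.transvection hψv
  refine ⟨v, T.conj x, T.conj (xe.symm : End K V) * g, hv, sconj_transvection hx hψv, ?_, ?_, ?_⟩
  · have := transvection_conj_apply hψv x v
    rw [hψv, zero_smul, add_zero, hxv, hψw, zero_smul, add_zero] at this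
    rw [this, hwdef]
  · refine LinearMap.ext fun z => ?_
    simp [Module.End.mul_apply, LinearEquiv.conj_apply_apply, hxa]
  · have hconj : T.conj (xe.symm : End K V) * g = T.conj ((xe.symm : End K V) * T.symm.conj g) :=
      LinearMap.ext fun z => by simp [Module.End.mul_apply, LinearEquiv.conj_apply_apply]
    have hψg : ψ (g v) = 0 := by
      rw [show g v = μ • w by rw [hwdef, smul_smul, mul_inv_cancel₀ hμ, one_smul], map_smul, hψw, smul_zero]
    have hg' : T.symm.conj g = g + ψ.smulRight (g v) - (ψ.comp g).smulRight v := by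
      refine LinearMap.ext fun z => T.injective ?_
      rw [LinearEquiv.conj_apply_apply, T.apply_symm_apply, LinearEquiv.symm_symm, LinearEquiv.transvection.apply,
        LinearEquiv.transvection.apply]
      simp [map_add, map_smul, hψg, hψv]
    rw [hconj, LinearMap.trace_conj', hg', mul_sub, mul_add, map_sub, map_add,
      show (xe.symm : End K V) * ψ.smulRight (g v) = ψ.smulRight (xe.symm (g v)) from
        LinearMap.ext fun z => by simp [Module.End.mul_apply],
      show (xe.symm : End K V) * (ψ.comp g).smulRight v = (ψ.comp g).smulRight (xe.symm v) from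
        LinearMap.ext fun z => by simp [Module.End.mul_apply],
      LinearMap.trace_smulRight, LinearMap.trace_smulRight, LinearMap.comp_apply, hxu]
    have h1 : xe.symm (g v) = μ • v := by
      apply xe.injective
      rw [xe.apply_symm_apply, map_smul, ← hxa, hxv, hwdef, smul_smul, mul_inv_cancel₀ hμ, one_smul]
    rw [h1, map_smul, hψv, smul_zero, add_zero]
    simp [ψ, hφ1, hc]

end Cfsg.Agent.LevCover
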