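import Cfsg.Agent.Lib.LevCover.Forms
import Cfsg.Agent.Lib.GL.Sourour

/-!
Pairs of polynomials whose cyclic classes multiply to all non-scalar endomorphisms of the right determinant.
-/

set_option autoImplicit false

namespace Cfsg.Agent.LevCover

open Module Polynomial Cfsg.Agent.GL.TwoReg

universe u

variable {K : Type u} [Field K]

/-- `p` and `p'` are monic of the same degree with non-zero constant terms and the cyclic classes
multiply to every admissible endomorphism. -/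
def Pairable (p p' : K[X]) : Prop :=
  p.Monic ∧ p'.Monic ∧ p.natDegree = p'.natDegree ∧ p.coeff 0 ≠ 0 ∧ p'.coeff 0 ≠ 0 ∧
    ∀ (V : Type u) [AddCommGroup V] [Module K V] [FiniteDimensional K V] (H : End K V),
      finrank K V = p.natDegree → (p.natDegree ≤ 1 ∨ ∀ c : K, H ≠ c • 1) →
      LinearMap.det H = p.coeff 0 * p'.coeff 0 → ∃ A B : End K V, H = A * B ∧ CycTy A p ∧ CycTy B p'

theorem Pairable.symm {p p' : K[X]} (h : Pairable p p') : Pairable p' p := by
  obtain ⟨h1, h2, h3, h4, h5, h6⟩ := h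
  refine ⟨h2, h1, h3.symm, h5, h4, fun V _ _ _ H hd hH hdet => ?_⟩
  obtain ⟨A, B, hAB, hA, hB⟩ := h6 V H (hd.trans h3.symm) (h3 ▸ hH) (hdet.trans (mul_comm _ _))
  have hdA : LinearMap.det A ≠ 0 := by
    rw [hA.det_eq]; exact mul_ne_zero (pow_ne_zero _ (neg_ne_zero.2 one_ne_zero)) h4
  let e := LinearEquiv.ofBijective A
    ⟨LinearMap.ker_eq_bot.1 (by
      by_contra hk
      exact hdA (LinearMap.det_eq_zero_iff_ker_ne_bot.2 hk)),
     LinearMap.surjective_of_injective (LinearMap.ker_eq_bot.1 (by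
      by_contra hk
      exact hdA (LinearMap.det_eq_zero_iff_ker_ne_bot.2 hk)))⟩
  refine ⟨e.conj B, A, ?_, hB.of_sim (sim_conj e B), hA⟩
  refine LinearMap.ext fun x => ?_
  rw [Module.End.mul_apply, LinearEquiv.conj_apply_apply, show A x = e x from rfl, e.symm_apply_apply, hAB]
  rfl

theorem pairable_one : Pairable (1 : K[X]) 1 := by
  refine ⟨monic_one, monic_one, rfl, by simp, by simp, fun V _ _ _ H hd _ _ => ?_⟩
  rw [natDegree_one] at hd
  have : Subsingleton V := Module.finrank_zero_iff.1 hd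
  exact ⟨1, 1, Subsingleton.elim _ _, cycTy_of_finrank_zero 1 hd, cycTy_of_finrank_zero 1 hd⟩

theorem pairable_lin {a b : K} (ha : a ≠ 0) (hb : b ≠ 0) : Pairable (X - C a) (X - C b) := by
  refine ⟨monic_X_sub_C a, monic_X_sub_C b, by simp, by simpa using ha, by simpa using hb, fun V _ _ _ H hd _ hdet => ?_⟩
  rw [natDegree_X_sub_C] at hd
  obtain ⟨c, rfl⟩ := exists_eq_smul_one hd H
  refine ⟨a • 1, b • 1, ?_, cycTy_one_dim hd a, cycTy_one_dim hd b⟩
  rw [LinearMap.det_smul, hd] at hdet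
  simp at hdet
  rw [smul_mul_smul_comm, one_mul, hdet]

variable [Fintype K]

theorem exists_four (h4 : 4 ≤ Fintype.card K) : ∃ F : Finset K, F.card = 4 := by
  obtain ⟨F, -, hF⟩ := Finset.exists_subset_card_eq (s := (Finset.univ : Finset K)) (n := 4)
    (by simpa using h4)
  exact ⟨F, hF⟩

theorem pairable_regular (h4 : 4 ≤ Fintype.card K) {a b : K} (ha : a ≠ 0) (hb : b ≠ 0) (m : ℕ) :
    Pairable ((X - C a) ^ m) ((X - C b) ^ m) := by
  rcases Nat.eq_zero_or_pos m with rfl | hm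
  · rw [pow_zero, pow_zero]; exact pairable_one
  have hc : ∀ e : K, ((X - C e) ^ m).coeff 0 = (-e) ^ m := fun e => by
    simp [Polynomial.coeff_zero_eq_eval_zero]
  refine ⟨(monic_X_sub_C a).pow m, (monic_X_sub_C b).pow m, ?_, by rw [hc]; simp [ha], by rw [hc]; simp [hb],
    fun V _ _ _ H hd hH hdet => ?_⟩
  · simp [(monic_X_sub_C a).natDegree_pow, (monic_X_sub_C b).natDegree_pow]
  have hdm : ((X - C a) ^ m).natDegree = m := by simp [(monic_X_sub_C a).natDegree_pow]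
  rw [hdm] at hd hH
  rw [hc, hc, ← mul_pow, neg_mul_neg] at hdet
  obtain ⟨F, hF⟩ := exists_four h4
  have hdA : LinearMap.det ((a * b)⁻¹ • H) = 1 := by
    rw [LinearMap.det_smul, hdet, hd, inv_pow, inv_mul_cancel₀]
    exact pow_ne_zero _ (mul_ne_zero ha hb)
  have hA : (∀ c : K, (a * b)⁻¹ • H ≠ c • 1) ∨ (a * b)⁻¹ • H = 1 := by
    rcases hH with h1 | h
    · exact Or.inr (eq_one_of_finrank_one (by omega) hdA)
    · refine Or.inl fun c hc' => h (a * b * c) ?_
      rw [mul_smul (a * b) c, ← hc', smul_smul, mul_inv_cancel₀ (mul_ne_zero ha hb), one_smul]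
  obtain ⟨u, ω, A, B, hAB, hA0, hB0, hAu, hBω⟩ := exists_twoRegAt hF m hd hm _ hdA hA
  obtain ⟨u', hu'⟩ : ∃ u', ((B - 1) ^ (finrank K V - 1)) u' ≠ 0 := by
    by_contra hne
    push Not at hne
    exact hBω (LinearMap.ext fun x => by simp [hne x])
  refine ⟨a • A, b • B, ?_, ?_, ?_⟩
  · rw [smul_mul_smul_comm, ← hAB, smul_smul, mul_inv_cancel₀ (mul_ne_zero ha hb), one_smul]
  · simpa [hd] using cycTy_regular hA0 hAu ha
  · simpa [hd] using cycTy_regular hB0 hu' hb

/-- The quadratic `X ^ 2 - t X + d`. -/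
noncomputable def quad (t d : K) : K[X] := X ^ 2 - C t * X + C d

omit [Fintype K] in
theorem quad_monic (t d : K) : (quad t d).Monic := by rw [quad]; monicity!

omit [Fintype K] in
theorem quad_natDegree (t d : K) : (quad t d).natDegree = 2 := by rw [quad]; compute_degree!

omit [Fintype K] in
theorem quad_coeff (t d : K) : (quad t d).coeff 0 = d := by simp [quad, Polynomial.coeff_zero_eq_eval_zero]

omit [Fintype K] in
theorem cycTy_quad {V : Type u} [AddCommGroup V] [Module K V] [FiniteDimensional K V] (hd : finrank K V = 2)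
    {f : End K V} (hf : ∀ c : K, f ≠ c • 1) {t d : K} (hp : f * f = t • f - d • 1) : CycTy f (quad t d) :=
  cycTy_two hd hf hp

omit [Fintype K] in
theorem det_of_quad {V : Type u} [AddCommGroup V] [Module K V] [FiniteDimensional K V] (hd : finrank K V = 2)
    {f : End K V} (hf : ∀ c : K, f ≠ c • 1) {t d : K} (hp : f * f = t • f - d • 1) : LinearMap.det f = d := by
  rw [(cycTy_quad hd hf hp).det_eq, hd, quad_coeff]; ring

/-- Two quadratics without repeated roots. -/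
theorem pairable_quad {t d t' d' : K} (hd0 : d ≠ 0) (hd0' : d' ≠ 0) (hs : Sep t d) (hs' : Sep t' d')
    (h : (∃ r, r ^ 2 - t * r + d = 0) ∨ (∃ r, r ^ 2 - t' * r + d' = 0) ∨ d * t' ^ 2 ≠ d' * t ^ 2) :
    Pairable (quad t d) (quad t' d') := by
  suffices key : ∀ (t d t' d' : K), d ≠ 0 → d' ≠ 0 → Sep t d → Sep t' d' →
      ((∃ r, r ^ 2 - t * r + d = 0) ∨ d * t' ^ 2 ≠ d' * t ^ 2) → Pairable (quad t d) (quad t' d') by
    rcases h with h | h | h
    · exact key _ _ _ _ hd0 hd0' hs hs' (Or.inl h)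
    · exact (key _ _ _ _ hd0' hd0 hs' hs (Or.inl h)).symm
    · exact key _ _ _ _ hd0 hd0' hs hs' (Or.inr h)
  intro t d t' d' hd0 hd0' hs hs' h
  refine ⟨quad_monic _ _, quad_monic _ _, by simp [quad_natDegree], by simpa [quad_coeff],
    by simpa [quad_coeff], fun V _ _ _ H hd hH hdet => ?_⟩
  rw [quad_natDegree] at hd hH
  rw [quad_coeff, quad_coeff] at hdet
  have hH' := hH.resolve_left (by norm_num)
  obtain ⟨T, hT⟩ := exists_trace_two hd H
  obtain ⟨x, y, hxy, hx, hy, hxd⟩ := quad_factor (d' := d') (t' := t') hd hH' hT hd0 hdet (by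
    rcases h with h | h
    exacts [Or.inl h, Or.inr (Or.inr h)])
  have hyd : LinearMap.det y = d' := by
    rw [hxy, map_mul, hxd] at hdet
    exact mul_left_cancel₀ hd0 hdet
  exact ⟨x, y, hxy, cycTy_quad hd (ne_smul_of_sep hx hs hd hxd hd0) hx,
    cycTy_quad hd (ne_smul_of_sep hy hs' hd hyd hd0') hy⟩


section Blocks

variable {V W : Type u} [AddCommGroup V] [Module K V] [AddCommGroup W] [Module K W]

/-- The block map `(x, y) ↦ (A x, C x + B y)`. -/
def lower (A : End K V) (C : V →ₗ[K] W) (B : End K W) : End K (V × W) :=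
  (A.comp (LinearMap.fst K V W)).prod (C.comp (LinearMap.fst K V W) + B.comp (LinearMap.snd K V W))

omit [Fintype K] in
@[simp] theorem lower_apply (A : End K V) (C : V →ₗ[K] W) (B : End K W) (x : V) (y : W) :
    lower A C B (x, y) = (A x, C x + B y) := rfl

omit [Fintype K] in
theorem CycTy.lower [FiniteDimensional K V] [FiniteDimensional K W] {A : End K V} {B : End K W} {p q : K[X]}
    (hA : CycTy A p) (hB : CycTy B q) (h : IsCoprime p q) (C : V →ₗ[K] W) :
    CycTy (LevCover.lower A C B) (p * q) := by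
  rw [mul_comm p q]
  refine (hB.upper hA h.symm C).of_sim ⟨LinearEquiv.prodComm K W V, ?_⟩
  rintro ⟨y, x⟩
  simp [add_comm]

omit [Fintype K] in
theorem exists_diag (h4 : 4 ≤ Nat.card K) {m : ℕ} (hm : 1 ≤ m) {d : K} (hd : d ≠ 0) :
    ∃ β : Fin m → K, (∀ i, β i ≠ 0) ∧ ∏ i, β i = d ∧ ∀ h : 2 ≤ m, β ⟨0, by omega⟩ ≠ β ⟨1, by omega⟩ := by
  classical
  obtain ⟨k, rfl⟩ : ∃ k, m = k + 1 := ⟨m - 1, by omega⟩
  rcases Nat.eq_zero_or_pos k with rfl | hk
  · exact ⟨fun _ => d, fun _ => hd, by simp, fun h => absurd h (by norm_num)⟩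
  obtain ⟨j, rfl⟩ : ∃ j, k = j + 1 := ⟨k - 1, by omega⟩
  have : Finite K := Nat.finite_of_card_ne_zero (by omega)
  have : Fintype K := Fintype.ofFinite K
  rw [Nat.card_eq_fintype_card] at h4
  obtain ⟨a, ha⟩ : ∃ a : K, a ∉ ({0} : Finset K) ∪ ((Polynomial.X ^ 2 - Polynomial.C d).roots.toFinset) := by
    by_contra hne
    push Not at hne
    have h0 := Finset.card_le_card (s := (Finset.univ : Finset K)) (fun x _ => hne x)
    rw [Finset.card_univ] at h0
    have h1 := Polynomial.card_roots' (Polynomial.X ^ 2 - Polynomial.C d)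
    have h2 : (Polynomial.X ^ 2 - Polynomial.C d).natDegree = 2 := by compute_degree!
    have h3 := Multiset.toFinset_card_le (Polynomial.X ^ 2 - Polynomial.C d).roots
    have h5 := Finset.card_union_le ({0} : Finset K) ((Polynomial.X ^ 2 - Polynomial.C d).roots.toFinset)
    rw [Finset.card_singleton] at h5
    omega
  simp only [Finset.mem_union, Finset.mem_singleton, not_or, Multiset.mem_toFinset,
    Polynomial.mem_roots (Polynomial.X_pow_sub_C_ne_zero (by norm_num : 0 < 2) d)] at ha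
  refine ⟨Fin.cons a (Fin.cons (d / a) fun _ => 1), ?_, ?_, fun _ h => ?_⟩
  · intro i
    refine Fin.cases ha.1 (fun i => ?_) i
    refine Fin.cases (div_ne_zero hd ha.1) (fun i => ?_) i
    simp
  · simp [Fin.prod_univ_succ, mul_div_cancel₀ _ ha.1]
  · have h' : a = d / a := by simpa using h
    exact ha.2 (by
      rw [Polynomial.IsRoot, Polynomial.eval_sub, Polynomial.eval_pow, Polynomial.eval_X, Polynomial.eval_C]
      rw [eq_div_iff ha.1] at h'
      linear_combination h')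

omit [Fintype K] in
theorem mul_apply_lower {n : ℕ} {L U : Matrix (Fin n) (Fin n) K} (hL : ∀ i j, i < j → L i j = 0)
    (hU : ∀ i j, j < i → U i j = 0) {z o : Fin n} (hz : z.val = 0) (ho : o.val = 1) :
    (L * U) z z = L z z * U z z ∧ (L * U) z o = L z z * U z o ∧ (L * U) o o = L o z * U z o + L o o * U o o := by
  have hzo : z ≠ o := fun h => by rw [h, ho] at hz; omega
  have h0 : ∀ k, k ≠ z → z < k := fun k hk => by
    rw [Fin.lt_def]; rcases Nat.eq_zero_or_pos k.val with h | h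
    · exact absurd (Fin.ext (h.trans hz.symm)) hk
    · omega
  refine ⟨?_, ?_, ?_⟩
  · rw [Matrix.mul_apply, Finset.sum_eq_single z (fun k _ hk => by rw [hL z k (h0 k hk), zero_mul]) (by simp)]
  · rw [Matrix.mul_apply, Finset.sum_eq_single z (fun k _ hk => by rw [hL z k (h0 k hk), zero_mul]) (by simp)]
  · rw [Matrix.mul_apply]
    refine Finset.sum_eq_add z o hzo (fun k _ hk => ?_) (by simp) (by simp)
    rw [hL o k ?_, zero_mul]
    rw [Fin.lt_def]
    have h1 := h0 k hk.1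
    rw [Fin.lt_def] at h1
    rcases eq_or_ne k.val 1 with h | h
    · exact absurd (Fin.ext (h.trans ho.symm)) hk.2
    · omega

omit [Fintype K] in
theorem lu_nonscalar {n : ℕ} {L U : Matrix (Fin n) (Fin n) K} (hL : ∀ i j, i < j → L i j = 0)
    (hU : ∀ i j, j < i → U i j = 0) {β : Fin n → K} (hβ : ∀ i, L i i * U i i = β i) (hβ0 : ∀ i, β i ≠ 0)
    (h : ∀ h : 2 ≤ n, β ⟨0, by omega⟩ ≠ β ⟨1, by omega⟩) :
    n ≤ 1 ∨ ∀ c : K, Matrix.toLin' (L * U) ≠ c • 1 := by
  rcases Nat.lt_or_ge n 2 with hn | hn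
  · exact Or.inl (by omega)
  refine Or.inr fun c hc => h hn ?_
  have hc' : L * U = c • (1 : Matrix (Fin n) (Fin n) K) := by
    apply Matrix.toLin'.injective
    rw [hc, map_smul, Matrix.toLin'_one]
    rfl
  obtain ⟨hzz, hzo, hoo⟩ := mul_apply_lower hL hU (z := ⟨0, by omega⟩) (o := ⟨1, by omega⟩) rfl rfl
  rw [hc'] at hzz hzo hoo
  have hne : (⟨0, by omega⟩ : Fin n) ≠ ⟨1, by omega⟩ := by simp
  simp [Matrix.one_apply, hne] at hzz hzo hoo
  have hL0 : L ⟨0, by omega⟩ ⟨0, by omega⟩ ≠ 0 := left_ne_zero_of_mul ((hβ _).trans_ne (hβ0 _))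
  rcases hzo with h' | h'
  · exact absurd h' hL0
  rw [h', mul_zero, zero_add, hβ] at hoo
  rw [hβ] at hzz
  exact hzz.symm.trans hoo

omit [Fintype K] in
/-- Block factorisation with prescribed determinants and non-scalar diagonal blocks. -/
theorem exists_blocks (h4 : 4 ≤ Nat.card K) [FiniteDimensional K V] (H : End K V) {m₁ m₂ : ℕ} (h₁ : 1 ≤ m₁)
    (h₂ : 1 ≤ m₂) (hd : finrank K V = m₁ + m₂) (hH : ∀ c : K, H ≠ c • 1) {d₁ d₂ : K} (hd₁ : d₁ ≠ 0)
    (hd₂ : d₂ ≠ 0) (hdet : LinearMap.det H = d₁ * d₂) :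
    ∃ (A₁ A₂ : End K (Fin m₁ → K)) (B₁ B₂ : End K (Fin m₂ → K)) (C : (Fin m₁ → K) →ₗ[K] (Fin m₂ → K))
      (E : (Fin m₂ → K) →ₗ[K] (Fin m₁ → K)),
      Sim (lower A₁ C B₁ * upper A₂ E B₂) H ∧
      ((m₁ ≤ 1 ∨ ∀ c : K, A₁ * A₂ ≠ c • 1) ∧ LinearMap.det (A₁ * A₂) = d₁) ∧
      ((m₂ ≤ 1 ∨ ∀ c : K, B₁ * B₂ ≠ c • 1) ∧ LinearMap.det (B₁ * B₂) = d₂) := by
  classical
  let b := Module.finBasisOfFinrankEq K V hd
  let M := LinearMap.toMatrixAlgEquiv b H
  obtain ⟨β₁, hβ₁0, hβ₁, hβ₁'⟩ := exists_diag h4 h₁ hd₁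
  obtain ⟨β₂, hβ₂0, hβ₂, hβ₂'⟩ := exists_diag h4 h₂ hd₂
  have hM : ¬ ∃ c : K, M = c • 1 := by
    rintro ⟨c, hc⟩
    refine hH c ((LinearMap.toMatrixAlgEquiv b).injective ?_)
    rw [map_smul, map_one]
    exact hc
  obtain ⟨P, L, U, hP, hPA, hLd, hUd, hL, hU⟩ := GL.exists_similar_lower_mul_upper M (Or.inr hM)
    (Fin.addCases β₁ β₂) (fun _ => 1)
    (fun i => Fin.addCases (fun i => by simpa using hβ₁0 i) (fun i => by simpa using hβ₂0 i) i) (by simp)
    (by
      rw [show M.det = LinearMap.det H from LinearMap.det_toMatrix b H, hdet, Fin.prod_univ_add]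
      simp [hβ₁, hβ₂])
  let a : Fin m₁ → Fin (m₁ + m₂) := Fin.castAdd m₂
  let o : Fin m₂ → Fin (m₁ + m₂) := Fin.natAdd m₁
  have hL11 : ∀ i j, i < j → L.submatrix a a i j = 0 := fun i j h => hL _ _ (by simp only [a, Fin.lt_def, Fin.val_castAdd]; exact h)
  have hU11 : ∀ i j, j < i → U.submatrix a a i j = 0 := fun i j h => hU _ _ (by simp only [a, Fin.lt_def, Fin.val_castAdd]; exact h)
  have hL22 : ∀ i j, i < j → L.submatrix o o i j = 0 := fun i j h => hL _ _ (by simp only [o, Fin.lt_def, Fin.val_natAdd]; exact Nat.add_lt_add_left h _)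
  have hU22 : ∀ i j, j < i → U.submatrix o o i j = 0 := fun i j h => hU _ _ (by simp only [o, Fin.lt_def, Fin.val_natAdd]; exact Nat.add_lt_add_left h _)
  have hdet2 : ∀ (k : ℕ) (f : Fin k → Fin (m₁ + m₂)) (β : Fin k → K),
      (∀ i j, i < j → L.submatrix f f i j = 0) → (∀ i j, j < i → U.submatrix f f i j = 0) →
      (∀ i, L (f i) (f i) * U (f i) (f i) = β i) →
      LinearMap.det (Matrix.toLin' (L.submatrix f f) * Matrix.toLin' (U.submatrix f f)) = ∏ i, β i := by
    intro k f β h1 h2 h3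
    rw [map_mul, LinearMap.det_toLin', LinearMap.det_toLin',
      Matrix.det_of_isLowerTriangular _ (fun i j h => h1 i j h),
      Matrix.det_of_isUpperTriangular (fun i j h => h2 i j h), ← Finset.prod_mul_distrib]
    exact Finset.prod_congr rfl fun i _ => h3 i
  have e1 : ∀ i, L (a i) (a i) * U (a i) (a i) = β₁ i := fun i => by simp [hLd, hUd, a]
  have e2 : ∀ i, L (o i) (o i) * U (o i) (o i) = β₂ i := fun i => by simp [hLd, hUd, o]
  refine ⟨Matrix.toLin' (L.submatrix a a), Matrix.toLin' (U.submatrix a a), Matrix.toLin' (L.submatrix o o),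
    Matrix.toLin' (U.submatrix o o), Matrix.toLin' (L.submatrix o a), Matrix.toLin' (U.submatrix a o),
    ?_, ⟨?_, (hdet2 m₁ a β₁ hL11 hU11 e1).trans hβ₁⟩, ⟨?_, (hdet2 m₂ o β₂ hL22 hU22 e2).trans hβ₂⟩⟩
  swap
  · simpa [Matrix.toLin'_mul, Module.End.mul_eq_comp] using lu_nonscalar hL11 hU11 e1 hβ₁0 hβ₁'
  swap
  · simpa [Matrix.toLin'_mul, Module.End.mul_eq_comp] using lu_nonscalar hL22 hU22 e2 hβ₂0 hβ₂'
  -- the identification
  let sp : (Fin (m₁ + m₂) → K) ≃ₗ[K] (Fin m₁ → K) × (Fin m₂ → K) :=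
    { toFun := fun x => (x ∘ a, x ∘ o)
      invFun := fun z => Fin.addCases z.1 z.2
      map_add' := fun _ _ => rfl
      map_smul' := fun _ _ => rfl
      left_inv := fun x => funext fun i => Fin.addCases (fun i => by simp [a]) (fun i => by simp [o]) i
      right_inv := fun z => Prod.ext (funext fun i => by simp [a]) (funext fun i => by simp [o]) }
  have hspL : ∀ x, sp (L.mulVec x) = lower (Matrix.toLin' (L.submatrix a a)) (Matrix.toLin' (L.submatrix o a))
      (Matrix.toLin' (L.submatrix o o)) (sp x) := fun x => by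
    refine Prod.ext (funext fun i => ?_) (funext fun i => ?_)
    · show L.mulVec x (a i) = _
      simp [Matrix.mulVec, dotProduct, Fin.sum_univ_add, sp, a, o]
      exact Finset.sum_eq_zero fun j _ => by rw [hL _ _ (by simp [Fin.lt_def]; omega), zero_mul]
    · show L.mulVec x (o i) = _
      simp [Matrix.mulVec, dotProduct, Fin.sum_univ_add, sp, a, o]
  have hspU : ∀ x, sp (U.mulVec x) = upper (Matrix.toLin' (U.submatrix a a)) (Matrix.toLin' (U.submatrix a o))
      (Matrix.toLin' (U.submatrix o o)) (sp x) := fun x => by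
    refine Prod.ext (funext fun i => ?_) (funext fun i => ?_)
    · show U.mulVec x (a i) = _
      simp [Matrix.mulVec, dotProduct, Fin.sum_univ_add, sp, a, o]
    · show U.mulVec x (o i) = _
      simp [Matrix.mulVec, dotProduct, Fin.sum_univ_add, sp, a, o]
      exact Finset.sum_eq_zero fun j _ => by rw [hU _ _ (by simp [Fin.lt_def]; omega), zero_mul]
  obtain ⟨P', rfl⟩ := hP
  let eP : (Fin (m₁ + m₂) → K) ≃ₗ[K] (Fin (m₁ + m₂) → K) :=
    Matrix.toLin'OfInv (M := ↑(P'⁻¹)) (M' := (↑P' : Matrix _ _ K)) (by simp) (by simp)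
  refine ⟨sp.symm.trans (eP.trans b.equivFun.symm), fun z => ?_⟩
  obtain ⟨x, rfl⟩ := sp.surjective z
  rw [Module.End.mul_apply, ← hspU, ← hspL]
  apply b.equivFun.injective
  simp only [LinearEquiv.trans_apply, LinearEquiv.symm_apply_apply, LinearEquiv.apply_symm_apply]
  have hH' : ∀ y, b.equivFun (H (b.equivFun.symm y)) = M.mulVec y := fun y => by
    have := LinearMap.toMatrix_mulVec_repr b b H (b.equivFun.symm y)
    simp only [Basis.equivFun_apply] at this ⊢
    rw [← this]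
    congr 1
    exact b.equivFun.apply_symm_apply y
  rw [hH']
  have heP : ∀ y, eP y = (↑P' : Matrix _ _ K).mulVec y := fun y => Matrix.toLin'_apply _ _
  simp only [heP, Matrix.mulVec_mulVec]
  rw [hPA]

end Blocks

theorem Pairable.mul (h4 : 4 ≤ Fintype.card K) {p p' q q' : K[X]} (hp : Pairable p p') (hq : Pairable q q')
    (hc : IsCoprime p q) (hc' : IsCoprime p' q') : Pairable (p * q) (p' * q') := by
  obtain ⟨hpm, hpm', hpd, hp0, hp0', hP⟩ := hp
  obtain ⟨hqm, hqm', hqd, hq0, hq0', hQ⟩ := hq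
  rcases Nat.eq_zero_or_pos p.natDegree with h | h1
  · rw [(hpm.natDegree_eq_zero).1 h, (hpm'.natDegree_eq_zero).1 (hpd ▸ h), one_mul, one_mul]
    exact ⟨hqm, hqm', hqd, hq0, hq0', hQ⟩
  rcases Nat.eq_zero_or_pos q.natDegree with h | h2
  · rw [(hqm.natDegree_eq_zero).1 h, (hqm'.natDegree_eq_zero).1 (hqd ▸ h), mul_one, mul_one]
    exact ⟨hpm, hpm', hpd, hp0, hp0', hP⟩
  refine ⟨hpm.mul hqm, hpm'.mul hqm', ?_, ?_, ?_, fun V _ _ _ H hd hH hdet => ?_⟩
  · rw [hpm.natDegree_mul hqm, hpm'.natDegree_mul hqm', hpd, hqd]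
  · rw [mul_coeff_zero]; exact mul_ne_zero hp0 hq0
  · rw [mul_coeff_zero]; exact mul_ne_zero hp0' hq0'
  rw [hpm.natDegree_mul hqm] at hd hH
  rw [mul_coeff_zero, mul_coeff_zero] at hdet
  have hH' := hH.resolve_left (by omega)
  obtain ⟨A₁, A₂, B₁, B₂, C, E, ⟨e, he⟩, ⟨hAn, hAd⟩, hBn, hBd⟩ := exists_blocks
    (by rwa [Nat.card_eq_fintype_card]) H h1 h2 hd hH' (mul_ne_zero hp0 hp0') (mul_ne_zero hq0 hq0')
    (by rw [hdet]; ring)
  obtain ⟨X₁, Y₁, hXY₁, hX₁, hY₁⟩ := hP _ (A₁ * A₂) (by simp) hAn hAd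
  obtain ⟨X₂, Y₂, hXY₂, hX₂, hY₂⟩ := hQ _ (B₁ * B₂) (by simp) hBn hBd
  have hu : IsUnit (A₁ * A₂) := (LinearMap.isUnit_iff_isUnit_det _).2 (isUnit_iff_ne_zero.2 (hAd ▸ mul_ne_zero hp0 hp0'))
  rw [hXY₁] at hu
  have hX₁u : IsUnit X₁ := by
    rw [LinearMap.isUnit_iff_isUnit_det, map_mul] at hu
    exact (LinearMap.isUnit_iff_isUnit_det _).2 (isUnit_of_mul_isUnit_left hu)
  have hY₁u : IsUnit Y₁ := by
    rw [LinearMap.isUnit_iff_isUnit_det, map_mul] at hu
    exact (LinearMap.isUnit_iff_isUnit_det _).2 (isUnit_of_mul_isUnit_right hu)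
  obtain ⟨x₁, rfl⟩ := hX₁u
  obtain ⟨y₁, rfl⟩ := hY₁u
  let E' : (Fin q.natDegree → K) →ₗ[K] (Fin p.natDegree → K) := ((↑x₁⁻¹ : End K (Fin p.natDegree → K)) * A₁).comp E
  let C' : (Fin p.natDegree → K) →ₗ[K] (Fin q.natDegree → K) := C.comp (A₂ * (↑y₁⁻¹ : End K (Fin p.natDegree → K)))
  have key : lower A₁ C B₁ * upper A₂ E B₂ = lower ↑x₁ C' X₂ * upper ↑y₁ E' Y₂ := by
    refine LinearMap.ext fun ⟨u, w⟩ => ?_
    simp only [Module.End.mul_apply, upper_apply, lower_apply, Prod.mk.injEq, map_add]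
    have hA : ∀ v, A₁ (A₂ v) = (↑x₁ : End K (Fin p.natDegree → K)) ((↑y₁ : End K (Fin p.natDegree → K)) v) := fun v => LinearMap.congr_fun hXY₁ v
    have hB : B₁ (B₂ w) = X₂ (Y₂ w) := LinearMap.congr_fun hXY₂ w
    have hxi : ∀ v, (↑x₁ : End K (Fin p.natDegree → K)) ((↑x₁⁻¹ : End K (Fin p.natDegree → K)) v) = v := fun v => by
      rw [← Module.End.mul_apply, Units.mul_inv]; rfl
    have hyi : ∀ v, (↑y₁⁻¹ : End K (Fin p.natDegree → K)) ((↑y₁ : End K (Fin p.natDegree → K)) v) = v := fun v => by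
      rw [← Module.End.mul_apply, Units.inv_mul]; rfl
    refine ⟨?_, ?_⟩
    · simp [E', hA, hxi]
    · have hkey : ∀ v, A₂ ((↑y₁⁻¹ : End K (Fin p.natDegree → K)) ((↑x₁⁻¹ : End K (Fin p.natDegree → K)) (A₁ v))) = v := by
        intro v
        have hA1 : Function.Injective A₁ := by
          apply LinearMap.ker_eq_bot.1
          by_contra hk
          exact (mul_ne_zero hp0 hp0') (by
            rw [← hAd, map_mul, LinearMap.det_eq_zero_iff_ker_ne_bot.2 hk, zero_mul])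
        apply hA1
        rw [hA]
        simp [← Module.End.mul_apply]
      simp [C', E', hyi, hkey, hB, add_assoc]
  refine ⟨e.conj (lower ↑x₁ C' X₂), e.conj (upper ↑y₁ E' Y₂), ?_,
    (hX₁.lower hX₂ hc C').of_sim (sim_conj e _), (hY₁.upper hY₂ hc' E').of_sim (sim_conj e _)⟩
  refine LinearMap.ext fun x => ?_
  rw [Module.End.mul_apply, LinearEquiv.conj_apply_apply, LinearEquiv.conj_apply_apply, e.symm_apply_apply,
    ← Module.End.mul_apply, ← key, he, e.apply_symm_apply]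

end Cfsg.Agent.LevCover
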