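import Cfsg.Agent.Lib.LevCover.Small

/-!
Scalar endomorphisms as products of conjugates: full determinants from a split eigenvector, and dimension three.
-/

set_option autoImplicit false

namespace Cfsg.Agent.LevCover

open Module

universe u

variable {K : Type u} [Field K] {V : Type u} [AddCommGroup V] [Module K V]

/-- Some scalar is a product of `k` conjugates. -/
def ScalarProd (A : End K V) (k : ℕ) : Prop :=
  ∃ (L : List (End K V)) (ζ : K), L.length = k ∧ (∀ x ∈ L, SConj A x) ∧ L.prod = ζ • 1

theorem SConj.refl (A : End K V) : SConj A A :=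
  ⟨LinearEquiv.refl K V, by simp, LinearMap.ext fun z => by simp [LinearEquiv.conj_apply_apply]⟩

theorem SConj.smul {A x : End K V} (h : SConj A x) (c : K) : SConj (c • A) (c • x) := by
  obtain ⟨e, he, rfl⟩ := h
  exact ⟨e, he, by rw [map_smul]⟩

theorem prod_map_smul (c : K) : ∀ L : List (End K V), (L.map (c • ·)).prod = c ^ L.length • L.prod
  | [] => by simp
  | x :: L => by
    rw [List.map_cons, List.prod_cons, prod_map_smul c L, List.prod_cons, List.length_cons, smul_mul_smul_comm,
      pow_succ']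

theorem ScalarProd.smul {A : End K V} {k : ℕ} (h : ScalarProd A k) (c : K) : ScalarProd (c • A) k := by
  obtain ⟨L, ζ, hL, hLc, hLp⟩ := h
  refine ⟨L.map (c • ·), c ^ k * ζ, by simp [hL], ?_, by rw [prod_map_smul, hL, hLp, smul_smul]⟩
  intro y hy
  obtain ⟨x, hx, rfl⟩ := List.mem_map.1 hy
  exact (hLc x hx).smul c

/-- A split eigenvector gives full determinants. -/
theorem fullDet_of_split [FiniteDimensional K V] {A : End K V} {lam : K} {v : V} {φ : Dual K V}
    (hv : A v = lam • v) (hφ : φ v = 1) (hA : ∀ z, φ (A z) = lam * φ z) : FullDet A := by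
  intro d hd
  have hu : IsUnit (1 + ((d - 1) • φ) v) := isUnit_iff_ne_zero.2 (by simpa [hφ] using hd)
  refine ⟨LinearEquiv.dilatransvection (f := (d - 1) • φ) (v := v) hu, ?_, ?_⟩
  · rw [LinearEquiv.dilatransvection.coe_toLinearMap, LinearMap.transvection.det]
    simp [hφ]
  · refine LinearMap.ext fun z => ?_
    obtain ⟨y, rfl⟩ := (LinearEquiv.dilatransvection (f := (d - 1) • φ) (v := v) hu).surjective z
    rw [LinearEquiv.conj_apply_apply, LinearEquiv.symm_apply_apply]
    simp [LinearEquiv.dilatransvection.apply, hA, hv]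
    match_scalars <;> ring

variable [FiniteDimensional K V]

/-- The triple of unipotents. -/
theorem three_unipotent (hd : finrank K V = 3) {N : End K V} (hN : N * N * N = 0) {v : V}
    (hv : LinearIndependent K ![v, N v, N (N v)]) {t : K} (ht0 : t ≠ 0) (ht1 : t ≠ -1) :
    ScalarProd (1 + N) 3 := by
  have hN3 : ∀ z, N (N (N z)) = 0 := fun z => LinearMap.congr_fun hN z
  let B := basisOfLinearIndependentOfCardEqFinrank hv (by simp [hd])
  have hB : ⇑B = ![v, N v, N (N v)] := coe_basisOfLinearIndependentOfCardEqFinrank _ _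
  have key : ∀ a d : K, a ≠ 0 → SConj (1 + N) (1 + a • N + d • (N * N)) := by
    intro a d ha
    obtain ⟨M, hM⟩ : ∃ M, M = a • N + d • (N * N) := ⟨_, rfl⟩
    let E : End K V := B.constr K ![a⁻¹ • v, M (a⁻¹ • v), M (M (a⁻¹ • v))]
    have hE0 : E v = a⁻¹ • v := by
      have := B.constr_basis K ![a⁻¹ • v, M (a⁻¹ • v), M (M (a⁻¹ • v))] 0
      rw [hB] at this
      simpa [E] using this
    have hE1 : E (N v) = M (a⁻¹ • v) := by
      have := B.constr_basis K ![a⁻¹ • v, M (a⁻¹ • v), M (M (a⁻¹ • v))] 1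
      rw [hB] at this
      simpa [E] using this
    have hE2 : E (N (N v)) = M (M (a⁻¹ • v)) := by
      have := B.constr_basis K ![a⁻¹ • v, M (a⁻¹ • v), M (M (a⁻¹ • v))] 2
      rw [hB] at this
      simpa [E] using this
    have c0 : E v = a⁻¹ • B 0 := by rw [hE0, hB]; simp
    have c1 : E (N v) = (1 : K) • B 1 + (d * a⁻¹) • B 2 := by
      rw [hE1, hB]
      simp [hM, smul_smul, ha, mul_comm]
    have c2 : E (N (N v)) = a • B 2 := by
      rw [hE2, hB]
      simp [hM, smul_smul, hN3, ha]
    have hdetE : LinearMap.det E = 1 := by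
      rw [← LinearMap.det_toMatrix B, Matrix.det_fin_three]
      have h0 : E (B 0) = a⁻¹ • B 0 := by rw [← c0, hB]; rfl
      have h1 : E (B 1) = (1 : K) • B 1 + (d * a⁻¹) • B 2 := by rw [← c1, hB]; rfl
      have h2 : E (B 2) = a • B 2 := by rw [← c2, hB]; rfl
      simp [LinearMap.toMatrix_apply, h0, h1, h2, Finsupp.single_apply, ha]
    obtain ⟨e, he⟩ := exists_equiv_of_det (A := E) (by rw [hdetE]; exact one_ne_zero)
    refine ⟨e, by rw [he, hdetE], ?_⟩
    have hcomm : E * N = M * E := by
      refine B.ext fun i => ?_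
      rw [hB]
      fin_cases i
      · simp [Module.End.mul_apply, hE0, hE1]
      · simp [Module.End.mul_apply, hE1, hE2]
      · simp [Module.End.mul_apply, hN3, hE2]
        simp [hM, hN3, smul_smul]
    refine LinearMap.ext fun z => ?_
    obtain ⟨y, rfl⟩ := e.surjective z
    have hey : ∀ x, e x = E x := fun x => LinearMap.congr_fun he x
    rw [LinearEquiv.conj_apply_apply, e.symm_apply_apply, hey, hey, add_assoc, ← hM]
    have := LinearMap.congr_fun hcomm y
    simp only [Module.End.mul_apply] at this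
    simp [this]
  obtain ⟨c, hc⟩ : ∃ c, c = -1 - t := ⟨_, rfl⟩
  have hc0 : c ≠ 0 := fun h => ht1 (by linear_combination -hc.symm.trans h)
  refine ⟨[1 + N, 1 + t • N + (0 : K) • (N * N), 1 + c • N + (-(t + c * (1 + t))) • (N * N)], 1, rfl, ?_, ?_⟩
  · intro y hy
    simp at hy
    rcases hy with rfl | rfl | rfl
    · exact SConj.refl _
    · simpa using key t 0 ht0
    · simpa using key c (-(t + c * (1 + t))) hc0
  · refine LinearMap.ext fun z => ?_
    simp [hN3, smul_smul, hc]
    match_scalars <;> ring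

variable [Fintype K]

/-- Three conjugates with product a scalar, in dimension three. -/
theorem scalarProd_three (h4 : 4 ≤ Fintype.card K) (hd : finrank K V = 3) {A : End K V} (hA : Gen A)
    (hdA : LinearMap.det A = 1) : ScalarProd A 3 := by
  classical
  have hdA0 : LinearMap.det A ≠ 0 := hdA ▸ one_ne_zero
  obtain ⟨v, hv⟩ := exists_cyclic_three h4 hd hA hdA0
  by_cases hfree : Free A
  · obtain ⟨g, hg, hAg⟩ := cycTy_three_free hd hfree hv
    have hfull : FullDet A := (fullDet_rootMul_irr hg hAg.monic).of_sim hAg.sim_rootMul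
    obtain ⟨a, b, c, ha, hb, hc, habc⟩ := three_one hd hg hAg hdA
    exact ⟨[a, b, c], 1, rfl, by simp [hfull.sconj ha, hfull.sconj hb, hfull.sconj hc], by
      simp only [List.prod_cons, List.prod_nil, mul_one, one_smul, ← mul_assoc, habc]⟩
  obtain ⟨β, γ, hrel⟩ : ∃ β γ : K, A (A (A v)) = (1 : K) • v + β • A v + γ • A (A v) := by
    have hspan := hv.span_eq_top_of_card_eq_finrank' (by simp [hd])
    obtain ⟨c, hc⟩ := (Submodule.mem_span_range_iff_exists_fun K).1 (hspan ▸ Submodule.mem_top (x := A (A (A v))))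
    rw [Fin.sum_univ_three] at hc
    have hc' : A (A (A v)) = c 0 • v + c 1 • A v + c 2 • A (A v) := by rw [← hc]; simp
    exact ⟨c 1, c 2, by rw [← (det_three hd hv hc').symm.trans hdA]; exact hc'⟩
  let B := basisOfLinearIndependentOfCardEqFinrank hv (by simp [hd])
  have hB : ⇑B = ![v, A v, A (A v)] := coe_basisOfLinearIndependentOfCardEqFinrank _ _
  -- a root
  obtain ⟨l₀, hl₀⟩ : ∃ l : K, l ^ 3 = 1 + β * l + γ * l ^ 2 := by
    simp only [Free, not_forall] at hfree
    obtain ⟨z, l, hz, hz0⟩ := hfree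
    refine ⟨l, ?_⟩
    obtain ⟨c, rfl⟩ : ∃ c : Fin 3 → K, c 0 • v + c 1 • A v + c 2 • A (A v) = z :=
      ⟨fun i => B.repr z i, by
        have := B.sum_repr z
        rw [Fin.sum_univ_three, hB] at this
        simpa using this⟩
    rw [map_add, map_add, map_smul, map_smul, map_smul, hrel] at hz
    have h := Fintype.linearIndependent_iff.1 hv ![c 2 - l * c 0, c 0 + c 2 * β - l * c 1, c 1 + c 2 * γ - l * c 2]
      (by
        simp [Fin.sum_univ_three]
        rw [← sub_eq_zero.2 hz]
        match_scalars <;> ring)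
    have e0 : c 2 - l * c 0 = 0 := by simpa using h 0
    have e1 : c 0 + c 2 * β - l * c 1 = 0 := by simpa using h 1
    have e2 : c 1 + c 2 * γ - l * c 2 = 0 := by simpa using h 2
    by_contra hne
    have hc2 : c 2 = 0 := by
      by_contra hc2
      exact hne (mul_left_cancel₀ hc2 (by linear_combination -e0 - l * e1 - l ^ 2 * e2))
    have hc1 : c 1 = 0 := by rw [hc2] at e2; linear_combination e2
    have hc0 : c 0 = 0 := by rw [hc2, hc1] at e1; linear_combination e1
    exact hz0 (by simp [hc0, hc1, hc2])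
  have hne0 : ∀ l : K, l ^ 3 = 1 + β * l + γ * l ^ 2 → l ≠ 0 := by
    rintro l h rfl
    simp at h
  -- a simple root, or a triple one
  rcases (show (∃ l : K, l ^ 3 = 1 + β * l + γ * l ^ 2 ∧ l ^ 2 + β + 2 / l ≠ 0) ∨
      ∃ l : K, l ^ 3 = 1 ∧ β = -3 * l ^ 2 ∧ γ = 3 * l from by
    by_cases h : l₀ ^ 2 + β + 2 / l₀ = 0
    · have hl := hne0 l₀ hl₀
      obtain ⟨r, hr⟩ : ∃ r, r = (l₀ ^ 2)⁻¹ := ⟨_, rfl⟩
      have hb : β = -l₀ ^ 2 - 2 / l₀ := by linear_combination h
      have hg : γ = 2 * l₀ + (l₀ ^ 2)⁻¹ := by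
        apply mul_right_cancel₀ (pow_ne_zero 2 hl)
        rw [hb] at hl₀
        field_simp at hl₀ ⊢
        linear_combination -hl₀
      by_cases hrl : r = l₀
      · have h3 : l₀ ^ 3 = 1 := by
          rw [hr] at hrl
          field_simp at hrl
          linear_combination -hrl
        refine Or.inr ⟨l₀, h3, ?_, ?_⟩
        · rw [hb]; field_simp; linear_combination 2 * h3
        · rw [hg]; field_simp; linear_combination -h3
      · refine Or.inl ⟨r, ?_, fun h0 => hrl ?_⟩
        · rw [hr, hb, hg]; field_simp; ring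
        · have h5 : (r - l₀) ^ 2 = 0 := by
            rw [← h0, hr, hb]; field_simp; ring
          exact sub_eq_zero.1 (pow_eq_zero_iff (by norm_num) |>.1 h5)
    · exact Or.inl ⟨l₀, hl₀, h⟩) with ⟨l, hl, hsimple⟩ | ⟨l, hl, hb, hg⟩
  swap
  · -- unipotent up to a scalar
    have hl0 : l ≠ 0 := fun h => by simp [h] at hl
    let N : End K V := l⁻¹ • A - 1
    have hA' : A = l • (1 + N) := by simp [N, smul_smul, hl0]
    have hNv : N (N (N v)) = 0 := by
      simp only [N, LinearMap.sub_apply, LinearMap.smul_apply, Module.End.one_apply, map_sub, map_smul, hrel, hb, hg]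
      match_scalars <;> field_simp <;> first | ring1 | linear_combination (-hl) | linear_combination hl
    have hN : N * N * N = 0 := by
      refine B.ext fun i => ?_
      have hc : ∀ z, N (A z) = A (N z) := fun z => by simp [N]
      rw [hB]
      fin_cases i <;> simp [Module.End.mul_apply, hc, hNv]
    have hvN : LinearIndependent K ![v, N v, N (N v)] := by
      rw [Fintype.linearIndependent_iff] at hv ⊢
      intro c hc
      simp [Fin.sum_univ_three, N] at hc
      have h := hv ![c 0 - c 1 + c 2, l⁻¹ * c 1 - 2 * l⁻¹ * c 2, l⁻¹ * l⁻¹ * c 2] (by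
        simp [Fin.sum_univ_three]
        rw [← hc]
        match_scalars <;> ring)
      have e2 : c 2 = 0 := by simpa [hl0] using h 2
      have e1 : c 1 = 0 := by simpa [hl0, e2] using h 1
      have e0 : c 0 = 0 := by simpa [e1, e2] using h 0
      intro i
      fin_cases i <;> assumption
    obtain ⟨t, ht⟩ := exists_notMem_card ({0, -1} : Finset K) (by
      have := Finset.card_le_two (a := (0 : K)) (b := -1)
      omega)
    simp only [Finset.mem_insert, Finset.mem_singleton, not_or] at ht
    rw [hA']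
    exact (three_unipotent hd hN hvN ht.1 ht.2).smul l
  have hl0 := hne0 l hl
  have hγ : γ = l - β / l - (l ^ 2)⁻¹ := by
    field_simp
    linear_combination -hl
  -- full determinants
  let φ : Dual K V := B.constr K ![1, l, l ^ 2]
  have hφ : ∀ i, φ (![v, A v, A (A v)] i) = ![1, l, l ^ 2] i := fun i => by rw [← hB]; exact B.constr_basis K _ i
  have φ0 : φ v = 1 := hφ 0
  have φ1 : φ (A v) = l := hφ 1
  have φ2 : φ (A (A v)) = l ^ 2 := hφ 2
  obtain ⟨q, hq⟩ : ∃ q, q = A (A v) + (l - γ) • A v + l⁻¹ • v := ⟨_, rfl⟩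
  have hφq : φ q ≠ 0 := by
    rw [hq, map_add, map_add, map_smul, map_smul, φ0, φ1, φ2]
    simp only [smul_eq_mul]
    convert hsimple using 1
    rw [hγ]; field_simp; ring
  have hφA : ∀ z, φ (A z) = l * φ z := by
    intro z
    have : φ.comp A = l • φ := by
      refine B.ext fun i => ?_
      rw [hB]
      fin_cases i
      · simp [φ0, φ1]
      · simp [φ1, φ2, pow_two]
      · simp [hrel, φ0, φ1, φ2]
        linear_combination -hl
    exact LinearMap.congr_fun this z
  have hfull : FullDet A := fullDet_of_split (lam := l) (v := q) (φ := (φ q)⁻¹ • φ) (by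
      rw [hq, map_add, map_add, map_smul, map_smul, hrel]
      match_scalars <;> (try simp only [hγ]) <;> field_simp <;> ring)
    (by simp [hφq]) (fun z => by simp [hφA]; ring)
  -- the second factor
  obtain ⟨T, hT⟩ : ∃ T, T = -β - l⁻¹ := ⟨_, rfl⟩
  obtain ⟨k, hk⟩ : ∃ k, k = T - l - 1 - β := ⟨_, rfl⟩
  obtain ⟨p, hp⟩ : ∃ p, p = γ - k := ⟨_, rfl⟩
  obtain ⟨f, hf⟩ : ∃ f, f = v + p • A v + A (A v) := ⟨_, rfl⟩
  let y : End K V := B.constr K ![l • A (A v) + (β - l⁻¹) • A v + k • f, f, l⁻¹ • A v]
  have hy : ∀ i, y (![v, A v, A (A v)] i) = ![l • A (A v) + (β - l⁻¹) • A v + k • f, f, l⁻¹ • A v] i :=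
    fun i => by rw [← hB]; exact B.constr_basis K _ i
  have y0 : y v = l • A (A v) + (β - l⁻¹) • A v + k • f := hy 0
  have y1 : y (A v) = f := hy 1
  have y2 : y (A (A v)) = l⁻¹ • A v := hy 2
  have hv' := Fintype.linearIndependent_iff.1 hv
  have hyA : Sim A y := by
    refine intertwine_three hd (v := v) (w := A (A v)) hv ?_ hrel ?_
    · rw [Fintype.linearIndependent_iff]
      intro c hc
      simp [Fin.sum_univ_three, y2, y1, hf] at hc
      have h := hv' ![c 2 * l⁻¹, c 1 * l⁻¹ + c 2 * l⁻¹ * p, c 0 + c 2 * l⁻¹] (by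
        simp [Fin.sum_univ_three]
        rw [← hc]
        match_scalars <;> ring)
      have e2 : c 2 = 0 := by simpa [hl0] using h 0
      have e1 : c 1 = 0 := by simpa [hl0, e2] using h 1
      have e0 : c 0 = 0 := by simpa [e2] using h 2
      intro i
      fin_cases i <;> assumption
    · simp only [y2, map_smul, y1]
      rw [hf, map_add, map_add, map_smul, y0, y1, y2, hf]
      match_scalars <;> rw [hp] <;> field_simp <;> ring
  obtain ⟨z, hz⟩ : ∃ z, z = A * y := ⟨_, rfl⟩
  obtain ⟨c₁, hc₁⟩ : ∃ c₁, c₁ = p + γ := ⟨_, rfl⟩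
  have z1 : z (A v) = v + (1 + β) • A v + c₁ • A (A v) := by
    rw [hz, Module.End.mul_apply, y1, hf, map_add, map_add, map_smul, hrel, hc₁]
    match_scalars <;> ring
  have z2 : z (A (A v)) = l⁻¹ • A (A v) := by rw [hz, Module.End.mul_apply, y2, map_smul]
  have z0 : z v = (l + k) • v + (l * β + k * (1 + β)) • A v + (l * γ + β - l⁻¹ + k * c₁) • A (A v) := by
    rw [hz, Module.End.mul_apply, y0, map_add, map_add, map_smul, map_smul, map_smul, hrel]
    rw [hf, map_add, map_add, map_smul, hrel, hc₁]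
    match_scalars <;> ring
  obtain ⟨d, hd'⟩ : ∃ d, d * (l - T / l + (l ^ 2)⁻¹) +
      (-T * c₁ + (l * γ + β - l⁻¹ + k * c₁) + (1 + β) * c₁ + c₁ / l) = 1 := by
    have hne : l - T / l + (l ^ 2)⁻¹ ≠ 0 := fun h => hsimple (by
      rw [hT] at h
      field_simp at h ⊢
      linear_combination h)
    exact ⟨(1 - (-T * c₁ + (l * γ + β - l⁻¹ + k * c₁) + (1 + β) * c₁ + c₁ / l)) / (l - T / l + (l ^ 2)⁻¹), by
      rw [div_mul_cancel₀ _ hne]; ring⟩
  obtain ⟨w, hw⟩ : ∃ w, w = A v + d • A (A v) := ⟨_, rfl⟩
  have w1 : z w = v + (1 + β) • A v + (c₁ + d / l) • A (A v) := by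
    rw [hw, map_add, map_smul, z1, z2]
    match_scalars <;> ring
  have w2 : z (z w) = T • v + (l * β + k * (1 + β) + (1 + β) ^ 2) • A v +
      (l * γ + β - l⁻¹ + k * c₁ + (1 + β) * c₁ + (c₁ + d / l) / l) • A (A v) := by
    rw [w1, map_add, map_add, map_smul, map_smul, z0, z1, z2]
    match_scalars <;> first | ring1 | (rw [hk]; ring)
  obtain ⟨Ae, hAe⟩ := exists_equiv_of_det (A := A) hdA0
  have hAa : ∀ x, A x = Ae x := fun x => (LinearMap.congr_fun hAe x).symm
  have hzinv : Sim (Ae.symm : End K V) z := by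
    refine intertwine_three hd (v := A (A v)) (w := w) (a := 1) (b := -γ) (c := -β) ?_ ?_ ?_ ?_
    · simp only [LinearEquiv.coe_coe, hAa, LinearEquiv.symm_apply_apply]
      simp only [hAa] at hv
      have := LinearIndependent.comp hv Fin.rev Fin.rev_injective
      convert this using 1
      ext i
      fin_cases i <;> rfl
    · rw [Fintype.linearIndependent_iff]
      intro c hc
      rw [Fin.sum_univ_three] at hc
      simp only [Matrix.cons_val_zero, Matrix.cons_val_one, Matrix.cons_val] at hc
      rw [w2, w1, hw] at hc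
      have h := hv' ![c 1 + c 2 * T, c 0 + c 1 * (1 + β) + c 2 * (l * β + k * (1 + β) + (1 + β) ^ 2),
        c 0 * d + c 1 * (c₁ + d / l) +
          c 2 * (l * γ + β - l⁻¹ + k * c₁ + (1 + β) * c₁ + (c₁ + d / l) / l)] (by
        simp [Fin.sum_univ_three]
        rw [← hc]
        match_scalars <;> ring)
      have e0 : c 1 = -c 2 * T := by
        have : c 1 + c 2 * T = 0 := by simpa using h 0
        linear_combination this
      have e1 : c 0 = c 2 * l := by
        have : c 0 + c 1 * (1 + β) + c 2 * (l * β + k * (1 + β) + (1 + β) ^ 2) = 0 := by simpa using h 1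
        rw [e0, hk] at this
        linear_combination this
      have e2 : c 2 = 0 := by
        have : c 0 * d + c 1 * (c₁ + d / l) +
            c 2 * (l * γ + β - l⁻¹ + k * c₁ + (1 + β) * c₁ + (c₁ + d / l) / l) = 0 := by simpa using h 2
        rw [e0, e1] at this
        rw [← mul_one (c 2), ← hd', ← this]
        field_simp
        ring
      intro i
      fin_cases i
      · simpa [e2] using e1
      · simpa [e2] using e0
      · exact e2
    · simp only [LinearEquiv.coe_coe, hAa, LinearEquiv.symm_apply_apply]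
      apply Ae.injective
      simp only [map_add, map_smul, LinearEquiv.apply_symm_apply]
      simp only [hAa] at hrel
      rw [hrel]
      match_scalars <;> ring
    · rw [w2, map_add, map_add, map_smul, map_smul, map_smul, z0, z1, z2, w1, hw]
      match_scalars <;> (simp only [hk, hc₁, hp, hT, hγ]; field_simp; ring)
  obtain ⟨e, he⟩ := hzinv
  refine ⟨[A, y, e.conj A], 1, rfl, ?_, ?_⟩
  · intro x hx
    simp at hx
    rcases hx with rfl | rfl | rfl
    exacts [SConj.refl _, hfull.sconj hyA, hfull.sconj (sim_conj e A)]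
  · refine LinearMap.ext fun x => ?_
    simp only [List.prod_cons, List.prod_nil, mul_one, one_smul, Module.End.one_apply]
    rw [← mul_assoc, ← hz, Module.End.mul_apply, LinearEquiv.conj_apply_apply, ← he]
    simp [hAa]

end Cfsg.Agent.LevCover
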