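import Cfsg.Agent.Lib.LevCover.Main
import Cfsg.Agent.Lib.LevCover.Scalar

/-!
A scalar target when the endomorphism has an eigenspace of dimension at least two: two conjugates are scalar
on a plane, all the others fix that plane.
-/

set_option autoImplicit false

namespace Cfsg.Agent.LevCover

open Module Cfsg.Agent.GL.TwoReg

universe u

variable {K : Type u} [Field K] {V : Type u} [AddCommGroup V] [Module K V]
  {U W : Type u} [AddCommGroup U] [Module K U] [AddCommGroup W] [Module K W]

theorem exists_factor {X Y : Type u} [AddCommGroup X] [Module K X] [AddCommGroup Y] [Module K Y] (f : X →ₗ[K] Y)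
    (g : X →ₗ[K] U) (h : LinearMap.ker f ≤ LinearMap.ker g) : ∃ s : Y →ₗ[K] U, ∀ x, s (f x) = g x := by
  obtain ⟨s, hs⟩ := LinearMap.exists_extend
    (((LinearMap.ker f).liftQ g h).comp (f.quotKerEquivRange.symm : LinearMap.range f →ₗ[K] X ⧸ LinearMap.ker f))
  refine ⟨s, fun x => ?_⟩
  have h1 := LinearMap.congr_fun hs ⟨f x, LinearMap.mem_range_self f x⟩
  simpa [LinearMap.quotKerEquivRange_symm_apply_image] using h1

variable [FiniteDimensional K U] [FiniteDimensional K W]

theorem det_upper_scalar (a : K) (R : W →ₗ[K] U) (f : End K W) :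
    LinearMap.det (upper (a • 1 : End K U) R f) = a ^ finrank K U * LinearMap.det f := by
  rw [det_upper, LinearMap.det_smul, map_one, mul_one]

/-- The rows reachable above a list of conjugates, over a scalar block of any size. -/
theorem avail_block (hU : 0 < finrank K U) {lam : K} (hlam : lam ≠ 0) (A₀ : End K W) (r₀ : W →ₗ[K] U) :
    ∀ L : List (End K W), (∀ x ∈ L, Sim A₀ x) → ∃ R₀ : W →ₗ[K] U, ∀ D : W →ₗ[K] U,
      (∀ z, (∀ x ∈ L, x z = lam • z) → D z = 0) →
      ∃ M : List (End K (U × W)), M.length = L.length ∧ (∀ y ∈ M, SConj (upper (lam • 1 : End K U) r₀ A₀) y) ∧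
        M.prod = upper (lam ^ L.length • 1 : End K U) (R₀ + D) L.prod := by
  intro L
  induction L with
  | nil =>
    refine fun _ => ⟨0, fun D hD => ⟨[], rfl, by simp, ?_⟩⟩
    have hD0 : D = 0 := LinearMap.ext fun z => hD z (by simp)
    refine LinearMap.ext fun ⟨c, y⟩ => ?_
    simp [hD0]
  | cons x L ih =>
    intro hx
    obtain ⟨R₀, hR₀⟩ := ih fun y hy => hx y (List.mem_cons_of_mem _ hy)
    obtain ⟨P, rfl⟩ := Sim.iff_conj.1 (hx x List.mem_cons_self)
    obtain ⟨Q, hQ, -⟩ := exists_equiv (V := U) (v := (![] : Fin 0 → U)) (w := ![]) linearIndependent_empty_type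
      linearIndependent_empty_type hU (inv_ne_zero (det_equiv_ne_zero P))
    refine ⟨lam • R₀ + ((Q : U →ₗ[K] U).comp (r₀.comp (P.symm : W →ₗ[K] W))).comp L.prod, fun D hD => ?_⟩
    let m := L.length
    let Z : Submodule K W :=
      { carrier := {z | ∀ y ∈ L, y z = lam • z}
        add_mem' := fun {a b} ha hb y hy => by rw [map_add, ha y hy, hb y hy, smul_add]
        zero_mem' := fun y _ => by simp
        smul_mem' := fun c a ha y hy => by rw [map_smul, ha y hy, smul_comm] }
    obtain ⟨s, hs⟩ := exists_factor ((lam ^ m • (P.conj A₀ - lam • 1)).comp Z.subtype) (D.comp Z.subtype) fun z hz => by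
      refine LinearMap.mem_ker.2 (hD z.1 fun y hy => ?_)
      rcases List.mem_cons.1 hy with rfl | hy
      · have h' : lam ^ m • ((P.conj A₀ - lam • 1) z.1) = 0 := hz
        rw [smul_eq_zero] at h'
        have h'' := h'.resolve_left (pow_ne_zero _ hlam)
        simpa [sub_eq_zero] using h''
      · exact z.2 y hy
    let D₁ : W →ₗ[K] U := lam⁻¹ • (D - (s.comp (P.conj A₀ - lam • 1)).comp L.prod)
    obtain ⟨M, hM, hMc, hMp⟩ := hR₀ D₁ fun z hz => by
      have h1 := hs ⟨z, hz⟩
      simp only [LinearMap.comp_apply, Submodule.coe_subtype, LinearMap.smul_apply] at h1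
      simp only [D₁, LinearMap.smul_apply, LinearMap.sub_apply, LinearMap.comp_apply, prod_common lam L z hz,
        map_smul]
      rw [← h1]
      simp [map_smul, m, LinearMap.sub_apply]
    -- the first conjugate
    obtain ⟨T, hT⟩ := exists_equiv_of_det (A := upper (Q : U →ₗ[K] U) (s.comp (P : W →ₗ[K] W)) (P : W →ₗ[K] W))
      (by rw [det_upper]; exact mul_ne_zero (det_equiv_ne_zero Q) (det_equiv_ne_zero P))
    have hTd : LinearMap.det (T : (U × W) →ₗ[K] U × W) = 1 := by
      rw [hT, det_upper, hQ, inv_mul_cancel₀ (det_equiv_ne_zero P)]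
    have hTa : ∀ c y, T (c, y) = (Q c + s (P y), P y) := fun c y => by
      rw [show T (c, y) = (T : (U × W) →ₗ[K] U × W) (c, y) from rfl, hT]
      simp
    have hy : T.conj (upper (lam • 1 : End K U) r₀ A₀) = upper (lam • 1 : End K U)
        ((Q : U →ₗ[K] U).comp (r₀.comp (P.symm : W →ₗ[K] W)) + s.comp (P.conj A₀ - lam • 1)) (P.conj A₀) := by
      refine LinearMap.ext fun z => ?_
      obtain ⟨⟨c, y⟩, rfl⟩ := T.surjective z
      rw [LinearEquiv.conj_apply_apply, T.symm_apply_apply, hTa, upper_apply, hTa, upper_apply]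
      simp [LinearEquiv.conj_apply_apply, map_add, map_sub, map_smul, smul_add]
      abel
    refine ⟨T.conj (upper (lam • 1 : End K U) r₀ A₀) :: M, by simp [hM], fun y hy' => ?_, ?_⟩
    · rcases List.mem_cons.1 hy' with rfl | hy'
      · exact ⟨T, hTd, rfl⟩
      · exact hMc y hy'
    · rw [List.prod_cons, hMp, hy, upper_mul, List.prod_cons, List.length_cons]
      refine LinearMap.ext fun ⟨c, y⟩ => ?_
      simp [D₁, pow_succ', smul_smul, hlam, map_add, map_sub, map_smul, smul_add, smul_sub]
      rw [mul_comm lam]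
      abel

omit [FiniteDimensional K U] [FiniteDimensional K W] in
theorem exists_block_form (e : (U × W) ≃ₗ[K] V) {f : End K V} {μ : K}
    (hf : ∀ x : U, f (e (x, 0)) = μ • e (x, 0)) :
    ∃ (R : W →ₗ[K] U) (f' : End K W), f = e.conj (upper (μ • 1 : End K U) R f') := by
  let f₀ : End K (U × W) := e.symm.conj f
  refine ⟨(LinearMap.fst K U W).comp (f₀.comp (LinearMap.inr K U W)),
    (LinearMap.snd K U W).comp (f₀.comp (LinearMap.inr K U W)), LinearMap.ext fun z => ?_⟩
  obtain ⟨⟨c, y⟩, rfl⟩ := e.surjective z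
  rw [LinearEquiv.conj_apply_apply, e.symm_apply_apply, upper_apply]
  apply e.symm.injective
  rw [e.symm_apply_apply, show ((c, y) : U × W) = (c, 0) + (0, y) by simp, map_add, map_add, map_add, hf,
    map_smul, e.symm_apply_apply]
  refine Prod.ext ?_ ?_ <;> simp [f₀, LinearEquiv.conj_apply_apply]

variable [FiniteDimensional K V]

/-- Coordinates with given first vectors. -/
theorem exists_coords_two {f : Fin 2 → V} (hf : LinearIndependent K f) {m : ℕ} (hm : finrank K V = 2 + m) :
    ∃ e : ((Fin 2 → K) × (Fin m → K)) ≃ₗ[K] V, ∀ x, e (x, 0) = x 0 • f 0 + x 1 • f 1 := by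
  obtain ⟨C, hC⟩ := Submodule.exists_isCompl (Submodule.span K (Set.range f))
  have hCd : finrank K C = m := by
    have := Submodule.finrank_add_eq_of_isCompl hC
    rw [finrank_span_eq_card hf, hm] at this
    simp at this
    omega
  refine ⟨(((Basis.span hf).equivFun.symm).prodCongr
    (LinearEquiv.ofFinrankEq _ _ (by rw [hCd]; simp))).trans (Submodule.prodEquivOfIsCompl _ _ hC), fun x => ?_⟩
  simp [Submodule.coe_prodEquivOfIsCompl', Basis.equivFun_symm_apply, Fin.sum_univ_two, Basis.span_apply]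

variable [Fintype K]

/-- A scalar is a product of conjugates when there is a plane of eigenvectors with generic quotient. -/
theorem scalarProd_plane (h4 : 4 ≤ Fintype.card K) {n : ℕ} (hd : finrank K V = n) (hn : 5 ≤ n) {A : End K V}
    (hdA : LinearMap.det A = 1) {lam : K} {f : Fin 2 → V} (hf : LinearIndependent K f)
    (hAf : ∀ i, A (f i) = lam • f i)
    (hother : ∀ κ : K, κ ≠ lam → 4 ≤ finrank K (LinearMap.range (A - κ • 1)))
    (hself : finrank K (LinearMap.range (A - lam • 1) ⊓ Submodule.span K (Set.range f) : Submodule K V) + 2 ≤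
      finrank K (LinearMap.range (A - lam • 1)))
    {u w : V} (huw : LinearIndependent K ![u, w, A u, A w]) : ScalarProd A n := by
  classical
  obtain ⟨m, rfl⟩ : ∃ m, n = 2 + m := ⟨n - 2, by omega⟩
  have hdA0 : LinearMap.det A ≠ 0 := hdA ▸ one_ne_zero
  have hAinj : Function.Injective A := LinearMap.ker_eq_bot.1 (ker_eq_bot_of_det hdA0)
  have hlam : lam ≠ 0 := fun h => hf.ne_zero 0 (hAinj (by rw [hAf, h, zero_smul, map_zero]))
  have hU : finrank K (Fin 2 → K) = 2 := by simp
  have hW : finrank K (Fin m → K) = m := by simp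
  obtain ⟨e₁, he₁⟩ := exists_coords_two hf hd
  obtain ⟨r₀, A', hA'⟩ := exists_block_form e₁ (f := A) (μ := lam) (fun x => by
    rw [he₁, map_add, map_smul, map_smul, hAf, hAf, smul_add, smul_comm lam, smul_comm lam])
  have hdA' : lam ^ 2 * LinearMap.det A' = 1 := by
    rw [← hdA, hA', ← (sim_conj e₁ _).symm.det_eq, det_upper_scalar, hU]
  -- the quotient is generic
  let π : V →ₗ[K] (Fin m → K) :=
    (LinearMap.snd K (Fin 2 → K) (Fin m → K)).comp (e₁.symm : V →ₗ[K] (Fin 2 → K) × (Fin m → K))
  have hπ : ∀ x y, π (e₁ (x, y)) = y := fun x y => by simp [π]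
  have hπA : ∀ z, π (A z) = A' (π z) := fun z => by
    obtain ⟨⟨x, y⟩, rfl⟩ := e₁.surjective z
    rw [hπ, hA', LinearEquiv.conj_apply_apply, e₁.symm_apply_apply, upper_apply, hπ]
  have hkerπ : LinearMap.ker π ≤ Submodule.span K (Set.range f) := fun z hz => by
    obtain ⟨⟨x, y⟩, rfl⟩ := e₁.surjective z
    rw [LinearMap.mem_ker, hπ] at hz
    subst hz
    rw [he₁]
    exact add_mem (Submodule.smul_mem _ _ (Submodule.subset_span ⟨0, rfl⟩))
      (Submodule.smul_mem _ _ (Submodule.subset_span ⟨1, rfl⟩))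
  have hGen : Gen A' := by
    intro κ
    have hmap : LinearMap.range (A' - κ • 1) = (LinearMap.range (A - κ • 1)).map π := by
      apply le_antisymm
      · rintro _ ⟨y, rfl⟩
        refine ⟨(A - κ • 1) (e₁ (0, y)), LinearMap.mem_range_self _ _, ?_⟩
        simp [hπA, hπ]
      · rintro _ ⟨_, ⟨z, rfl⟩, rfl⟩
        exact ⟨π z, by simp [hπA]⟩
    rw [hmap]
    set R := LinearMap.range (A - κ • 1)
    have h1 := LinearMap.finrank_range_add_finrank_ker (π.domRestrict R)
    rw [show LinearMap.range (π.domRestrict R) = R.map π by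
      ext y; simp [Submodule.mem_map, LinearMap.domRestrict_apply]] at h1
    have h2 : finrank K (LinearMap.ker (π.domRestrict R)) ≤
        finrank K (R ⊓ Submodule.span K (Set.range f) : Submodule K V) := by
      refine LinearMap.finrank_le_finrank_of_injective
        (f := (R.subtype.domRestrict (LinearMap.ker (π.domRestrict R))).codRestrict
          (R ⊓ Submodule.span K (Set.range f)) fun z => ⟨z.1.2, hkerπ z.2⟩) fun a b hab => ?_
      exact Subtype.ext (Subtype.ext (congrArg (fun z : (R ⊓ Submodule.span K (Set.range f) : Submodule K V) => (z : V)) hab))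
    by_cases hκ : κ = lam
    · subst hκ
      change finrank K (R ⊓ Submodule.span K (Set.range f) : Submodule K V) + 2 ≤ finrank K R at hself
      omega
    · have h3 := Submodule.finrank_mono (inf_le_right : R ⊓ Submodule.span K (Set.range f) ≤ _)
      have h5 : finrank K (Submodule.span K (Set.range f)) ≤ 2 := (finrank_span_eq_card hf).le.trans (by simp)
      have h6 : 4 ≤ finrank K R := hother κ hκ
      omega
  -- the first two conjugates
  obtain ⟨c, hcdef⟩ : ∃ c, c = (lam ^ m)⁻¹ := ⟨_, rfl⟩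
  have hc : c ≠ 0 := hcdef ▸ inv_ne_zero (pow_ne_zero m hlam)
  have himg : LinearIndependent K ![A u, A w, c • u, c • w] := by
    rw [Fintype.linearIndependent_iff] at huw ⊢
    intro d hd'
    simp [Fin.sum_univ_four, smul_smul] at hd'
    have h := huw ![d 2 * c, d 3 * c, d 0, d 1] (by simp [Fin.sum_univ_four]; rw [← hd']; abel)
    intro i
    fin_cases i
    · simpa using h 2
    · simpa using h 3
    · simpa [hc] using h 0
    · simpa [hc] using h 1
  obtain ⟨e, he, hei⟩ := exists_equiv huw himg (by omega) one_ne_zero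
  have hx1 : ∀ z, (e.conj A) (e z) = e (A z) := fun z => by rw [LinearEquiv.conj_apply_apply, e.symm_apply_apply]
  have e0 : e u = A u := hei 0
  have e1 : e w = A w := hei 1
  have e2 : e (A u) = c • u := hei 2
  have e3 : e (A w) = c • w := hei 3
  obtain ⟨x₁, hx₁def⟩ : ∃ x₁, x₁ = e.conj A := ⟨_, rfl⟩
  have hxu : x₁ (A u) = c • u := by rw [hx₁def, ← e0, hx1, e2]
  have hxw : x₁ (A w) = c • w := by rw [hx₁def, ← e1, hx1, e3]
  set P := Submodule.span K (Set.range ![u, w]) with hP
  set Q := Submodule.span K (Set.range ![u, w, A u, A w])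
  have hPQ : ∀ i, (![u, w] i) ∈ Q := fun i => by
    fin_cases i
    exacts [Submodule.subset_span ⟨0, rfl⟩, Submodule.subset_span ⟨1, rfl⟩]
  have huP : u ∈ P := Submodule.subset_span ⟨0, rfl⟩
  have hwP : w ∈ P := Submodule.subset_span ⟨1, rfl⟩
  -- a conjugate not scalar modulo the plane
  obtain ⟨x, hx, hxu', hxw', hns⟩ : ∃ x, SConj A x ∧ x (A u) = c • u ∧ x (A w) = c • w ∧
      ∀ κ : K, ¬ LinearMap.range (x * A - κ • 1) ≤ P := by
    have hx₁ : SConj A x₁ := ⟨e, he, hx₁def⟩
    by_contra hne
    push Not at hne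
    obtain ⟨u₅, hu₅⟩ : ∃ u₅, u₅ ∉ Q := by
      by_contra hc'
      push Not at hc'
      have : finrank K Q = 4 := (finrank_span_eq_card huw).trans (by simp)
      rw [Submodule.eq_top_iff'.2 hc', finrank_top] at this
      omega
    obtain ⟨φ, hφ5, hφQ⟩ := exists_functional_pair hu₅
    have hφP : ∀ z ∈ P, φ z = 0 := fun z hz =>
      hφQ z (Submodule.span_le.2 (Set.range_subset_iff.2 hPQ) hz)
    have ht : φ (A u) = 0 := hφQ _ (Submodule.subset_span ⟨2, rfl⟩)
    have htw : φ (A w) = 0 := hφQ _ (Submodule.subset_span ⟨3, rfl⟩)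
    have hxu2 : (LinearEquiv.transvection ht).conj x₁ (A u) = c • u := by
      have := transvection_conj_apply ht x₁ (A u)
      rwa [ht, zero_smul, add_zero, hxu, map_smul, hφP u huP, smul_zero, zero_smul, add_zero] at this
    have hxw2 : (LinearEquiv.transvection ht).conj x₁ (A w) = c • w := by
      have := transvection_conj_apply ht x₁ (A w)
      rwa [htw, zero_smul, add_zero, hxw, map_smul, hφP w hwP, smul_zero, zero_smul, add_zero] at this
    obtain ⟨κ, hκ⟩ := hne x₁ hx₁ hxu hxw
    obtain ⟨κ', hκ'⟩ := hne _ (sconj_transvection hx₁ ht) hxu2 hxw2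
    have hsurjx : Function.Surjective x₁ :=
      LinearMap.surjective_of_injective (LinearMap.ker_eq_bot.1 (ker_eq_bot_of_det (hx₁.det ▸ hdA0)))
    have hAsurj : Function.Surjective A := LinearMap.surjective_of_injective hAinj
    have hκ0 : κ ≠ 0 := by
      rintro rfl
      obtain ⟨z, hz⟩ := (hsurjx.comp hAsurj) u₅
      have := hφP _ (hκ (LinearMap.mem_range_self _ z))
      simp [Function.comp] at this hz
      rw [hz, hφ5] at this
      exact one_ne_zero this
    obtain ⟨ρ, hρ⟩ : ∃ ρ, ρ = κ' / κ := ⟨_, rfl⟩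
    have key : ∀ y, x₁ y + φ (x₁ y) • A u - ρ • x₁ (y + φ y • A u) ∈ P := by
      intro y
      rw [← transvection_conj_apply ht x₁ y]
      obtain ⟨q, hq⟩ := hAsurj (y + φ y • A u)
      rw [← hq]
      have h1 := hκ (LinearMap.mem_range_self _ q)
      have h2 := hκ' (LinearMap.mem_range_self _ q)
      have h3 := P.sub_mem h2 (P.smul_mem ρ h1)
      convert h3 using 1
      simp only [LinearMap.sub_apply, LinearMap.smul_apply, Module.End.mul_apply, Module.End.one_apply, smul_sub,
        smul_smul, hρ, div_mul_cancel₀ _ hκ0]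
      abel
    obtain ⟨y, hy⟩ := hsurjx u₅
    have h1 := hφP _ (key y)
    simp [map_add, map_smul, hy, hφ5, ht, hxu, hφP u huP] at h1
    have hρ1 : ρ = 1 := (sub_eq_zero.1 h1).symm
    have h2 := key y
    rw [hρ1, one_smul, map_add, map_smul, hy, hφ5, hxu, one_smul] at h2
    have h3 : A u ∈ P := by
      have := P.add_mem h2 (P.smul_mem (φ y) (P.smul_mem c huP))
      convert this using 1
      abel
    obtain ⟨d, hd'⟩ := (Submodule.mem_span_range_iff_exists_fun K).1 h3
    simp [Fin.sum_univ_two] at hd'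
    have := Fintype.linearIndependent_iff.1 huw ![d 0, d 1, -1, 0] (by simp [Fin.sum_univ_four, hd']) 2
    simp at this
  -- the remaining target
  obtain ⟨Be, hBe⟩ := exists_equiv_of_det (A := x * A) (by rw [map_mul, hx.det]; exact mul_ne_zero hdA0 hdA0)
  have hBa : ∀ z, Be z = x (A z) := fun z => LinearMap.congr_fun hBe z
  obtain ⟨g, hgdef⟩ : ∃ g : End K V, g = (Be.symm : V →ₗ[K] V) := ⟨_, rfl⟩
  have hBg : x * A * g = 1 := LinearMap.ext fun z => by
    simp [Module.End.mul_apply, hgdef, ← hBa]
  have hdg : LinearMap.det g = 1 := by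
    have := congrArg LinearMap.det hBg
    rwa [map_mul, map_mul, hx.det, hdA, map_one, one_mul, one_mul] at this
  have hgP : ∀ i, g (![u, w] i) = (lam ^ m) • ![u, w] i := fun i => by
    rw [hgdef, LinearEquiv.coe_coe, LinearEquiv.symm_apply_eq, map_smul, hBa]
    fin_cases i <;> simp [hxu', hxw', hcdef, smul_smul, hlam]
  have huw2 : LinearIndependent K ![u, w] := by
    have := huw.comp ![0, 1] (by intro a b; fin_cases a <;> fin_cases b <;> simp)
    convert this using 1
    ext i
    fin_cases i <;> rfl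
  obtain ⟨T, hT, hTi⟩ := exists_equiv hf huw2 (show 2 < finrank K V by omega) one_ne_zero
  let eP := e₁.trans T
  have heP : ∀ z, eP (z, 0) = z 0 • u + z 1 • w := fun z => by
    simp only [eP, LinearEquiv.trans_apply, he₁, map_add, map_smul, hTi]
    simp
  obtain ⟨R, h', hh'⟩ := exists_block_form eP (f := g) (μ := lam ^ m) (fun z => by
    have h0 := hgP 0
    have h1 := hgP 1
    simp at h0 h1
    rw [heP, map_add, map_smul, map_smul, h0, h1, smul_add, smul_comm _ (z 0), smul_comm _ (z 1)])
  have hdh' : LinearMap.det h' = LinearMap.det A' ^ m := by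
    rw [hh', ← (sim_conj eP _).symm.det_eq, det_upper_scalar, hU] at hdg
    refine mul_left_cancel₀ (pow_ne_zero 2 (pow_ne_zero m hlam)) ?_
    rw [hdg, ← pow_mul, mul_comm m 2, pow_mul, ← mul_pow, hdA', one_pow]
  have hns' : NS h' := by
    intro κ hκ'
    have hκ0 : κ ≠ 0 := by
      intro h0
      rw [hκ', h0, zero_smul] at hdh'
      rw [LinearMap.det_zero, hW, zero_pow (by omega), eq_comm] at hdh'
      exact pow_ne_zero m (right_ne_zero_of_mul (hdA'.trans_ne one_ne_zero)) hdh'
    refine hns κ⁻¹ ?_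
    rintro _ ⟨z, rfl⟩
    obtain ⟨q, rfl⟩ : ∃ q, g q = z := Be.symm.surjective z |>.imp fun q hq => by rw [hgdef]; exact hq
    have h1 : g q - κ • q ∈ P := by
      obtain ⟨⟨a, b⟩, rfl⟩ := eP.surjective q
      rw [hh', LinearEquiv.conj_apply_apply, eP.symm_apply_apply, upper_apply, hκ', ← map_smul, ← map_sub]
      rw [show ((lam ^ m • (1 : End K (Fin 2 → K))) a + R b, (κ • (1 : End K (Fin m → K))) b) - κ • (a, b) =
        ((lam ^ m • (1 : End K (Fin 2 → K))) a + R b - κ • a, (0 : Fin m → K)) from Prod.ext rfl (by simp), heP]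
      exact P.add_mem (P.smul_mem _ huP) (P.smul_mem _ hwP)
    have h2 : (x * A - κ⁻¹ • 1) (g q) = (-κ⁻¹) • (g q - κ • q) := by
      have := LinearMap.congr_fun hBg q
      simp only [Module.End.mul_apply, Module.End.one_apply] at this
      simp only [LinearMap.sub_apply, Module.End.mul_apply, this, LinearMap.smul_apply, Module.End.one_apply,
        smul_sub, smul_smul, neg_mul, inv_mul_cancel₀ hκ0, neg_smul, one_smul]
      abel
    rw [h2]
    exact P.smul_mem _ h1
  obtain ⟨L, hL, hLc, hLp, hLn⟩ := main h4 m (by omega) (Fin m → K) A' h' hW hGen.ns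
    (right_ne_zero_of_mul (hdA'.trans_ne one_ne_zero)) hns' hdh' (Or.inr hGen)
  obtain ⟨R₀, hR₀⟩ := avail_block (by omega) hlam A' r₀ L (fun y hy => (hLc y hy).sim)
  obtain ⟨M, hM, hMc, hMp⟩ := hR₀ (R - R₀) fun z hz => by
    by_cases hz0 : z = 0
    · simp [hz0]
    obtain ⟨y, hy, hne⟩ := hLn z lam hz0
    exact absurd (hz y hy) hne
  rw [hL, hLp, add_sub_cancel] at hMp
  have hprod : (M.map fun y => eP.conj y).prod = eP.conj M.prod := by
    clear hM hMc hMp
    induction M with
    | nil => exact LinearMap.ext fun z => by simp [LinearEquiv.conj_apply_apply]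
    | cons y M ih =>
      rw [List.map_cons, List.prod_cons, ih, List.prod_cons]
      exact LinearMap.ext fun z => by simp [Module.End.mul_apply, LinearEquiv.conj_apply_apply]
  refine ⟨x :: A :: M.map (fun y => eP.conj y), 1, by simp [hM, hL]; omega, ?_, ?_⟩
  · intro y hy
    rcases List.mem_cons.1 hy with rfl | hy
    · exact hx
    rcases List.mem_cons.1 hy with rfl | hy
    · exact SConj.refl _
    obtain ⟨y, hy', rfl⟩ := List.mem_map.1 hy
    refine SConj.trans ⟨e₁.symm.trans eP, ?_, rfl⟩ ?_
    · rw [show e₁.symm.trans eP = T from LinearEquiv.ext fun z => by simp [eP], hT]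
    have h0 : (e₁.symm.trans eP).conj A = eP.conj (upper (lam • 1 : End K (Fin 2 → K)) r₀ A') := by
      rw [hA', conj_trans_apply]
      congr 1
      exact LinearMap.ext fun z => by simp [LinearEquiv.conj_apply_apply]
    rw [h0]
    exact sconj_transport eP (hMc y hy')
  · rw [List.prod_cons, List.prod_cons, hprod, hMp, ← hh', ← mul_assoc, hBg, one_smul]

end Cfsg.Agent.LevCover
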