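import Cfsg.Agent.Lib.LevCover.Main
import Cfsg.Agent.Lib.LevCover.Diag

/-!
Endomorphisms that are a scalar plus rank one: products of pseudo-reflections of a given determinant.
-/

set_option autoImplicit false

namespace Cfsg.Agent.LevCover

open Module Cfsg.Agent.GL.TwoReg

universe u

variable {K : Type u} [Field K] {V : Type u} [AddCommGroup V] [Module K V]

/-- A pseudo-reflection `1 + φ(·) u` of determinant `δ`. -/
def PR (δ : K) (x : End K V) : Prop :=
  ∃ (φ : Dual K V) (u : V), φ ≠ 0 ∧ u ≠ 0 ∧ 1 + φ u = δ ∧ x = LinearMap.transvection φ u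

theorem PR.det [FiniteDimensional K V] {δ : K} {x : End K V} (h : PR δ x) : LinearMap.det x = δ := by
  obtain ⟨φ, u, -, -, rfl, rfl⟩ := h
  exact LinearMap.transvection.det φ u

theorem exists_dual {ι : Type*} {v : ι → V} (hv : LinearIndependent K v) (f : ι → K) :
    ∃ φ : Dual K V, ∀ i, φ (v i) = f i := by
  obtain ⟨φ, hφ⟩ := LinearMap.exists_extend ((Basis.span hv).constr K f : _ →ₗ[K] K)
  refine ⟨φ, fun i => ?_⟩
  have h1 := LinearMap.congr_fun hφ (Basis.span hv i)
  rw [Basis.constr_basis] at h1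
  rw [← h1, LinearMap.comp_apply, Submodule.coe_subtype, Basis.span_apply]

variable [FiniteDimensional K V]

/-- Coordinates in which a functional is the first projection. -/
theorem exists_frame {φ : Dual K V} {a : V} (ha : φ a = 1) {m : ℕ} (hm : finrank K V = m + 1) :
    ∃ e : (K × (Fin m → K)) ≃ₗ[K] V, e (1, 0) = a ∧ ∀ c y, φ (e (c, y)) = c := by
  have hk : finrank K (LinearMap.ker φ) = m := by
    have h1 := LinearMap.finrank_range_add_finrank_ker φ
    have h2 : LinearMap.range φ = ⊤ := LinearMap.range_eq_top.2 fun c => ⟨c • a, by simp [ha]⟩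
    rw [h2, finrank_top, Module.finrank_self] at h1
    omega
  have hc : IsCompl (K ∙ a) (LinearMap.ker φ) := by
    refine ⟨disjoint_iff.2 ((Submodule.eq_bot_iff _).2 ?_), codisjoint_iff.2 (Submodule.eq_top_iff'.2 fun z => ?_)⟩
    · rintro z ⟨h1, h2⟩
      obtain ⟨c, rfl⟩ := Submodule.mem_span_singleton.1 h1
      have : c = 0 := by simpa [ha] using h2
      simp [this]
    · rw [show z = φ z • a + (z - φ z • a) by abel]
      exact Submodule.add_mem_sup (Submodule.smul_mem _ _ (Submodule.mem_span_singleton_self a)) (by simp [ha])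
  have ha0 : a ≠ 0 := fun h => by simp [h] at ha
  let f : (Fin m → K) ≃ₗ[K] LinearMap.ker φ := LinearEquiv.ofFinrankEq _ _ (by rw [hk]; simp)
  refine ⟨((LinearEquiv.toSpanNonzeroSingleton K V a ha0).prodCongr f).trans
    (Submodule.prodEquivOfIsCompl _ _ hc), by simp [Submodule.coe_prodEquivOfIsCompl'], fun c y => ?_⟩
  have hf : φ (f y) = 0 := (f y).2
  simp [Submodule.coe_prodEquivOfIsCompl', ha, hf]

/-- Pseudo-reflections of a given determinant are conjugate. -/
theorem PR.sconj (hd : 3 ≤ finrank K V) {δ : K} {x y : End K V} (hx : PR δ x) (hy : PR δ y) : SConj x y := by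
  obtain ⟨φ, u, hφ, hu, hφu, rfl⟩ := hx
  obtain ⟨ψ, w, hψ, hw, hψw, rfl⟩ := hy
  obtain ⟨m, hm⟩ : ∃ m, finrank K V = m + 1 := ⟨finrank K V - 1, by omega⟩
  -- frames with the vectors in standard position
  have hframe : ∀ (φ : Dual K V) (u : V), φ ≠ 0 → u ≠ 0 → 1 + φ u = δ →
      ∃ (e : (K × (Fin m → K)) ≃ₗ[K] V) (u' : Fin m → K), (∀ c y, φ (e (c, y)) = c) ∧ e (δ - 1, u') = u ∧
        (δ ≠ 1 → u' = 0) ∧ (δ = 1 → u' ≠ 0) := by
    intro φ u hφ hu hφu
    by_cases hδ : δ = 1
    · obtain ⟨a, ha⟩ : ∃ a, φ a = 1 := LinearMap.surjective hφ 1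
      obtain ⟨e, -, he⟩ := exists_frame ha hm
      obtain ⟨⟨c, u'⟩, hcu⟩ := e.surjective u
      have hc : c = δ - 1 := by rw [← he c u', hcu]; linear_combination hφu
      refine ⟨e, u', he, hc ▸ hcu, fun h => absurd hδ h, fun _ h0 => hu ?_⟩
      rw [← hcu, hc, h0, hδ, sub_self]
      exact map_zero e
    · have hd1 : δ - 1 ≠ 0 := sub_ne_zero.2 hδ
      obtain ⟨e, he0, he⟩ := exists_frame (a := (δ - 1)⁻¹ • u) (φ := φ) (by
        rw [map_smul, smul_eq_mul, show φ u = δ - 1 by linear_combination hφu, inv_mul_cancel₀ hd1]) hm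
      refine ⟨e, 0, he, ?_, fun _ => rfl, fun h => absurd h hδ⟩
      rw [show ((δ - 1, 0) : K × (Fin m → K)) = (δ - 1) • ((1, 0) : K × (Fin m → K)) by simp, map_smul, he0, smul_smul,
        mul_inv_cancel₀ hd1, one_smul]
  obtain ⟨e₁, u', he₁, hu', hu0, hu1⟩ := hframe φ u hφ hu hφu
  obtain ⟨e₂, w', he₂, hw', hw0, hw1⟩ := hframe ψ w hψ hw hψw
  set c₀ := LinearMap.det ((e₁.symm.trans e₂ : V ≃ₗ[K] V) : V →ₗ[K] V)
  have hc₀ : c₀⁻¹ ≠ 0 := inv_ne_zero (det_equiv_ne_zero _)
  have hWd : finrank K (Fin m → K) = m := by simp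
  obtain ⟨f, hf, hfu⟩ : ∃ f : (Fin m → K) ≃ₗ[K] (Fin m → K),
      LinearMap.det (f : (Fin m → K) →ₗ[K] Fin m → K) = c₀⁻¹ ∧ f u' = w' := by
    by_cases hδ : δ = 1
    · obtain ⟨f, hf, hfi⟩ := exists_equiv (v := ![u']) (w := ![w'])
        (by simpa using hu1 hδ)
        (by simpa using hw1 hδ) (show 1 < finrank K (Fin m → K) by omega) hc₀
      exact ⟨f, hf, by simpa using hfi 0⟩
    · obtain ⟨f, hf, -⟩ := exists_equiv (v := (![] : Fin 0 → (Fin m → K))) (w := ![])
        linearIndependent_empty_type linearIndependent_empty_type (show 0 < finrank K (Fin m → K) by omega) hc₀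
      exact ⟨f, hf, by rw [hu0 hδ, hw0 hδ, map_zero]⟩
  let S : (K × (Fin m → K)) ≃ₗ[K] (K × (Fin m → K)) := (LinearEquiv.refl K K).prodCongr f
  have hSd : LinearMap.det (S : (K × (Fin m → K)) →ₗ[K] K × (Fin m → K)) = c₀⁻¹ := by
    rw [show (S : (K × (Fin m → K)) →ₗ[K] K × (Fin m → K)) = upper 1 0 (f : (Fin m → K) →ₗ[K] Fin m → K) from
      LinearMap.ext fun ⟨a, b⟩ => by simp [S], det_upper, map_one, one_mul, hf]
  refine ⟨(e₁.symm.trans (S.trans e₁)).trans (e₁.symm.trans e₂), ?_, LinearMap.ext fun z => ?_⟩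
  · rw [det_trans]
    have : LinearMap.det ((e₁.symm.trans (S.trans e₁) : V ≃ₗ[K] V) : V →ₗ[K] V) = c₀⁻¹ :=
      (LinearMap.det_conj (S : (K × (Fin m → K)) →ₗ[K] K × (Fin m → K)) e₁).trans hSd
    rw [this]
    exact inv_mul_cancel₀ (det_equiv_ne_zero _)
  · obtain ⟨q, rfl⟩ := ((e₁.symm.trans (S.trans e₁)).trans (e₁.symm.trans e₂)).surjective z
    rw [LinearEquiv.conj_apply_apply, LinearEquiv.symm_apply_apply, LinearMap.transvection.apply,
      LinearMap.transvection.apply, map_add, map_smul]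
    obtain ⟨⟨a, b⟩, rfl⟩ := e₁.surjective q
    have hS : ∀ a b, S (a, b) = (a, f b) := fun a b => rfl
    simp only [LinearEquiv.trans_apply, LinearEquiv.symm_apply_apply, hS, he₂, he₁]
    rw [← hu', LinearEquiv.symm_apply_apply]
    simp only [hS, hfu, hw']

/-- Pseudo-reflections with a common functional. -/
theorem comm_prod [Fintype K] (h4 : 4 ≤ Fintype.card K) (hd : 2 ≤ finrank K V) {δ : K} (hδ : δ ≠ 0)
    {φ : Dual K V} (hφ : φ ≠ 0) : ∀ k, 1 ≤ k → ∀ U : V, 1 + φ U = δ ^ k → (U ≠ 0 ∨ 2 ≤ k) →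
      ∃ L : List (End K V), L.length = k ∧ (∀ x ∈ L, PR δ x) ∧ L.prod = LinearMap.transvection φ U := by
  intro k hk
  induction k, hk using Nat.le_induction with
  | base =>
    intro U hU hU0
    exact ⟨[LinearMap.transvection φ U], rfl, fun x hx => by
      simp at hx
      exact hx ▸ ⟨φ, U, hφ, hU0.resolve_right (by omega), by simpa using hU, rfl⟩, by simp⟩
  | succ k hk ih =>
    intro U hU _
    classical
    obtain ⟨a, ha⟩ : ∃ a, φ a = 1 := LinearMap.surjective hφ 1
    obtain ⟨z, hz0, hz⟩ : ∃ z, z ≠ 0 ∧ φ z = 0 := by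
      have h1 := LinearMap.finrank_range_add_finrank_ker φ
      have h2 := Submodule.finrank_le (LinearMap.range φ)
      rw [Module.finrank_self] at h2
      have h3 : LinearMap.ker φ ≠ ⊥ := fun h => by rw [h, finrank_bot] at h1; omega
      obtain ⟨z, hz, hz0⟩ := Submodule.exists_mem_ne_zero_of_ne_bot h3
      exact ⟨z, hz0, hz⟩
    obtain ⟨u, hu0, hu1, hu2⟩ : ∃ u : V, u ≠ 0 ∧ φ u = δ - 1 ∧ U - δ ^ k • u ≠ 0 := by
      obtain ⟨u₁, u₂, h1, h2, h3, h5, h6⟩ : ∃ u₁ u₂ : V, u₁ ≠ 0 ∧ u₂ ≠ 0 ∧ φ u₁ = δ - 1 ∧ φ u₂ = δ - 1 ∧ u₁ ≠ u₂ := by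
        by_cases hδ1 : δ = 1
        · obtain ⟨t, ht⟩ := exists_notMem_card ({0, 1} : Finset K) (by
            have := Finset.card_le_two (a := (0 : K)) (b := 1)
            omega)
          simp only [Finset.mem_insert, Finset.mem_singleton, not_or] at ht
          refine ⟨z, t • z, hz0, smul_ne_zero ht.1 hz0, by simp [hz, hδ1], by simp [hz, hδ1], fun h => ht.2 ?_⟩
          exact (smul_left_injective K hz0 (show (1 : K) • z = t • z by rw [one_smul]; exact h)).symm
        · have hne : ∀ u, φ u = δ - 1 → u ≠ 0 := fun u h h0 => hδ1 (by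
            rw [h0, map_zero] at h; linear_combination -h)
          refine ⟨(δ - 1) • a, (δ - 1) • a + z, hne _ (by simp [ha]), hne _ (by simp [ha, hz]), by simp [ha],
            by simp [ha, hz], fun h => hz0 ?_⟩
          simpa using h
      by_cases h : U - δ ^ k • u₁ = 0
      · refine ⟨u₂, h2, h5, fun h' => h6 (smul_right_injective V (pow_ne_zero k hδ) ?_)⟩
        exact (sub_eq_zero.1 h).symm.trans (sub_eq_zero.1 h')
      · exact ⟨u₁, h1, h3, h⟩
    obtain ⟨L, hL, hLp, hLe⟩ := ih (U - δ ^ k • u) (by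
      rw [map_sub, map_smul, hu1, smul_eq_mul]
      linear_combination hU) (Or.inl hu2)
    refine ⟨LinearMap.transvection φ u :: L, by simp [hL], fun x hx => ?_, ?_⟩
    · rcases List.mem_cons.1 hx with rfl | hx
      · exact ⟨φ, u, hφ, hu0, by rw [hu1]; ring, rfl⟩
      · exact hLp x hx
    · rw [List.prod_cons, hLe]
      refine LinearMap.ext fun y => ?_
      have hU' : φ U = δ ^ (k + 1) - 1 := by linear_combination hU
      simp [Module.End.mul_apply, LinearMap.transvection.apply, map_add, map_smul, map_sub, hu1, hU', smul_sub]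
      match_scalars <;> ring

variable {W : Type u} [AddCommGroup W] [Module K W] [FiniteDimensional K W]

/-- Lifting a list of pseudo-reflections. -/
theorem lift_list {δ : K} : ∀ L : List (End K W), (∀ x ∈ L, PR δ x) → ∀ D : W →ₗ[K] K,
    (∀ z, (∀ x ∈ L, x z = z) → D z = 0) →
    ∃ M : List (End K (K × W)), M.length = L.length ∧ (∀ y ∈ M, PR δ y) ∧
      (∀ x ∈ L, ∃ y ∈ M, ∀ z, (y z).2 = x z.2) ∧ M.prod = upper (1 : End K K) D L.prod := by
  intro L
  induction L with
  | nil =>
    intro _ D hD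
    have hD0 : D = 0 := LinearMap.ext fun z => hD z (by simp)
    exact ⟨[], rfl, by simp, by simp, LinearMap.ext fun ⟨c, y⟩ => by simp [hD0]⟩
  | cons x L ih =>
    intro hx D hD
    obtain ⟨φ, u, hφ, hu, hφu, rfl⟩ := hx x List.mem_cons_self
    let Z : Submodule K W :=
      { carrier := {z | ∀ y ∈ L, y z = z}
        add_mem' := fun {a b} ha hb y hy => by rw [map_add, ha y hy, hb y hy]
        zero_mem' := fun y _ => by simp
        smul_mem' := fun c a ha y hy => by rw [map_smul, ha y hy] }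
    have hLz : ∀ z ∈ Z, L.prod z = z := fun z hz => by
      have := prod_common 1 L z fun y hy => by rw [one_smul]; exact hz y hy
      simpa using this
    obtain ⟨s, hs⟩ : ∃ s : K, ∀ z ∈ Z, D z = s * φ z := by
      by_cases h : ∃ z ∈ Z, φ z ≠ 0
      · obtain ⟨z₀, hz₀, hz₀'⟩ := h
        refine ⟨D z₀ / φ z₀, fun z hz => ?_⟩
        have := hD (φ z₀ • z - φ z • z₀) fun y hy => ?_
        · rw [map_sub, map_smul, map_smul, smul_eq_mul, smul_eq_mul] at this
          field_simp
          linear_combination this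
        rcases List.mem_cons.1 hy with rfl | hy
        · simp [LinearMap.transvection.apply]; ring_nf; simp
        · rw [map_sub, map_smul, map_smul, hz y hy, hz₀ y hy]
      · push Not at h
        refine ⟨0, fun z hz => ?_⟩
        rw [zero_mul]
        refine hD z fun y hy => ?_
        rcases List.mem_cons.1 hy with rfl | hy
        · simp [LinearMap.transvection.apply, h z hz]
        · exact hz y hy
    obtain ⟨M, hM, hMc, hMs, hMp⟩ := ih (fun y hy => hx y (List.mem_cons_of_mem _ hy))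
      (D - s • φ.comp L.prod) fun z hz => by simp [hs z hz, hLz z hz]
    refine ⟨LinearMap.transvection (φ.comp (LinearMap.snd K K W)) ((s, u) : K × W) :: M, by simp [hM], ?_, ?_, ?_⟩
    · intro y hy
      rcases List.mem_cons.1 hy with rfl | hy
      · refine ⟨_, _, fun h => hφ (LinearMap.ext fun z => ?_), fun h => hu (Prod.mk_eq_zero.1 h).2, by simpa using hφu, rfl⟩
        simpa using LinearMap.congr_fun h (0, z)
      · exact hMc y hy
    · intro w hw
      rcases List.mem_cons.1 hw with rfl | hw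
      · exact ⟨_, List.mem_cons_self, fun z => by simp [LinearMap.transvection.apply]⟩
      · obtain ⟨y, hy, hys⟩ := hMs w hw
        exact ⟨y, List.mem_cons_of_mem _ hy, hys⟩
    · rw [List.prod_cons, hMp, List.prod_cons]
      refine LinearMap.ext fun ⟨c, y⟩ => ?_
      simp [LinearMap.transvection.apply, Module.End.mul_apply]
      ring

/-- Products of pseudo-reflections giving a scalar plus rank one. -/
theorem refl_prod [Fintype K] {δ : K} (hδ : δ ≠ 0) : ∀ n, 2 ≤ n → ∀ (V : Type u) [AddCommGroup V] [Module K V]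
    [FiniteDimensional K V] (g : End K V) (c : K) (ψ : Dual K V) (w : V), finrank K V = n → NS g → c ≠ 1 → c ≠ 0 →
    g = c • 1 + ψ.smulRight w → LinearMap.det g = δ ^ n →
    ∃ L : List (End K V), L.length = n ∧ (∀ x ∈ L, PR δ x) ∧ L.prod = g ∧
      ∀ z, (∀ x ∈ L, x z = z) → z = 0 := by
  classical
  intro n
  induction n using Nat.strong_induction_on with
  | _ n ih =>
  intro hn V _ _ _ g c ψ w hd hg hc1 hc0 hgc hdet
  obtain ⟨m, rfl⟩ : ∃ m, n = m + 1 := ⟨n - 1, by omega⟩
  have hga : ∀ z, g z = c • z + ψ z • w := fun z => by rw [hgc]; simp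
  obtain ⟨v, hv⟩ := hg.exists_noneigen
  have hv0 : v ≠ 0 := by simpa using hv.ne_zero 0
  have hψv : ψ v ≠ 0 := fun h => (pair_indep_iff hv0).1 hv c (by rw [hga, h, zero_smul, add_zero])
  -- a functional
  obtain ⟨φ, hφv, hφg, hφz⟩ : ∃ φ : Dual K V, φ v = 1 ∧ φ (g v) = δ ∧
      (2 ≤ m → ∃ z, ψ z = 0 ∧ φ z = 1 ∧ LinearIndependent K ![v, g v, z]) := by
    by_cases hm : 2 ≤ m
    · obtain ⟨z, hzψ, hzs⟩ : ∃ z, ψ z = 0 ∧ z ∉ Submodule.span K ({v, g v} : Set V) := by
        by_contra hne
        push Not at hne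
        have h1 : LinearMap.ker ψ ≤ Submodule.span K ({v, g v} : Set V) := fun z hz => hne z hz
        have h2 := LinearMap.finrank_range_add_finrank_ker ψ
        have h3 := Submodule.finrank_le (LinearMap.range ψ)
        rw [Module.finrank_self] at h3
        have h5 := finrank_span_pair_le (K := K) v (g v)
        have h6 := Submodule.finrank_mono h1
        have heq : LinearMap.ker ψ = Submodule.span K ({v, g v} : Set V) :=
          Submodule.eq_of_le_of_finrank_le h1 (by omega)
        exact hψv (LinearMap.mem_ker.1 (heq ▸ Submodule.subset_span (by simp)))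
      have h3 : LinearIndependent K ![v, g v, z] := by
        rw [Fintype.linearIndependent_iff]
        intro d hd'
        simp [Fin.sum_univ_three] at hd'
        have h2 : d 2 = 0 := by
          by_contra h2
          refine hzs ?_
          rw [← Submodule.smul_mem_iff _ h2, eq_neg_of_add_eq_zero_right hd']
          exact Submodule.neg_mem _ (Submodule.mem_span_pair.2 ⟨_, _, rfl⟩)
        rw [h2, zero_smul, add_zero] at hd'
        have h01 := LinearIndependent.pair_iff.1 hv _ _ hd'
        intro i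
        fin_cases i
        exacts [h01.1, h01.2, h2]
      obtain ⟨φ, hφ⟩ := exists_dual h3 ![1, δ, 1]
      exact ⟨φ, hφ 0, hφ 1, fun _ => ⟨z, hzψ, hφ 2, h3⟩⟩
    · obtain ⟨φ, hφ⟩ := exists_dual hv ![1, δ]
      exact ⟨φ, hφ 0, hφ 1, fun h => absurd h hm⟩
  obtain ⟨u, hu⟩ : ∃ u, u = g v - v := ⟨_, rfl⟩
  have hu0 : u ≠ 0 := fun h => (pair_indep_iff hv0).1 hv 1 (by
    rw [one_smul]; exact sub_eq_zero.1 (hu.symm.trans h))
  have hφu : 1 + φ u = δ := by rw [hu, map_sub, hφv, hφg]; ring
  obtain ⟨x, hxdef⟩ : ∃ x, x = LinearMap.transvection φ u := ⟨_, rfl⟩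
  have hx : PR δ x := ⟨φ, u, fun h => by simp [h] at hφv, hu0, hφu, hxdef⟩
  have hxv : x v = g v := by simp [hxdef, LinearMap.transvection.apply, hφv, hu]
  have hxline : ∀ d : K, x v ≠ d • v := fun d => hxv ▸ (pair_indep_iff hv0).1 hv d
  -- what remains
  obtain ⟨h, hh⟩ : ∃ h : End K V, h = g - δ⁻¹ • (φ.comp g).smulRight u := ⟨_, rfl⟩
  have hha : ∀ z, h z = g z - (δ⁻¹ * φ (g z)) • u := fun z => by simp [hh, smul_smul]
  have hxh : x * h = g := by
    refine LinearMap.ext fun z => ?_
    have hφu' : φ u = δ - 1 := by linear_combination hφu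
    simp [Module.End.mul_apply, hha, hxdef, LinearMap.transvection.apply, map_sub, map_smul, hφu']
    match_scalars
    · ring
    · field_simp; ring
  have hhv : h v = v := by
    rw [hha, hφg, inv_mul_cancel₀ hδ, one_smul, hu, sub_sub_cancel]
  have hdh : LinearMap.det h = δ ^ m := by
    have := congrArg LinearMap.det hxh
    rw [map_mul, hx.det, hdet, pow_succ'] at this
    exact mul_left_cancel₀ hδ this
  obtain ⟨e, he⟩ := exists_coords hv0 hd
  obtain ⟨R, h', hh'⟩ := exists_upper_form e (f := h) (μ := 1) (by rw [he, one_smul]; exact hhv)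
  have hh'1 : h = e.conj (upper (1 : End K K) R h') := by rw [hh', one_smul]
  have hdh' : LinearMap.det h' = δ ^ m := by
    rw [← hdh, hh', ← (sim_conj e _).symm.det_eq, det_upper_line, one_mul]
  have he0 : ∀ a : K, e (a, 0) = a • v := fun a => by rw [← he, ← map_smul]; simp
  by_cases hm : 2 ≤ m
  · obtain ⟨z, hzψ, hzφ, h3⟩ := hφz hm
    let π : V →ₗ[K] (Fin m → K) := (LinearMap.snd K K _).comp (e.symm : V →ₗ[K] K × (Fin m → K))
    have hπe : ∀ a y, π (e (a, y)) = y := fun a y => by simp [π]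
    have hπh : ∀ q, h' (π q) = π (h q) := fun q => by
      obtain ⟨⟨a, y⟩, rfl⟩ := e.surjective q
      rw [hπe, hh'1, LinearEquiv.conj_apply_apply, e.symm_apply_apply, upper_apply, hπe]
    have hπv : π v = 0 := by rw [← he, hπe]
    have hπu : π u = ψ v • π w := by rw [hu, hga, map_sub, map_add, map_smul, map_smul, hπv]; simp
    let ψ' : Dual K (Fin m → K) :=
      (ψ - (δ⁻¹ * ψ v) • φ.comp g).comp ((e : (K × (Fin m → K)) →ₗ[K] V).comp (LinearMap.inr K K _))
    have hform : h' = c • 1 + ψ'.smulRight (π w) := by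
      refine LinearMap.ext fun y => ?_
      have h1 := hπh (e (0, y))
      rw [hπe, hha, hga, map_sub, map_add, map_smul, map_smul, map_smul, hπe, hπu] at h1
      rw [h1]
      simp [ψ', hga]
      match_scalars <;> ring
    have hns : NS h' := by
      intro κ hκ
      have hkey := hπh z
      rw [hκ, hha, hga z, hzψ, zero_smul, add_zero, map_smul, hzφ, smul_eq_mul, mul_one, map_sub, map_smul,
        map_smul, hπu, smul_smul, LinearMap.smul_apply, Module.End.one_apply] at hkey
      have hmem : (κ - c) • z + (δ⁻¹ * c * ψ v) • w ∈ LinearMap.ker π := by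
        rw [LinearMap.mem_ker, map_add, map_smul, map_smul, sub_smul, hkey]
        abel
      obtain ⟨⟨a, y⟩, hay⟩ := e.surjective ((κ - c) • z + (δ⁻¹ * c * ψ v) • w)
      have hy : y = 0 := by rw [← hπe a y, hay]; exact hmem
      rw [hy, he0] at hay
      have hw : w = (ψ v)⁻¹ • (g v - c • v) := by rw [hga, add_sub_cancel_left, smul_smul, inv_mul_cancel₀ hψv, one_smul]
      rw [hw, smul_smul] at hay
      have hl := Fintype.linearIndependent_iff.1 h3
        ![-a - δ⁻¹ * c * ψ v * (ψ v)⁻¹ * c, δ⁻¹ * c * ψ v * (ψ v)⁻¹, κ - c] (by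
          simp [Fin.sum_univ_three]
          linear_combination (norm := module) -hay) 1
      simp [hδ, hc0, hψv] at hl
    obtain ⟨L, hL, hLp, hLe, hLn⟩ := ih m (by omega) hm (Fin m → K) h' c ψ' (π w) (by simp) hns hc1 hc0 hform hdh'
    obtain ⟨M, hM, hMc, hMs, hMp⟩ := lift_list L hLp R fun q hq => by rw [hLn q hq, map_zero]
    refine ⟨x :: M.map (fun y => e.conj y), by simp [hM, hL], ?_, ?_, ?_⟩
    · intro y hy
      rcases List.mem_cons.1 hy with rfl | hy
      · exact hx
      obtain ⟨y, hy', rfl⟩ := List.mem_map.1 hy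
      obtain ⟨φ₁, u₁, h1, h2, h5, rfl⟩ := hMc y hy'
      refine ⟨φ₁.comp (e.symm : V →ₗ[K] K × (Fin m → K)), e u₁, fun h0 => h1 (LinearMap.ext fun q => ?_),
        fun h0 => h2 (e.map_eq_zero_iff.1 h0), by simpa using h5,
        LinearMap.ext fun q => by simp [LinearEquiv.conj_apply_apply, LinearMap.transvection.apply]⟩
      simpa using LinearMap.congr_fun h0 (e q)
    · have hprod : ∀ M : List (End K (K × (Fin m → K))), (M.map fun y => e.conj y).prod = e.conj M.prod := by
        intro M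
        induction M with
        | nil => exact LinearMap.ext fun q => by simp [LinearEquiv.conj_apply_apply]
        | cons y M ihM =>
          rw [List.map_cons, List.prod_cons, ihM, List.prod_cons]
          exact LinearMap.ext fun q => by simp [Module.End.mul_apply, LinearEquiv.conj_apply_apply]
      rw [List.prod_cons, hprod, hMp, hLe, ← hh'1, hxh]
    · intro q hq
      obtain ⟨⟨a, y⟩, rfl⟩ := e.surjective q
      have hy : y = 0 := hLn y fun x' hx' => by
        obtain ⟨y', hy', hys⟩ := hMs x' hx'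
        have h1 := hq (e.conj y') (List.mem_cons_of_mem _ (List.mem_map.2 ⟨y', hy', rfl⟩))
        rw [LinearEquiv.conj_apply_apply, e.symm_apply_apply] at h1
        rw [← hys (a, y), e.injective h1]
      subst hy
      have h1 := hq x List.mem_cons_self
      rw [he0, map_smul] at h1
      rw [he0]
      by_cases ha : a = 0
      · simp [ha]
      exact absurd ((smul_right_injective V ha h1).trans (one_smul K v).symm) (hxline 1)
  · obtain rfl : m = 1 := by omega
    -- the base
    obtain ⟨d, rfl⟩ := exists_eq_smul_one (by simp) h'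
    rw [LinearMap.det_smul, map_one, mul_one, show finrank K (Fin 1 → K) = 1 by simp] at hdh'
    simp only [pow_one] at hdh' hdh
    subst hdh'
    obtain ⟨u', hu'⟩ : ∃ u', u' = e (R (fun _ => 1), fun _ => d - 1) := ⟨_, rfl⟩
    let χ : Dual K V := (LinearMap.proj (0 : Fin 1)).comp
      ((LinearMap.snd K K _).comp (e.symm : V →ₗ[K] K × (Fin 1 → K)))
    have hχ : ∀ a y, χ (e (a, y)) = y 0 := fun a y => by simp [χ]
    have hheq : h = LinearMap.transvection χ u' := by
      refine LinearMap.ext fun q => ?_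
      obtain ⟨⟨a, y⟩, rfl⟩ := e.surjective q
      have hy : y = y 0 • (fun _ => (1 : K)) := funext fun i => by simp [Subsingleton.elim i 0]
      rw [hh'1, LinearEquiv.conj_apply_apply, e.symm_apply_apply, LinearMap.transvection.apply, hχ, hu',
        ← map_smul, ← map_add, upper_apply]
      congr 1
      refine Prod.ext ?_ (funext fun i => ?_)
      · simp
        conv_lhs => rw [hy, map_smul, smul_eq_mul]
      · simp [Subsingleton.elim i 0]; ring
    have hχ0 : χ ≠ 0 := fun h0 => by simpa [hχ] using LinearMap.congr_fun h0 (e (0, fun _ => 1))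
    have hu'0 : u' ≠ 0 := by
      intro h0
      have h1 : h = 1 := by rw [hheq, h0]; exact LinearMap.ext fun q => by simp [LinearMap.transvection.apply]
      have hd1 : d = 1 := by rw [← hdh, h1, map_one]
      rw [h1, mul_one] at hxh
      obtain ⟨q, hq0, hq⟩ : ∃ q, q ≠ 0 ∧ ψ q = 0 := by
        have h2 := LinearMap.finrank_range_add_finrank_ker ψ
        have h3 := Submodule.finrank_le (LinearMap.range ψ)
        rw [Module.finrank_self] at h3
        have h5 : LinearMap.ker ψ ≠ ⊥ := fun h => by rw [h, finrank_bot] at h2; omega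
        obtain ⟨q, hq, hq0⟩ := Submodule.exists_mem_ne_zero_of_ne_bot h5
        exact ⟨q, hq0, hq⟩
      have h2 := LinearMap.congr_fun hxh q
      rw [hga q, hq, zero_smul, add_zero, hxdef, LinearMap.transvection.apply] at h2
      have h3 := congrArg φ h2
      rw [map_add, map_smul, map_smul, show φ u = 0 by linear_combination hφu + hd1, smul_eq_mul, smul_eq_mul,
        mul_zero, add_zero] at h3
      have h5 : φ q = 0 := (mul_left_eq_self₀.1 h3.symm).resolve_left hc1
      rw [h5, zero_smul, add_zero] at h2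
      exact hc1 (smul_left_injective K hq0 (show c • q = (1 : K) • q by rw [one_smul]; exact h2.symm))
    refine ⟨[x, h], rfl, ?_, by simpa using hxh, fun q hq => ?_⟩
    · intro y hy
      simp at hy
      rcases hy with rfl | rfl
      · exact hx
      · refine ⟨χ, u', hχ0, hu'0, ?_, hheq⟩
        rw [hu', hχ]; ring
    · obtain ⟨⟨a, y⟩, rfl⟩ := e.surjective q
      have h1 := hq h (by simp)
      rw [hheq, LinearMap.transvection.apply, add_eq_left, smul_eq_zero, hχ] at h1
      have hy : y = 0 := funext fun i => by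
        rw [Subsingleton.elim i 0]; exact h1.resolve_right hu'0
      subst hy
      have h2 := hq x (by simp)
      rw [he0, map_smul] at h2
      rw [he0]
      by_cases ha : a = 0
      · simp [ha]
      exact absurd ((smul_right_injective V ha h2).trans (one_smul K v).symm) (hxline 1)

/-- Scalar plus rank one: products of conjugates. -/
theorem refl_case [Fintype K] (h4 : 4 ≤ Fintype.card K) {n : ℕ} (hd : finrank K V = n) (hn : 3 ≤ n) {A : End K V}
    (hA : NS A) (hdA : LinearMap.det A = 1) (hA1 : ¬ Gen A) :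
    ScalarProd A n ∧ ∀ g : End K V, NS g → ¬ Gen g → LinearMap.det g = 1 →
      ∃ L : List (End K V), L.length = n ∧ (∀ x ∈ L, SConj A x) ∧ L.prod = g := by
  classical
  -- the shape of a non-generic non-scalar endomorphism
  have shape : ∀ f : End K V, NS f → ¬ Gen f → ∃ (c : K) (ψ : Dual K V) (w : V), ψ ≠ 0 ∧ w ≠ 0 ∧
      f = c • 1 + ψ.smulRight w := by
    intro f hf hfg
    simp only [Gen, not_forall, not_le] at hfg
    obtain ⟨c, hc⟩ := hfg
    have hne : LinearMap.range (f - c • 1) ≠ ⊥ := fun h => hf c (sub_eq_zero.1 (LinearMap.range_eq_bot.1 h))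
    obtain ⟨w, hw, hw0⟩ := Submodule.exists_mem_ne_zero_of_ne_bot hne
    have heq : LinearMap.range (f - c • 1) = K ∙ w := (Submodule.eq_of_le_of_finrank_le
      ((Submodule.span_singleton_le_iff_mem _ _).2 hw) (by rw [finrank_span_singleton hw0]; omega)).symm
    let ψ : Dual K V := ((LinearEquiv.toSpanNonzeroSingleton K V w hw0).symm : (K ∙ w) →ₗ[K] K).comp
      ((f - c • 1).codRestrict (K ∙ w) fun z => heq ▸ LinearMap.mem_range_self _ z)
    have hψ : ∀ z, ψ z • w = (f - c • 1) z := by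
      intro z
      have h1 := (LinearEquiv.toSpanNonzeroSingleton K V w hw0).apply_symm_apply
        ⟨(f - c • 1) z, heq ▸ LinearMap.mem_range_self _ z⟩
      exact congrArg Subtype.val h1
    refine ⟨c, ψ, w, fun h => ?_, hw0, LinearMap.ext fun z => by simp [hψ]⟩
    obtain ⟨z, hz⟩ := hw
    rw [← hψ z, h, LinearMap.zero_apply, zero_smul] at hz
    exact hw0 hz.symm
  obtain ⟨a, φ, u, hφ, hu, hA'⟩ := shape A hA hA1
  have ha : a ≠ 0 := by
    rintro rfl
    rw [zero_smul, zero_add] at hA'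
    have h1 := LinearMap.finrank_range_add_finrank_ker φ
    have h2 := Submodule.finrank_le (LinearMap.range φ)
    rw [Module.finrank_self] at h2
    have h3 : LinearMap.ker φ ≠ ⊥ := fun h => by rw [h, finrank_bot] at h1; omega
    obtain ⟨z, hz, hz0⟩ := Submodule.exists_mem_ne_zero_of_ne_bot h3
    refine hz0 ((Submodule.eq_bot_iff _).1 (ker_eq_bot_of_det (hdA ▸ one_ne_zero : LinearMap.det A ≠ 0)) z ?_)
    rw [LinearMap.mem_ker, hA', LinearMap.smulRight_apply, LinearMap.mem_ker.1 hz, zero_smul]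
  obtain ⟨δ, hδdef⟩ : ∃ δ, δ = 1 + φ (a⁻¹ • u) := ⟨_, rfl⟩
  have hA₁ : A = a • LinearMap.transvection φ (a⁻¹ • u) := by
    rw [hA']
    refine LinearMap.ext fun z => ?_
    simp [LinearMap.transvection.apply, smul_smul, ha]
    rw [mul_left_comm, mul_inv_cancel₀ ha, mul_one]
  have hPR : PR δ (LinearMap.transvection φ (a⁻¹ • u)) :=
    ⟨φ, _, hφ, smul_ne_zero (inv_ne_zero ha) hu, hδdef.symm, rfl⟩
  have han : a ^ n * δ = 1 := by
    rw [← hdA, hA₁, LinearMap.det_smul, hPR.det, hd]
  have hδ : δ ≠ 0 := fun h => by simp [h] at han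
  have hlift : ∀ (L : List (End K V)) (g : End K V), L.length = n → (∀ x ∈ L, PR δ x) → L.prod = g →
      ∃ L' : List (End K V), L'.length = n ∧ (∀ x ∈ L', SConj A x) ∧ L'.prod = a ^ n • g := by
    intro L g hL hLp hLe
    refine ⟨L.map (a • ·), by simp [hL], fun y hy => ?_, by rw [prod_map_smul, hL, hLe]⟩
    obtain ⟨x, hx, rfl⟩ := List.mem_map.1 hy
    rw [hA₁]
    exact (hPR.sconj (hd ▸ hn) (hLp x hx)).smul a
  have hd2 : 2 ≤ finrank K V := by omega
  refine ⟨?_, fun g hg hg1 hdg => ?_⟩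
  · by_cases h1 : δ = 1
    · obtain ⟨L, hL, hLp, hLe⟩ := comm_prod h4 hd2 hδ hφ n (by omega) 0 (by simp [h1]) (Or.inr (by omega))
      have hone : LinearMap.transvection φ (0 : V) = 1 := LinearMap.ext fun z => by
        rw [LinearMap.transvection.apply, smul_zero, add_zero, Module.End.one_apply]
      obtain ⟨L', h2, h3, h5⟩ := hlift L 1 hL hLp (hLe.trans hone)
      exact ⟨L', a ^ n, h2, h3, h5⟩
    · rw [← hd]
      refine scalarProd_two_eig (a := a) (b := a * δ) (fun h => h1 ?_) ?_ hdA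
      · exact mul_left_cancel₀ ha (h.symm.trans (mul_one a).symm)
      · refine LinearMap.ext fun z => ?_
        simp [hA₁, Module.End.mul_apply, LinearMap.transvection.apply, hδdef, smul_smul, map_add, map_sub]
        match_scalars <;> field_simp <;> ring
  obtain ⟨c, ψ, w, hψ, hw, hg'⟩ := shape g hg hg1
  obtain ⟨g', hg''⟩ : ∃ g', g' = (a ^ n)⁻¹ • g := ⟨_, rfl⟩
  have hgg : g = a ^ n • g' := by rw [hg'', smul_smul, mul_inv_cancel₀ (pow_ne_zero n ha), one_smul]
  have hdg' : LinearMap.det g' = δ ^ n := by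
    rw [hg'', LinearMap.det_smul, hdg, hd, mul_one, inv_pow, eq_comm, ← mul_eq_one_iff_eq_inv₀ (pow_ne_zero _ (pow_ne_zero _ ha)),
      ← mul_pow, mul_comm, han, one_pow]
  obtain ⟨c', hc'⟩ : ∃ c', c' = (a ^ n)⁻¹ * c := ⟨_, rfl⟩
  have hgc : g' = c' • 1 + ((a ^ n)⁻¹ • ψ).smulRight w := by
    rw [hg'', hg', hc']
    exact LinearMap.ext fun z => by simp [smul_smul]
  suffices ∃ L : List (End K V), L.length = n ∧ (∀ x ∈ L, PR δ x) ∧ L.prod = g' by
    obtain ⟨L, hL, hLp, hLe⟩ := this
    rw [hgg]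
    exact hlift L g' hL hLp hLe
  by_cases h1 : c' = 1
  · have hg1' : g' = LinearMap.transvection ((a ^ n)⁻¹ • ψ) w := by
      rw [hgc, h1]; exact LinearMap.ext fun z => by simp [LinearMap.transvection.apply]
    rw [hg1', LinearMap.transvection.det] at hdg'
    rw [hg1']
    exact comm_prod h4 hd2 hδ (smul_ne_zero (inv_ne_zero (pow_ne_zero n ha)) hψ) n (by omega) w hdg' (Or.inl hw)
  · have hc0 : c' ≠ 0 := by
      intro h
      rw [h, zero_smul, zero_add] at hgc
      have h1 := LinearMap.finrank_range_add_finrank_ker ψ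
      have h2 := Submodule.finrank_le (LinearMap.range ψ)
      rw [Module.finrank_self] at h2
      have h3 : LinearMap.ker ψ ≠ ⊥ := fun h => by rw [h, finrank_bot] at h1; omega
      obtain ⟨z, hz, hz0⟩ := Submodule.exists_mem_ne_zero_of_ne_bot h3
      refine hz0 ((Submodule.eq_bot_iff _).1 (ker_eq_bot_of_det (hdg' ▸ pow_ne_zero n hδ : LinearMap.det g' ≠ 0)) z ?_)
      rw [LinearMap.mem_ker, hgc]
      simp [LinearMap.mem_ker.1 hz]
    have hns : NS g' := fun k hk => hg (a ^ n * k) (by rw [hgg, hk, smul_smul])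
    obtain ⟨L, hL, hLp, hLe, -⟩ := refl_prod hδ n (by omega) V g' c' _ w hd hns h1 hc0 hgc hdg'
    exact ⟨L, hL, hLp, hLe⟩

end Cfsg.Agent.LevCover
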