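import Cfsg.Agent.Lib.LevCover.Choice

/-!
Dimensions two and three.
-/

set_option autoImplicit false

namespace Cfsg.Agent.LevCover

open Module Polynomial Cfsg.Agent.GL.TwoReg

universe u

variable {K : Type u} [Field K] {V : Type u} [AddCommGroup V] [Module K V]

/-- No translate by a scalar has rank at most one. -/
def Gen (f : End K V) : Prop := ∀ c : K, 2 ≤ finrank K (LinearMap.range (f - c • 1))

variable [FiniteDimensional K V]

theorem ker_eq_bot_of_det {f : End K V} (h : LinearMap.det f ≠ 0) : LinearMap.ker f = ⊥ := by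
  by_contra hk
  exact h (LinearMap.det_eq_zero_iff_ker_ne_bot.2 hk)

theorem Gen.ns {f : End K V} (h : Gen f) : NS f := fun c hc => by
  have := h c
  rw [hc, sub_self, LinearMap.range_zero, finrank_bot] at this
  omega

theorem Gen.free_two {f : End K V} (h : Gen f) (hd : finrank K V = 2) : Free f := fun z c hz => by
  by_contra hz0
  have h1 := h c
  have h2 := LinearMap.finrank_range_add_finrank_ker (f - c • 1)
  have h3 : LinearMap.ker (f - c • 1) ≠ ⊥ := fun hb => hz0 ((Submodule.eq_bot_iff _).1 hb z (by simp [hz]))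
  have h5 : finrank K (LinearMap.ker (f - c • 1)) ≠ 0 := fun h5 => h3 (Submodule.finrank_eq_zero.1 h5)
  omega

theorem cayley_two_trace (hd : finrank K V = 2) (H : End K V) :
    H * H = LinearMap.trace K V H • H - LinearMap.det H • 1 := by
  let b := Module.finBasisOfFinrankEq K V hd
  apply (LinearMap.toMatrixAlgEquiv b).injective
  rw [map_mul, map_sub, map_smul, map_smul, map_one, LinearMap.trace_eq_matrix_trace K b, ← LinearMap.det_toMatrix b]
  change LinearMap.toMatrix b b H * LinearMap.toMatrix b b H =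
    Matrix.trace (LinearMap.toMatrix b b H) • LinearMap.toMatrix b b H - (LinearMap.toMatrix b b H).det • 1
  ext i j
  fin_cases i <;> fin_cases j <;>
    simp [Matrix.mul_apply, Fin.sum_univ_two, Matrix.trace_fin_two, Matrix.det_fin_two, -LinearMap.det_toMatrix] <;> ring

/-- Two conjugates in dimension two give every endomorphism without eigenvalues. -/
theorem two_factor [Fintype K] (hd : finrank K V = 2) {A h : End K V} (hA : NS A) (hdA : LinearMap.det A ≠ 0)
    (hh : Gen h) (hdet : LinearMap.det h = LinearMap.det A ^ 2) :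
    ∃ L : List (End K V), L.length = 2 ∧ (∀ x ∈ L, Sim A x) ∧ L.prod = h ∧ NoEig L := by
  have hfree := hh.free_two hd
  have hAq := cayley_two_trace hd A
  set t := LinearMap.trace K V A
  set d := LinearMap.det A
  have hhq := cayley_two_trace hd h
  set T := LinearMap.trace K V h
  have hnot : ∀ r : K, r ^ 2 - T * r + LinearMap.det h ≠ 0 := by
    intro r hr
    have : Nontrivial V := Module.nontrivial_of_finrank_pos (R := K) (by omega)
    obtain ⟨z, hz⟩ := exists_ne (0 : V)
    by_cases hw : h z - r • z = 0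
    · exact hz (hfree z r (sub_eq_zero.1 hw))
    refine hw (hfree _ (T - r) ?_)
    have h1 : h (h z) = T • h z - LinearMap.det h • z := by simpa using LinearMap.congr_fun hhq z
    rw [map_sub, map_smul, h1, show LinearMap.det h = T * r - r ^ 2 by linear_combination hr]
    match_scalars <;> ring
  obtain ⟨x, y, hxy, hx, hy, hxd⟩ := quad_factor hd hh.ns hhq hdA (by rw [hdet, sq]) (t := t) (t' := t)
    (Or.inr (Or.inl fun hT => by
      obtain ⟨r, hr, hTr⟩ := exists_double_root hT
      exact hnot (-r) (by rw [← hr, hTr]; ring)))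
  have hyd : LinearMap.det y = d := by
    rw [hxy, map_mul, hxd] at hdet
    exact mul_left_cancel₀ hdA (by rw [hdet, sq])
  have key : ∀ (z w : End K V), z * z = t • z - d • 1 → w * w = t • w - d • 1 →
      (∀ c : K, z = c • 1 → h = c • w) → NS z := by
    intro z w hz hw hzw c hc
    have : Nontrivial V := Module.nontrivial_of_finrank_pos (R := K) (by omega)
    obtain ⟨v, hv⟩ := exists_ne (0 : V)
    have h1 := LinearMap.congr_fun hz v
    simp [hc, smul_smul, ← sub_smul] at h1
    have hcd : c * c = t * c - d := smul_left_injective K hv h1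
    have hh' := hzw c hc
    by_cases hwv : w v - c • v = 0
    · exact hv (hfree v (c * c) (by rw [hh', LinearMap.smul_apply, sub_eq_zero.1 hwv, smul_smul]))
    · refine hwv (hfree _ (c * (t - c)) ?_)
      have h2 : w (w v) = t • w v - d • v := by simpa using LinearMap.congr_fun hw v
      rw [hh', LinearMap.smul_apply, map_sub, map_smul, h2, show d = t * c - c * c by linear_combination hcd]
      match_scalars <;> ring
  have hxns : NS x := key x y hx hy fun c hc => by rw [hxy, hc, smul_one_mul]
  have hyns : NS y := key y x hy hx fun c hc => by rw [hxy, hc, mul_smul_one]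
  have hA' := cycTy_quad hd hA hAq
  refine ⟨[x, y], rfl, ?_, by simp [hxy], fun z ν hz => ?_⟩
  · intro w hw
    rcases List.mem_cons.1 hw with rfl | hw
    · exact hA'.sim (cycTy_quad hd hxns hx)
    · simp at hw
      exact hw ▸ hA'.sim (cycTy_quad hd hyns hy)
  · by_contra hne
    push Not at hne
    have h1 := hne x (by simp)
    have h2 := hne y (by simp)
    exact hz (hfree z (ν * ν) (by rw [hxy, Module.End.mul_apply, h2, map_smul, h1, smul_smul]))

omit [FiniteDimensional K V] in
theorem triple_indep {W : Type u} [AddCommGroup W] [Module K W] {f : V →ₗ[K] W} (hf : Function.Injective f)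
    {a b c : V} (h : LinearIndependent K ![a, b, c]) : LinearIndependent K ![f a, f b, f c] := by
  have := h.map' f (LinearMap.ker_eq_bot.2 hf)
  have h' : (![f a, f b, f c] : Fin 3 → W) = f ∘ ![a, b, c] := by ext i; fin_cases i <;> rfl
  rw [h']
  exact this

/-- Similarity from a common cyclic relation in dimension three. -/
theorem intertwine_three (hd : finrank K V = 3) {f g : End K V} {v w : V}
    (hv : LinearIndependent K ![v, f v, f (f v)]) (hw : LinearIndependent K ![w, g w, g (g w)]) {a b c : K}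
    (hf : f (f (f v)) = a • v + b • f v + c • f (f v)) (hg : g (g (g w)) = a • w + b • g w + c • g (g w)) :
    Sim f g := by
  let B := basisOfLinearIndependentOfCardEqFinrank hv (by simp [hd])
  let B' := basisOfLinearIndependentOfCardEqFinrank hw (by simp [hd])
  let e : V ≃ₗ[K] V := B.equiv B' (Equiv.refl _)
  have hB : ⇑B = ![v, f v, f (f v)] := coe_basisOfLinearIndependentOfCardEqFinrank _ _
  have hB' : ⇑B' = ![w, g w, g (g w)] := coe_basisOfLinearIndependentOfCardEqFinrank _ _
  have he : ∀ i, e (B i) = B' i := fun i => by simp [e]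
  have e0 : e v = w := by simpa [hB, hB'] using he 0
  have e1 : e (f v) = g w := by simpa [hB, hB'] using he 1
  have e2 : e (f (f v)) = g (g w) := by simpa [hB, hB'] using he 2
  refine ⟨e, fun x => ?_⟩
  have h' : (e : V →ₗ[K] V).comp f = g.comp (e : V →ₗ[K] V) := by
    refine B.ext fun i => ?_
    fin_cases i <;> simp [hB, e0, e1, e2, hf, hg]
  exact LinearMap.congr_fun h' x

/-- A cyclic vector in dimension three. -/
theorem exists_cyclic_three [Fintype K] (h4 : 4 ≤ Fintype.card K) (hd : finrank K V = 3) {g : End K V}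
    (hg : Gen g) (hdet : LinearMap.det g ≠ 0) : ∃ v, LinearIndependent K ![v, g v, g (g v)] := by
  classical
  let P : K ⊕ K → Submodule K V := Sum.elim
    (fun c => if c = 0 then ⊥ else LinearMap.ker (g - c • 1))
    (fun c => if c = 0 ∨ LinearMap.ker (g - c • 1) = ⊥ then ⊥ else LinearMap.range (g - c • 1))
  have hker : ∀ c : K, finrank K (LinearMap.ker (g - c • 1)) ≤ 1 := fun c => by
    have := LinearMap.finrank_range_add_finrank_ker (g - c • 1)
    have := hg c
    omega
  have hcount : Nat.card (⊥ : Submodule K V) + ∑ i, Nat.card (P i) < Fintype.card K ^ finrank K V := by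
    rw [Fintype.sum_sum_type, ← Finset.add_sum_erase _ _ (Finset.mem_univ (0 : K)),
      ← Finset.add_sum_erase (f := fun c => Nat.card (P (Sum.inr c))) _ (Finset.mem_univ (0 : K))]
    have h1 : ∀ c ∈ Finset.univ.erase (0 : K), Nat.card (P (Sum.inl c)) ≤ Fintype.card K := fun c hc => by
      simp only [P, Sum.elim_inl, if_neg (Finset.ne_of_mem_erase hc)]
      simpa using card_le_pow (hker c)
    have h2 : ∀ c ∈ Finset.univ.erase (0 : K), Nat.card (P (Sum.inr c)) ≤ Fintype.card K ^ 2 := fun c hc => by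
      simp only [P, Sum.elim_inr]
      split_ifs with h
      · exact card_le_pow (by simp)
      · refine card_le_pow ?_
        have h3 := LinearMap.finrank_range_add_finrank_ker (g - c • 1)
        have h5 : finrank K (LinearMap.ker (g - c • 1)) ≠ 0 := fun h5 =>
          h (Or.inr (Submodule.finrank_eq_zero.1 h5))
        omega
    have h3 := Finset.sum_le_card_nsmul _ _ _ h1
    have h5 := Finset.sum_le_card_nsmul _ _ _ h2
    rw [Finset.card_erase_of_mem (Finset.mem_univ _), Finset.card_univ, smul_eq_mul] at h3 h5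
    simp only [P, Sum.elim_inl, Sum.elim_inr, true_or, if_true, Nat.card_unique] at h3 h5 ⊢
    rw [hd]
    obtain ⟨k, hk⟩ : ∃ k, Fintype.card K = k + 4 := ⟨Fintype.card K - 4, by omega⟩
    rw [hk, show k + 4 - 1 = k + 3 by omega] at h3 h5
    rw [hk]
    nlinarith
  obtain ⟨v, hv, hvP⟩ := exists_outside ⊥ P hcount
  have hv0 : v ≠ 0 := fun h => hv (by simp [h])
  have hne : ∀ c : K, g v ≠ c • v := by
    intro c hc
    by_cases hc0 : c = 0
    · subst hc0
      rw [zero_smul] at hc
      exact hv0 ((Submodule.eq_bot_iff _).1 (ker_eq_bot_of_det hdet) v hc)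
    · exact hvP (Sum.inl c) (by simp [P, hc0, hc])
  refine ⟨v, ?_⟩
  rw [Fintype.linearIndependent_iff]
  intro a ha
  simp [Fin.sum_univ_three] at ha
  have h2 : a 2 = 0 := by
    by_contra h2
    set S : Submodule K V := Submodule.span K {v, g v} with hS
    have hinv : ∀ z ∈ S, g z ∈ S := by
      intro z hz
      obtain ⟨p, q, rfl⟩ := Submodule.mem_span_pair.1 hz
      rw [map_add, map_smul, map_smul]
      refine S.add_mem (S.smul_mem _ (Submodule.subset_span (by simp))) (S.smul_mem _ ?_)
      rw [show g (g v) = (-(a 0 / a 2)) • v + (-(a 1 / a 2)) • g v from by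
        have := congrArg (fun z => (a 2)⁻¹ • z) ha
        simp only [smul_add, smul_smul, smul_zero, inv_mul_cancel₀ h2, one_smul] at this
        rw [eq_neg_of_add_eq_zero_right this]
        simp [neg_smul, div_eq_inv_mul]
        abel]
      exact Submodule.mem_span_pair.2 ⟨_, _, rfl⟩
    have hdS : finrank K S = 2 := by
      rw [hS, show ({v, g v} : Set V) = Set.range ![v, g v] by simp [Matrix.range_cons, Matrix.range_empty, Set.pair_comm],
        finrank_span_eq_card ((pair_indep_iff hv0).2 hne)]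
      simp
    obtain ⟨x, hx⟩ : ∃ x, x ∉ S := by
      by_contra hc
      push Not at hc
      rw [Submodule.eq_top_iff'.2 hc, finrank_top] at hdS
      omega
    have htop : S ⊔ K ∙ x = ⊤ := by
      apply Submodule.eq_top_of_finrank_eq
      have hlt : S < S ⊔ K ∙ x := lt_of_le_of_ne le_sup_left fun h => hx (h ▸ Submodule.mem_sup_right
        (Submodule.mem_span_singleton_self x))
      have := Submodule.finrank_lt_finrank_of_lt hlt
      have := Submodule.finrank_le (S ⊔ K ∙ x)
      omega
    obtain ⟨c, hc⟩ : ∃ c : K, g x - c • x ∈ S := by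
      obtain ⟨y, hy, z, hz, hyz⟩ := Submodule.mem_sup.1 (htop ▸ Submodule.mem_top (x := g x) : g x ∈ S ⊔ K ∙ x)
      obtain ⟨c, rfl⟩ := Submodule.mem_span_singleton.1 hz
      exact ⟨c, by rw [← hyz, add_sub_cancel_right]; exact hy⟩
    have hle : LinearMap.range (g - c • 1) ≤ S := by
      rintro _ ⟨z, rfl⟩
      obtain ⟨y, hy, t, ht, rfl⟩ := Submodule.mem_sup.1 (htop ▸ Submodule.mem_top (x := z) : z ∈ S ⊔ K ∙ x)
      obtain ⟨r, rfl⟩ := Submodule.mem_span_singleton.1 ht
      rw [map_add, map_smul]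
      exact S.add_mem (S.sub_mem (hinv y hy) (S.smul_mem _ hy)) (S.smul_mem _ hc)
    have heq : LinearMap.range (g - c • 1) = S :=
      Submodule.eq_of_le_of_finrank_le hle (by have := hg c; omega)
    have hk : LinearMap.ker (g - c • 1) ≠ ⊥ := fun hb => by
      have := LinearMap.finrank_range_add_finrank_ker (g - c • 1)
      rw [hb, finrank_bot, heq] at this
      omega
    have hc0 : c ≠ 0 := fun h => hk (by rw [h, zero_smul, sub_zero]; exact ker_eq_bot_of_det hdet)
    refine hvP (Sum.inr c) ?_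
    simp only [P, Sum.elim_inr, if_neg (not_or.2 ⟨hc0, hk⟩), heq]
    exact Submodule.subset_span (by simp)
  have h01 : a 0 = 0 ∧ a 1 = 0 := LinearIndependent.pair_iff.1 ((pair_indep_iff hv0).2 hne) (a 0) (a 1) (by
    simpa [h2] using ha)
  intro i
  fin_cases i
  exacts [h01.1, h01.2, h2]

/-- The determinant of a cyclic endomorphism in dimension three. -/
theorem det_three (hd : finrank K V = 3) {f : End K V} {v : V} (hv : LinearIndependent K ![v, f v, f (f v)])
    {a b c : K} (hf : f (f (f v)) = a • v + b • f v + c • f (f v)) : LinearMap.det f = a := by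
  let B := basisOfLinearIndependentOfCardEqFinrank hv (by simp [hd])
  have hB : ⇑B = ![v, f v, f (f v)] := coe_basisOfLinearIndependentOfCardEqFinrank _ _
  have h0 : f (B (0 : Fin 3)) = B 1 := by simp [hB]
  have h1 : f (B (1 : Fin 3)) = B 2 := by simp [hB]
  have h2 : f (B (2 : Fin 3)) = a • B 0 + b • B 1 + c • B 2 := by simp [hB, hf]
  rw [← LinearMap.det_toMatrix B, Matrix.det_fin_three]
  simp [LinearMap.toMatrix_apply, h0, h1, h2, Finsupp.single_apply]

/-- Triangular endomorphisms with a simple first eigenvalue are products of two cyclic conjugates. -/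
theorem three_split (hd : finrank K V = 3) {A h : End K V} {v : V}
    (hv : LinearIndependent K ![v, A v, A (A v)]) (hdA : LinearMap.det A ≠ 0) {f₀ f₁ f₂ : V}
    (hf : LinearIndependent K ![f₀, f₁, f₂]) {b a₂ a₃ x₀ y₀ z : K} (h0 : h f₀ = b • f₀)
    (h1 : h f₁ = x₀ • f₀ + a₂ • f₁) (h2 : h f₂ = y₀ • f₀ + z • f₁ + a₃ • f₂) (hb2 : b ≠ a₂) (hb3 : b ≠ a₃)
    (hdet : b * a₂ * a₃ = LinearMap.det A ^ 2) : ∃ p q : End K V, Sim A p ∧ Sim A q ∧ h = p * q := by
  obtain ⟨α, β, γ, hrel⟩ : ∃ α β γ : K, A (A (A v)) = α • v + β • A v + γ • A (A v) := by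
    have hspan := hv.span_eq_top_of_card_eq_finrank' (by simp [hd])
    obtain ⟨c, hc⟩ := (Submodule.mem_span_range_iff_exists_fun K).1 (hspan ▸ Submodule.mem_top (x := A (A (A v))))
    exact ⟨c 0, c 1, c 2, by rw [← hc, Fin.sum_univ_three]; simp⟩
  have hα := det_three hd hv hrel
  rw [hα] at hdet hdA
  obtain ⟨Ae, hAe⟩ := exists_equiv_of_det (A := A) (hα.symm ▸ hdA)
  have hAa : ∀ z, A z = Ae z := fun z => (LinearMap.congr_fun hAe z).symm
  have hb0 : b ≠ 0 := fun h => by
    rw [h, zero_mul, zero_mul, eq_comm] at hdet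
    exact hdA ((pow_eq_zero_iff (by norm_num)).1 hdet)
  have ha2 : a₂ ≠ 0 := fun h => by
    rw [h, mul_zero, zero_mul, eq_comm] at hdet
    exact hdA ((pow_eq_zero_iff (by norm_num)).1 hdet)
  obtain ⟨c₀, hc₀⟩ : ∃ c₀, c₀ = α⁻¹ := ⟨_, rfl⟩
  obtain ⟨c₁, hc₁⟩ : ∃ c₁, c₁ = -(γ / α) := ⟨_, rfl⟩
  obtain ⟨c₂, hc₂⟩ : ∃ c₂, c₂ = -(β / α) := ⟨_, rfl⟩
  -- the wanted entries
  obtain ⟨w₂, hw₂⟩ : ∃ w₂, w₂ = z + a₃ * c₂ := ⟨_, rfl⟩
  obtain ⟨xn, hxn⟩ : ∃ xn, xn = γ - w₂ := ⟨_, rfl⟩
  obtain ⟨w₁, hw₁⟩ : ∃ w₁, a₂ * w₁ = β + γ * xn - xn ^ 2 :=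
    ⟨(β + γ * xn - xn ^ 2) / a₂, mul_div_cancel₀ _ ha2⟩
  obtain ⟨yn, hyn⟩ : ∃ yn, yn = w₁ - a₃ * c₁ := ⟨_, rfl⟩
  obtain ⟨p, hp⟩ : ∃ p, x₀ + p * (b - a₂) = xn :=
    ⟨(xn - x₀) / (b - a₂), by rw [div_mul_cancel₀ _ (sub_ne_zero.2 hb2)]; ring⟩
  obtain ⟨r, hr⟩ : ∃ r, y₀ - z * p + r * (b - a₃) = yn :=
    ⟨(yn - y₀ + z * p) / (b - a₃), by rw [div_mul_cancel₀ _ (sub_ne_zero.2 hb3)]; ring⟩
  -- the new basis
  obtain ⟨g₁, hgd₁⟩ : ∃ g₁, g₁ = f₁ + p • f₀ := ⟨_, rfl⟩
  obtain ⟨g₂, hgd₂⟩ : ∃ g₂, g₂ = f₂ + r • f₀ := ⟨_, rfl⟩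
  have hg : LinearIndependent K ![f₀, g₁, g₂] := by
    rw [Fintype.linearIndependent_iff] at hf ⊢
    intro c hc
    simp [Fin.sum_univ_three, hgd₁, hgd₂] at hc
    have := hf ![c 0 + c 1 * p + c 2 * r, c 1, c 2] (by
      simp [Fin.sum_univ_three]
      rw [← hc]
      match_scalars <;> ring)
    intro i
    have e1 : c 1 = 0 := by simpa using this 1
    have e2 : c 2 = 0 := by simpa using this 2
    fin_cases i
    · simpa [e1, e2] using this 0
    · exact e1
    · exact e2
  have hg1 : h g₁ = xn • f₀ + a₂ • g₁ := by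
    simp only [hgd₁, map_add, map_smul, h0, h1, ← hp]
    match_scalars <;> ring
  have hg2 : h g₂ = yn • f₀ + z • g₁ + a₃ • g₂ := by
    simp only [hgd₁, hgd₂, map_add, map_smul, h0, h2, ← hr]
    match_scalars <;> ring
  let B := basisOfLinearIndependentOfCardEqFinrank hg (by simp [hd])
  have hB : ⇑B = ![f₀, g₁, g₂] := coe_basisOfLinearIndependentOfCardEqFinrank _ _
  let C : End K V := B.constr K ![g₁, g₂, c₀ • f₀ + c₁ • g₁ + c₂ • g₂]
  have hCB : ∀ i, C (![f₀, g₁, g₂] i) = ![g₁, g₂, c₀ • f₀ + c₁ • g₁ + c₂ • g₂] i := fun i => by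
    rw [← hB]; exact B.constr_basis K _ i
  have C0 : C f₀ = g₁ := hCB 0
  have C1 : C g₁ = g₂ := hCB 1
  have C2 : C g₂ = c₀ • f₀ + c₁ • g₁ + c₂ • g₂ := hCB 2
  -- `C` is similar to the inverse of `A`
  have hAinv : Sim (Ae.symm : End K V) C := by
    refine intertwine_three hd (v := A (A v)) (w := f₀) (a := c₀) (b := c₁) (c := c₂) ?_ ?_ ?_ ?_
    · simp only [LinearEquiv.coe_coe, hAa, LinearEquiv.symm_apply_apply]
      simp only [hAa] at hv
      have := LinearIndependent.comp hv Fin.rev Fin.rev_injective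
      convert this using 1
      ext i
      fin_cases i <;> rfl
    · rw [C0, C1]; exact hg
    · simp only [LinearEquiv.coe_coe, hAa, LinearEquiv.symm_apply_apply]
      apply Ae.injective
      simp only [map_add, map_smul, LinearEquiv.apply_symm_apply]
      simp only [hAa] at hrel
      rw [hrel, hc₀, hc₁, hc₂]
      match_scalars <;> field_simp <;> ring
    · rw [C0, C1, C2]
  obtain ⟨e, he⟩ := hAinv
  let p' : End K V := e.conj A
  have hpC : p' * C = 1 := LinearMap.ext fun x => by
    obtain ⟨y, rfl⟩ := e.surjective x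
    rw [Module.End.mul_apply, ← he, LinearEquiv.conj_apply_apply, e.symm_apply_apply]
    simp [hAa]
  let q : End K V := C * h
  have q0 : q f₀ = b • g₁ := by simp [q, Module.End.mul_apply, h0, C0]
  have q1 : q g₁ = xn • g₁ + a₂ • g₂ := by simp [q, Module.End.mul_apply, hg1, C0, C1]
  have q2 : q g₂ = yn • g₁ + z • g₂ + a₃ • (c₀ • f₀ + c₁ • g₁ + c₂ • g₂) := by
    simp [q, Module.End.mul_apply, hg2, C0, C1, C2]
  refine ⟨p', q, sim_conj e A, ?_, by rw [← mul_assoc, hpC, one_mul]⟩
  refine intertwine_three hd (v := v) (w := f₀) hv ?_ hrel ?_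
  · rw [q0, map_smul, q1]
    rw [Fintype.linearIndependent_iff] at hg ⊢
    intro c hc
    simp [Fin.sum_univ_three, smul_add, smul_smul] at hc
    have := hg ![c 0, c 1 * b + c 2 * (b * xn), c 2 * (b * a₂)] (by
      simp [Fin.sum_univ_three]
      rw [← hc]
      match_scalars <;> ring)
    have e0 : c 0 = 0 := by simpa using this 0
    have e2 : c 2 = 0 := by
      have h' : c 2 * (b * a₂) = 0 := by simpa using this 2
      exact (mul_eq_zero.1 h').resolve_right (mul_ne_zero hb0 ha2)
    have e1 : c 1 = 0 := by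
      have h' : c 1 * b + c 2 * (b * xn) = 0 := by simpa using this 1
      rw [e2, zero_mul, add_zero] at h'
      exact (mul_eq_zero.1 h').resolve_right hb0
    intro i
    fin_cases i
    exacts [e0, e1, e2]
  · simp only [q0, q1, q2, map_add, map_smul, smul_add, smul_smul]
    match_scalars
    all_goals first
      | (rw [hyn]; linear_combination b * hw₁)
      | (rw [hxn, hw₂]; ring1)
      | (rw [hc₀]; field_simp; linear_combination hdet)

/-- Norms are onto: full determinants for an irreducible polynomial. -/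
theorem fullDet_rootMul_irr [Fintype K] {g : K[X]} (hg : Irreducible g) (hm : g.Monic) :
    FullDet (Semisimple.rootMul g) := by
  have := Semisimple.finite_adjoinRoot hm
  have : Fact (Irreducible g) := ⟨hg⟩
  have : Finite (AdjoinRoot g) := Module.finite_of_finite K
  intro d hd
  obtain ⟨x, hx⟩ := FiniteField.norm_surjective K (AdjoinRoot g) d
  have hdet : LinearMap.det (Algebra.lmul K (AdjoinRoot g) x) = d := by rw [← Algebra.norm_apply]; exact hx
  obtain ⟨e, he⟩ := exists_equiv_of_det (A := Algebra.lmul K (AdjoinRoot g) x) (hdet ▸ hd)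
  refine ⟨e, he.symm ▸ hdet, LinearMap.ext fun y => ?_⟩
  obtain ⟨z, rfl⟩ := e.surjective y
  rw [LinearEquiv.conj_apply_apply, e.symm_apply_apply]
  have h' : ∀ w, e w = x * w := fun w => LinearMap.congr_fun he w
  simp [h', Semisimple.rootMul, mul_left_comm]

/-- A free endomorphism in dimension three. -/
theorem cycTy_three_free [Fintype K] (hd : finrank K V = 3) {A : End K V} (hA : Free A) {v : V}
    (hv : LinearIndependent K ![v, A v, A (A v)]) : ∃ g : K[X], Irreducible g ∧ CycTy A g := by
  have hspan := hv.span_eq_top_of_card_eq_finrank' (by simp [hd])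
  obtain ⟨c, hc⟩ := (Submodule.mem_span_range_iff_exists_fun K).1 (hspan ▸ Submodule.mem_top (x := A (A (A v))))
  rw [Fin.sum_univ_three] at hc
  simp at hc
  let g : K[X] := X ^ 3 - C (c 2) * X ^ 2 - C (c 1) * X - C (c 0)
  have hdeg : g.natDegree = 3 := by simp only [g]; compute_degree!
  have hcyc : ∀ x, ∃ r : K[X], aeval A r v = x := fun x => by
    obtain ⟨a, ha⟩ := (Submodule.mem_span_range_iff_exists_fun K).1 (hspan ▸ Submodule.mem_top (x := x))
    refine ⟨C (a 0) + C (a 1) * X + C (a 2) * X ^ 2, ?_⟩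
    rw [← ha, Fin.sum_univ_three]
    simp [Module.algebraMap_end_apply, pow_two]
  have hev : aeval A g v = 0 := by
    simp [g, Module.algebraMap_end_apply, pow_succ, ← hc]
  have hzero : aeval A g = 0 := LinearMap.ext fun x => by
    obtain ⟨r, rfl⟩ := hcyc x
    rw [← Module.End.mul_apply, ← map_mul, mul_comm, map_mul, Module.End.mul_apply, hev, map_zero]
    rfl
  have hm : g.Monic := by simp only [g]; monicity!
  refine ⟨g, ?_, hm, hdeg.trans hd.symm, hzero, v, hcyc⟩
  apply Polynomial.irreducible_of_degree_le_three_of_not_isRoot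
  · rw [hdeg]; simp
  intro r hr
  obtain ⟨q, hq⟩ := dvd_iff_isRoot.2 hr
  have h1 : (A - algebraMap K _ r) (aeval A q v) = 0 := by
    have := congrArg (fun p => aeval A p v) hq
    rw [hev, map_mul, map_sub, aeval_X, aeval_C] at this
    exact this.symm
  have h2 := hA (aeval A q v) r (sub_eq_zero.1 (by simpa [Module.algebraMap_end_apply] using h1))
  have hq0 : aeval A q = 0 := LinearMap.ext fun x => by
    obtain ⟨s, rfl⟩ := hcyc x
    rw [← Module.End.mul_apply, ← map_mul, mul_comm, map_mul, Module.End.mul_apply, h2, map_zero]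
    rfl
  -- a quadratic relation contradicts independence
  have hq' : q ≠ 0 := fun h => by rw [h, mul_zero] at hq; exact hm.ne_zero hq
  have hqd : q.natDegree = 2 := by
    have := congrArg natDegree hq
    rw [hdeg, natDegree_mul (X_sub_C_ne_zero r) hq', natDegree_X_sub_C] at this
    omega
  have h3 := h2
  rw [q.aeval_eq_sum_range, hqd, LinearMap.sum_apply, Finset.sum_range_succ, Finset.sum_range_succ,
    Finset.sum_range_one] at h3
  simp [pow_two] at h3
  have := Fintype.linearIndependent_iff.1 hv ![q.coeff 0, q.coeff 1, q.coeff 2] (by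
    rw [Fin.sum_univ_three]; simpa using h3) 2
  simp at this
  exact hq' (leadingCoeff_eq_zero.1 (by rw [leadingCoeff, hqd]; exact this))

/-- Three Galois conjugates of a free endomorphism of determinant one. -/
theorem three_one [Fintype K] (hd : finrank K V = 3) {A : End K V} {g : K[X]} (hg : Irreducible g)
    (hA : CycTy A g) (hdet : LinearMap.det A = 1) : ∃ a b c : End K V, Sim A a ∧ Sim A b ∧ Sim A c ∧ a * b * c = 1 := by
  have := Semisimple.finite_adjoinRoot hA.monic
  have : Fact (Irreducible g) := ⟨hg⟩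
  have : Finite (AdjoinRoot g) := Module.finite_of_finite K
  obtain ⟨e, he⟩ := hA.sim_rootMul
  let F : AdjoinRoot g →ₐ[K] AdjoinRoot g := FiniteField.frobeniusAlgHom K (AdjoinRoot g)
  have hFb : Function.Bijective F := (Finite.injective_iff_bijective).1 F.toRingHom.injective
  let L := Algebra.lmul K (AdjoinRoot g)
  have hsim : ∀ x, Sim (L x) (L (x ^ Fintype.card K)) := fun x =>
    ⟨LinearEquiv.ofBijective F.toLinearMap hFb, fun y => by
      show F (x * y) = x ^ Fintype.card K * F y
      rw [map_mul]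
      rfl⟩
  have hA0 : Sim A (L (AdjoinRoot.root g)) := (Sim.symm ⟨e, he⟩)
  have hA1 := hA0.trans (hsim _)
  have hA2 := hA1.trans (hsim _)
  have hnorm : AdjoinRoot.root g * AdjoinRoot.root g ^ Fintype.card K *
      (AdjoinRoot.root g ^ Fintype.card K) ^ Fintype.card K = 1 := by
    have h := FiniteField.algebraMap_norm_eq_prod_pow K (AdjoinRoot g) (AdjoinRoot.root g)
    rw [Semisimple.finrank_adjoinRoot hA.monic, hA.deg, hd, Algebra.norm_apply, ← hA0.det_eq.symm] at h
    simp [hdet, Finset.prod_range_succ, Nat.card_eq_fintype_card, ← pow_mul] at h ⊢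
    rw [h, sq]
  refine ⟨e.conj (L (AdjoinRoot.root g)), e.conj (L (AdjoinRoot.root g ^ Fintype.card K)),
    e.conj (L ((AdjoinRoot.root g ^ Fintype.card K) ^ Fintype.card K)),
    hA0.trans (sim_conj e _), hA1.trans (sim_conj e _), hA2.trans (sim_conj e _), LinearMap.ext fun z => ?_⟩
  simp only [Module.End.mul_apply, LinearEquiv.conj_apply_apply, LinearEquiv.symm_apply_apply]
  show e ((L (AdjoinRoot.root g)) ((L (AdjoinRoot.root g ^ Fintype.card K))
    ((L ((AdjoinRoot.root g ^ Fintype.card K) ^ Fintype.card K)) (e.symm z)))) = z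
  rw [← Module.End.mul_apply, ← Module.End.mul_apply, ← map_mul, ← map_mul, hnorm, map_one, Module.End.one_apply,
    e.apply_symm_apply]

end Cfsg.Agent.LevCover
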