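import Cfsg.Agent.Lib.LevCover.Plane
import Cfsg.Agent.Lib.LevCover.Reflect
import Cfsg.Agent.Lib.LevCover.Diag

/-!
Every endomorphism of determinant one is, up to a scalar, a product of `n` conjugates of a given non-scalar one.
-/

set_option autoImplicit false

namespace Cfsg.Agent.LevCover

open Module Polynomial Cfsg.Agent.GL.TwoReg

universe u

variable {K : Type u} [Field K] {V : Type u} [AddCommGroup V] [Module K V] [FiniteDimensional K V]

theorem finrank_comap_le_inf (f : End K V) (S : Submodule K V) :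
    finrank K (S.comap f) ≤ finrank K (S ⊓ LinearMap.range f : Submodule K V) + finrank K (LinearMap.ker f) := by
  have h : S.comap f = (S ⊓ LinearMap.range f).comap f := by
    ext x; simp
  rw [h]
  exact finrank_comap_le f _

theorem rank_add_ker (A : End K V) (c : K) :
    finrank K (LinearMap.range (A - c • 1)) + finrank K (LinearMap.ker (A - c • 1)) = finrank K V :=
  LinearMap.finrank_range_add_finrank_ker _

theorem ker_disjoint {A : End K V} {a b : K} (h : a ≠ b) :
    LinearMap.ker (A - a • 1) ⊓ LinearMap.ker (A - b • 1) = ⊥ := by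
  rw [Submodule.eq_bot_iff]
  rintro z ⟨h1, h2⟩
  rw [SetLike.mem_coe, LinearMap.mem_ker] at h1 h2
  simp [sub_eq_zero] at h1 h2
  by_contra hz
  exact h (smul_left_injective K hz (h1.symm.trans h2))

theorem two_ker_le (A : End K V) {a b : K} (h : a ≠ b) :
    finrank K (LinearMap.ker (A - a • 1)) + finrank K (LinearMap.ker (A - b • 1)) ≤ finrank K V := by
  have h1 := Submodule.finrank_sup_add_finrank_inf_eq (LinearMap.ker (A - a • 1)) (LinearMap.ker (A - b • 1))
  rw [ker_disjoint h, finrank_bot] at h1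
  have := Submodule.finrank_le (LinearMap.ker (A - a • 1) ⊔ LinearMap.ker (A - b • 1))
  omega

theorem three_ker_le (A : End K V) {a b c : K} (hab : a ≠ b) (hac : a ≠ c) (hbc : b ≠ c) :
    finrank K (LinearMap.ker (A - a • 1)) + finrank K (LinearMap.ker (A - b • 1)) +
      finrank K (LinearMap.ker (A - c • 1)) ≤ finrank K V := by
  set Ea := LinearMap.ker (A - a • 1) with hEa
  set Eb := LinearMap.ker (A - b • 1) with hEb
  set Ec := LinearMap.ker (A - c • 1) with hEc
  have hd : (Ea ⊔ Eb) ⊓ Ec = ⊥ := by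
    rw [Submodule.eq_bot_iff]
    intro z hz
    obtain ⟨hz1, hz2⟩ := Submodule.mem_inf.1 hz
    obtain ⟨x, hx, y, hy, rfl⟩ := Submodule.mem_sup.1 hz1
    simp [hEa, hEb, hEc, sub_eq_zero] at hx hy hz2
    have h0 : (a - c) • x + (b - c) • y = 0 := by
      rw [hx, hy] at hz2
      simp only [sub_smul]
      rw [← sub_eq_zero] at hz2
      rw [← hz2]; abel
    have hxy : (a - c) • x ∈ Ea ⊓ Eb := by
      refine ⟨Ea.smul_mem _ (by simp [hEa, hx]), ?_⟩
      rw [SetLike.mem_coe, eq_neg_of_add_eq_zero_left h0]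
      exact Eb.neg_mem (Eb.smul_mem _ (by simp [hEb, hy]))
    rw [ker_disjoint hab, Submodule.mem_bot, smul_eq_zero] at hxy
    have hx0 := hxy.resolve_left (sub_ne_zero.2 hac)
    rw [hx0, smul_zero, zero_add, smul_eq_zero] at h0
    rw [hx0, h0.resolve_left (sub_ne_zero.2 hbc), add_zero]
  have h1 := Submodule.finrank_sup_add_finrank_inf_eq (Ea ⊔ Eb) Ec
  have h2 := Submodule.finrank_sup_add_finrank_inf_eq Ea Eb
  rw [hd, finrank_bot] at h1
  rw [ker_disjoint hab, finrank_bot] at h2
  have := Submodule.finrank_le (Ea ⊔ Eb ⊔ Ec)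
  omega

variable [Fintype K]

/-- A vector off all eigenlines and all their complements. -/
theorem exists_first (h4 : 4 ≤ Fintype.card K) (hn : 4 ≤ finrank K V) {A : End K V} (hA : Gen A)
    (hdA : LinearMap.det A ≠ 0) : ∃ u : V, LinearIndependent K ![u, A u] ∧
      ∀ c : K, LinearMap.ker (A - c • 1) ≠ ⊥ → u ∉ LinearMap.range (A - c • 1) := by
  classical
  have hker0 : LinearMap.ker (A - (0 : K) • 1) = ⊥ := by rw [zero_smul, sub_zero]; exact ker_eq_bot_of_det hdA
  let P : K ⊕ K → Submodule K V := Sum.elim (fun c => LinearMap.ker (A - c • 1))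
    (fun c => if LinearMap.ker (A - c • 1) ≠ ⊥ then LinearMap.range (A - c • 1) else ⊥)
  have hcount : Nat.card (⊥ : Submodule K V) + ∑ i, Nat.card (P i) < Fintype.card K ^ finrank K V := by
    rw [Fintype.sum_sum_type, ← Finset.add_sum_erase _ _ (Finset.mem_univ (0 : K)),
      ← Finset.add_sum_erase (f := fun c => Nat.card (P (Sum.inr c))) _ (Finset.mem_univ (0 : K))]
    have h1 : ∀ c ∈ Finset.univ.erase (0 : K), Nat.card (P (Sum.inl c)) ≤ Fintype.card K ^ (finrank K V - 2) :=
      fun c _ => card_le_pow (by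
        have := rank_add_ker A c
        have := hA c
        have h9 : finrank K (LinearMap.ker (A - c • 1)) ≤ finrank K V - 2 := by omega
        exact h9)
    have h2 : ∀ c ∈ Finset.univ.erase (0 : K), Nat.card (P (Sum.inr c)) ≤ Fintype.card K ^ (finrank K V - 1) :=
      fun c _ => by
        simp only [P, Sum.elim_inr]
        split_ifs with h
        · refine card_le_pow ?_
          have := rank_add_ker A c
          have h5 : finrank K (LinearMap.ker (A - c • 1)) ≠ 0 := fun h5 => h (Submodule.finrank_eq_zero.1 h5)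
          omega
        · exact card_le_pow (by simp)
    have h3 := Finset.sum_le_card_nsmul _ _ _ h1
    have h5 := Finset.sum_le_card_nsmul _ _ _ h2
    rw [Finset.card_erase_of_mem (Finset.mem_univ _), Finset.card_univ, smul_eq_mul] at h3 h5
    have h6 : Nat.card (P (Sum.inl 0)) = 1 := by simp only [P, Sum.elim_inl, hker0]; simp
    have h7 : Nat.card (P (Sum.inr 0)) = 1 := by simp only [P, Sum.elim_inr, if_neg (not_not.2 hker0)]; simp
    rw [h6, h7]
    simp only [Nat.card_unique]
    obtain ⟨t, ht⟩ : ∃ t, finrank K V = t + 4 := ⟨finrank K V - 4, by omega⟩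
    obtain ⟨k, hk⟩ : ∃ k, Fintype.card K = k + 4 := ⟨Fintype.card K - 4, by omega⟩
    rw [ht, hk, show t + 4 - 2 = t + 2 by omega, show k + 4 - 1 = k + 3 by omega] at h3
    rw [ht, hk, show t + 4 - 1 = t + 3 by omega, show k + 4 - 1 = k + 3 by omega] at h5
    rw [hk, ht]
    have hb : 4 ≤ (k + 4) ^ (t + 2) := le_trans (by omega) (Nat.le_self_pow (by omega) _)
    rw [pow_succ _ (t + 3), pow_succ _ (t + 2)]
    rw [pow_succ _ (t + 2)] at h5
    nlinarith
  obtain ⟨u, hu, huP⟩ := exists_outside ⊥ P hcount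
  have hu0 : u ≠ 0 := fun h => hu (by simp [h])
  refine ⟨u, (pair_indep_iff hu0).2 fun c hc => huP (Sum.inl c) (by simp [P, hc]), fun c hc hmem => ?_⟩
  exact huP (Sum.inr c) (by simp only [P, Sum.elim_inr, if_pos hc]; exact hmem)

theorem comap_bound {A : End K V} {u : V} (hu : LinearIndependent K ![u, A u])
    (hu' : ∀ c : K, LinearMap.ker (A - c • 1) ≠ ⊥ → u ∉ LinearMap.range (A - c • 1)) (c : K) :
    finrank K ((Submodule.span K (Set.range ![u, A u])).comap (A - c • 1)) ≤
      1 + max 1 (finrank K (LinearMap.ker (A - c • 1))) := by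
  set S := Submodule.span K (Set.range ![u, A u])
  have hS : finrank K S = 2 := (finrank_span_eq_card hu).trans (by simp)
  refine (finrank_comap_le_inf _ _).trans ?_
  by_cases hk : LinearMap.ker (A - c • 1) = ⊥
  · rw [hk, finrank_bot]
    have := Submodule.finrank_mono (inf_le_left : S ⊓ LinearMap.range (A - c • 1) ≤ S)
    omega
  · have hlt : S ⊓ LinearMap.range (A - c • 1) < S := by
      refine lt_of_le_of_ne inf_le_left fun h => hu' c hk ?_
      exact (h.symm ▸ (Submodule.subset_span ⟨0, rfl⟩ : u ∈ S) : u ∈ S ⊓ LinearMap.range (A - c • 1)).2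
    have := Submodule.finrank_lt_finrank_of_lt hlt
    omega

theorem pair_sum_elim {A : End K V} {u w : V} (hu : LinearIndependent K ![u, A u])
    (hw : w ∉ Submodule.span K (Set.range ![u, A u]))
    (hw' : ∀ c : K, w ∉ (Submodule.span K (Set.range ![u, A u])).comap (A - c • 1)) :
    LinearIndependent K ![u, w, A u, A w] := by
  set S := Submodule.span K (Set.range ![u, A u])
  rw [Fintype.linearIndependent_iff]
  intro d hd
  simp [Fin.sum_univ_four] at hd
  have hS : ∀ a b : K, a • u + b • A u ∈ S := fun a b =>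
    S.add_mem (S.smul_mem _ (Submodule.subset_span ⟨0, rfl⟩)) (S.smul_mem _ (Submodule.subset_span ⟨1, rfl⟩))
  have hmem : d 1 • w + d 3 • A w ∈ S := by
    have : d 1 • w + d 3 • A w = -(d 0 • u + d 2 • A u) := by
      rw [eq_neg_iff_add_eq_zero, ← hd]; abel
    rw [this]
    exact S.neg_mem (hS _ _)
  have h3 : d 3 = 0 := by
    by_contra h3
    refine hw' (-(d 1 / d 3)) ?_
    show (A - (-(d 1 / d 3)) • 1) w ∈ S
    have := S.smul_mem (d 3)⁻¹ hmem
    rw [smul_add, smul_smul, smul_smul, inv_mul_cancel₀ h3, one_smul] at this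
    simpa [div_eq_inv_mul, add_comm] using this
  have h1 : d 1 = 0 := by
    by_contra h1
    rw [h3, zero_smul, add_zero] at hmem
    exact hw ((S.smul_mem_iff h1).1 hmem)
  rw [h1, h3, zero_smul, zero_smul, add_zero, add_zero] at hd
  have h02 := LinearIndependent.pair_iff.1 hu _ _ hd
  intro i
  fin_cases i
  exacts [h02.1, h1, h02.2, h3]

/-- Two vectors spanning with their images a four-dimensional space. -/
theorem exists_pair (h4 : 4 ≤ Fintype.card K) (hn : 4 ≤ finrank K V) {A : End K V} (hA : Gen A)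
    (hdA : LinearMap.det A ≠ 0) : ∃ u w : V, LinearIndependent K ![u, w, A u, A w] := by
  classical
  obtain ⟨u, hu, hu'⟩ := exists_first h4 hn hA hdA
  set S := Submodule.span K (Set.range ![u, A u])
  have hS : finrank K S = 2 := (finrank_span_eq_card hu).trans (by simp)
  have hcount : Nat.card S + ∑ c : K, Nat.card (S.comap (A - c • 1)) < Fintype.card K ^ finrank K V := by
    rw [← Finset.add_sum_erase _ _ (Finset.mem_univ (0 : K))]
    have h0 : Nat.card (S.comap (A - (0 : K) • 1)) ≤ Fintype.card K ^ 2 := card_le_pow (by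
      refine (comap_bound hu hu' 0).trans ?_
      rw [zero_smul, sub_zero, ker_eq_bot_of_det hdA, finrank_bot]
      simp)
    have h1 : ∀ c ∈ Finset.univ.erase (0 : K), Nat.card (S.comap (A - c • 1)) ≤
        Fintype.card K ^ (finrank K V - 1) := fun c _ => card_le_pow ((comap_bound hu hu' c).trans (by
      have := rank_add_ker A c
      have := hA c
      omega))
    have h3 := Finset.sum_le_card_nsmul _ _ _ h1
    rw [Finset.card_erase_of_mem (Finset.mem_univ _), Finset.card_univ, smul_eq_mul] at h3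
    have h5 : Nat.card S ≤ Fintype.card K ^ 2 := card_le_pow hS.le
    obtain ⟨t, ht⟩ : ∃ t, finrank K V = t + 4 := ⟨finrank K V - 4, by omega⟩
    obtain ⟨k, hk⟩ : ∃ k, Fintype.card K = k + 4 := ⟨Fintype.card K - 4, by omega⟩
    rw [ht, hk, show t + 4 - 1 = t + 3 by omega, show k + 4 - 1 = k + 3 by omega] at h3
    rw [hk] at h0 h5
    rw [hk, ht, pow_succ _ (t + 3)]
    have h7 : (k + 4) ^ 2 * (k + 4) ≤ (k + 4) ^ (t + 3) := by
      rw [← pow_succ]
      exact Nat.pow_le_pow_right (by omega) (by omega)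
    nlinarith
  obtain ⟨w, hw, hw'⟩ := exists_outside S (fun c : K => S.comap (A - c • 1)) hcount
  exact ⟨u, w, pair_sum_elim hu hw hw'⟩

/-- The coordinates needed in dimension five with all eigenspaces of dimension at most two. -/
theorem exists_pair_five (h4 : 4 ≤ Fintype.card K) (hn : finrank K V = 5) {A : End K V} (hA : Gen A)
    (hdA : LinearMap.det A ≠ 0) (hk2 : ∀ c : K, finrank K (LinearMap.ker (A - c • 1)) ≤ 2) :
    ∃ u w : V, LinearIndependent K ![u, w, A u, A w] ∧
      ∀ c : K, ¬ LinearMap.range (A - c • 1) ≤ Submodule.span K (Set.range ![u, w, A u, A w]) := by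
  classical
  obtain ⟨u, hu, hu'⟩ := exists_first h4 (by omega) hA hdA
  set S := Submodule.span K (Set.range ![u, A u])
  have hS : finrank K S = 2 := (finrank_span_eq_card hu).trans (by simp)
  let big : Finset K := Finset.univ.filter fun c => finrank K (LinearMap.ker (A - c • 1)) = 2
  have hbig : big.card ≤ 2 := by
    by_contra h
    obtain ⟨a, b, c, ha, hb, hc, hab, hac, hbc⟩ := Finset.two_lt_card_iff.1 (lt_of_not_ge h)
    simp only [big, Finset.mem_filter, Finset.mem_univ, true_and] at ha hb hc
    have := three_ker_le A hab hac hbc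
    omega
  let P : K ⊕ big → Submodule K V := Sum.elim (fun c => S.comap (A - c • 1))
    (fun c => S ⊔ LinearMap.range (A - (c : K) • 1))
  have hsup : ∀ c : K, finrank K (LinearMap.ker (A - c • 1)) = 2 →
      finrank K (S ⊔ LinearMap.range (A - c • 1) : Submodule K V) = 4 := by
    intro c hc
    have h1 := rank_add_ker A c
    have h2 := Submodule.finrank_sup_add_finrank_inf_eq S (LinearMap.range (A - c • 1))
    have hmem : (A - c • 1) u ∈ S ⊓ LinearMap.range (A - c • 1) := by
      refine ⟨?_, LinearMap.mem_range_self _ _⟩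
      simp only [LinearMap.sub_apply, LinearMap.smul_apply, Module.End.one_apply]
      exact S.sub_mem (Submodule.subset_span ⟨1, rfl⟩) (S.smul_mem _ (Submodule.subset_span ⟨0, rfl⟩))
    have hne : (A - c • 1) u ≠ 0 := by
      have := (pair_indep_iff (by simpa using hu.ne_zero 0)).1 hu c
      simpa [sub_eq_zero] using this
    have hpos : finrank K (S ⊓ LinearMap.range (A - c • 1) : Submodule K V) ≠ 0 := fun h0 => hne (by
      rw [Submodule.finrank_eq_zero.1 h0] at hmem; simpa using hmem)
    have hlt : S ⊓ LinearMap.range (A - c • 1) < S := by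
      refine lt_of_le_of_ne inf_le_left fun h => hu' c (fun hb => by rw [hb, finrank_bot] at hc; omega) ?_
      exact (h.symm ▸ (Submodule.subset_span ⟨0, rfl⟩ : u ∈ S) : u ∈ S ⊓ LinearMap.range (A - c • 1)).2
    have := Submodule.finrank_lt_finrank_of_lt hlt
    omega
  have hcount : Nat.card S + ∑ i, Nat.card (P i) < Fintype.card K ^ finrank K V := by
    rw [Fintype.sum_sum_type, ← Finset.add_sum_erase _ _ (Finset.mem_univ (0 : K))]
    simp only [P, Sum.elim_inl, Sum.elim_inr]
    have h0 : Nat.card (S.comap (A - (0 : K) • 1)) ≤ Fintype.card K ^ 2 := card_le_pow (by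
      refine (comap_bound hu hu' 0).trans ?_
      rw [zero_smul, sub_zero, ker_eq_bot_of_det hdA, finrank_bot]
      simp)
    have h1 : ∀ c ∈ Finset.univ.erase (0 : K), Nat.card (S.comap (A - c • 1)) ≤ Fintype.card K ^ 3 :=
      fun c _ => card_le_pow ((comap_bound hu hu' c).trans (by have := hk2 c; omega))
    have h2 : ∀ c ∈ (Finset.univ : Finset big), Nat.card (S ⊔ LinearMap.range (A - (c : K) • 1) : Submodule K V) ≤
        Fintype.card K ^ 4 := fun c _ => card_le_pow (hsup c (Finset.mem_filter.1 c.2).2).le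
    have h3 := Finset.sum_le_card_nsmul _ _ _ h1
    have h5 := Finset.sum_le_card_nsmul _ _ _ h2
    rw [Finset.card_erase_of_mem (Finset.mem_univ _), Finset.card_univ, smul_eq_mul] at h3
    rw [Finset.card_univ, Fintype.card_coe, smul_eq_mul] at h5
    have h6 : Nat.card S ≤ Fintype.card K ^ 2 := card_le_pow hS.le
    have h7 : big.card * Fintype.card K ^ 4 ≤ 2 * Fintype.card K ^ 4 := Nat.mul_le_mul_right _ hbig
    obtain ⟨k, hk⟩ : ∃ k, Fintype.card K = k + 4 := ⟨Fintype.card K - 4, by omega⟩
    rw [hk, show k + 4 - 1 = k + 3 by omega] at h3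
    rw [hk] at h0 h5 h6 h7
    rw [hk, hn]
    rw [pow_succ _ 4, pow_succ _ 3, pow_succ _ 2]
    rw [pow_succ _ 3, pow_succ _ 2] at h5 h7
    rw [pow_succ _ 2] at h3
    have hQ := pow_pos (show 0 < k + 4 by omega) 2
    generalize (k + 4) ^ 2 = Q at *
    nlinarith [Nat.zero_le (k * Q), Nat.zero_le (k * k * Q), Nat.zero_le (k * k * k * Q)]
  obtain ⟨w, hw, hwP⟩ := exists_outside S P hcount
  have hind := pair_sum_elim hu hw fun c => hwP (Sum.inl c)
  refine ⟨u, w, hind, fun c hc => ?_⟩
  set S' := Submodule.span K (Set.range ![u, w, A u, A w])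
  have hS' : finrank K S' = 4 := (finrank_span_eq_card hind).trans (by simp)
  have h1 := rank_add_ker A c
  have h2 := Submodule.finrank_mono hc
  have h3 := hk2 c
  rcases (show finrank K (LinearMap.ker (A - c • 1)) = 1 ∨ finrank K (LinearMap.ker (A - c • 1)) = 2 by omega) with h | h
  · have heq : LinearMap.range (A - c • 1) = S' := Submodule.eq_of_le_of_finrank_le hc (by omega)
    exact hu' c (fun hb => by rw [hb, finrank_bot] at h; omega) (heq ▸ Submodule.subset_span ⟨0, rfl⟩)
  · have hle : S ⊔ LinearMap.range (A - c • 1) ≤ S' := by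
      refine sup_le (Submodule.span_le.2 (Set.range_subset_iff.2 fun i => ?_)) hc
      fin_cases i
      exacts [Submodule.subset_span ⟨0, rfl⟩, Submodule.subset_span ⟨2, rfl⟩]
    have heq : S ⊔ LinearMap.range (A - c • 1) = S' :=
      Submodule.eq_of_le_of_finrank_le hle (by rw [hS', hsup c h])
    exact hwP (Sum.inr ⟨c, Finset.mem_filter.2 ⟨Finset.mem_univ _, h⟩⟩) (by
      show w ∈ S ⊔ LinearMap.range (A - c • 1)
      exact heq ▸ Submodule.subset_span ⟨1, rfl⟩)

theorem sum_elim_pair {A : End K V} {u w : V} (h : LinearIndependent K ![u, w, A u, A w]) :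
    LinearIndependent K (Sum.elim ![u, w] fun i => A (![u, w] i)) ∧
      Submodule.span K (Set.range (Sum.elim ![u, w] fun i => A (![u, w] i))) =
        Submodule.span K (Set.range ![u, w, A u, A w]) := by
  have heq : (Sum.elim ![u, w] fun i => A (![u, w] i)) =
      ![u, w, A u, A w] ∘ (finSumFinEquiv : Fin 2 ⊕ Fin 2 ≃ Fin 4) := by
    funext i
    rcases i with i | i <;> fin_cases i <;> rfl
  rw [heq, Set.range_comp, Equiv.range_eq_univ, Set.image_univ]
  exact ⟨h.comp _ (Equiv.injective _), rfl⟩

/-- A scalar from a class of type pairs. -/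
theorem scalarProd_baseProp {A : End K V} (hbase : BaseProp A) (hNS : NS A) (hdA : LinearMap.det A = 1)
    (hn : 4 ≤ finrank K V) : ScalarProd A (finrank K V) := by
  by_cases h5 : 4 < finrank K V
  · obtain ⟨L, hL, hLc, hLp⟩ := sprod_of_baseProp hbase hNS (hdA ▸ one_ne_zero) hn (finrank K V) hn 1
      (by simp [hdA]) (Or.inl h5)
    exact ⟨L, 1, hL, hLc, by rw [hLp, one_smul]⟩
  obtain ⟨p, hp, hdeg, hc, htwo, hrec⟩ := hbase
  have hd : finrank K V = 4 := by omega
  have := Semisimple.finite_adjoinRoot hp.1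
  let e : AdjoinRoot p ≃ₗ[K] V :=
    LinearEquiv.ofFinrankEq _ _ ((Semisimple.finrank_adjoinRoot hp.1).trans hdeg)
  obtain ⟨x, hxdef⟩ : ∃ x, x = e.conj (Semisimple.rootMul p) := ⟨_, rfl⟩
  have hx : CycTy x p := hxdef ▸ (cycTy_rootMul p hp.1).of_sim (sim_conj e _)
  have hdx : LinearMap.det x ≠ 0 := by
    rw [hx.det_eq]; exact mul_ne_zero (pow_ne_zero _ (neg_ne_zero.2 one_ne_zero)) hp.2.2.2.1
  obtain ⟨xe, hxe⟩ := exists_equiv_of_det hdx
  have hxy : x * (xe.symm : End K V) = 1 := LinearMap.ext fun z => by simp [Module.End.mul_apply, ← hxe]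
  have hy := hrec hd hdA V x _ hx hxy
  obtain ⟨a, b, ha, hb, hab⟩ := htwo x hx
  obtain ⟨a', b', ha', hb', hab'⟩ := htwo _ hy
  refine ⟨[a, b, a', b'], 1, by rw [hd]; rfl, by simp [ha, hb, ha', hb'], ?_⟩
  rw [one_smul, ← hxy, hab, hab']
  simp [mul_assoc]

/-- Some scalar is a product of `n` conjugates. -/
theorem scalarProd_gen (h4 : 4 ≤ Fintype.card K) {n : ℕ} (hd : finrank K V = n) (hn : 3 ≤ n) {A : End K V}
    (hA : Gen A) (hdA : LinearMap.det A = 1) : ScalarProd A n := by
  classical
  have hdA0 : LinearMap.det A ≠ 0 := hdA ▸ one_ne_zero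
  subst hd
  by_cases h3 : finrank K V = 3
  · rw [h3]; exact scalarProd_three h4 h3 hA hdA
  have hn4 : 4 ≤ finrank K V := by omega
  by_cases hquad : ∃ a b : K, (A - a • 1) * (A - b • 1) = 0 ∧ (a ≠ b ∨ finrank K V ≤ 6)
  · obtain ⟨a, b, hab, h⟩ := hquad
    by_cases hne : a = b
    · subst hne
      have ha : a ≠ 0 := by
        rintro rfl
        rw [zero_smul, sub_zero] at hab
        have h0 := congrArg LinearMap.det hab
        have : Nontrivial V := Module.nontrivial_of_finrank_pos (R := K) (by omega)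
        rw [map_mul, hdA, LinearMap.det_zero, zero_pow (by omega), mul_one] at h0
        exact one_ne_zero h0
      have h6 := h.resolve_left (fun h => h rfl)
      exact scalarProd_sq_zero h4 (by omega) ha hab
    · exact scalarProd_two_eig hne hab hdA
  push Not at hquad
  by_cases hlow : LowMult A
  · exact scalarProd_baseProp (baseProp h4 hlow hdA0 hn4) hA.ns hdA hn4
  have hker : ∀ c : K, finrank K (LinearMap.ker (A - c • 1)) + 2 ≤ finrank K V := fun c => by
    have := rank_add_ker A c
    have := hA c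
    omega
  by_cases h4' : finrank K V = 4
  · obtain ⟨u, w, huw⟩ := exists_pair h4 hn4 hA hdA0
    obtain ⟨hu, -⟩ := sum_elim_pair huw
    refine scalarProd_baseProp (baseProp_of_good h4 hdA0 hn4 ![u, w] hu (by omega) (fun a b h => ?_)
      (fun h => by omega)) hA.ns hdA hn4
    have := (hquad a b h).2
    omega
  by_cases h5 : finrank K V = 5 ∧ ∀ c : K, finrank K (LinearMap.ker (A - c • 1)) ≤ 2
  · obtain ⟨u, w, huw, hrob⟩ := exists_pair_five h4 h5.1 hA hdA0 h5.2
    obtain ⟨hu, hspan⟩ := sum_elim_pair huw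
    refine scalarProd_baseProp (baseProp_of_good h4 hdA0 hn4 ![u, w] hu (by omega) (fun a b h => ?_)
      (fun _ c h => hrob c (hspan ▸ h))) hA.ns hdA hn4
    have := (hquad a b h).2
    omega
  -- a large eigenspace
  obtain ⟨lam, -, hlam⟩ := Finset.exists_max_image (Finset.univ : Finset K)
    (fun c => finrank K (LinearMap.ker (A - c • 1))) Finset.univ_nonempty
  have hlam' : ∀ c : K, finrank K (LinearMap.ker (A - c • 1)) ≤ finrank K (LinearMap.ker (A - lam • 1)) :=
    fun c => hlam c (Finset.mem_univ c)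
  obtain ⟨k, hk⟩ : ∃ k, k = finrank K (LinearMap.ker (A - lam • 1)) := ⟨_, rfl⟩
  have hk2 : 2 ≤ k := by
    simp only [LowMult, not_forall, not_le] at hlow
    obtain ⟨c, hc⟩ := hlow
    have := hlam' c
    omega
  have hk3 : finrank K V = 5 → 3 ≤ k := fun h => by
    by_contra hlt
    exact h5 ⟨h, fun c => by have := hlam' c; omega⟩
  have hrk := rank_add_ker A lam
  set R := LinearMap.range (A - lam • 1) with hR
  set E := LinearMap.ker (A - lam • 1) with hE
  have hother : ∀ κ : K, κ ≠ lam → 4 ≤ finrank K (LinearMap.range (A - κ • 1)) := by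
    intro κ hκ
    by_contra hlt
    have h1 := rank_add_ker A κ
    have h2 : finrank K (LinearMap.ker (A - κ • 1)) ≤ finrank K E := hlam' κ
    have h3 : finrank K (LinearMap.ker (A - κ • 1)) + finrank K E ≤ finrank K V := two_ker_le A hκ
    refine hκ ((hquad lam κ ?_).1).symm
    have htop : E ⊔ LinearMap.ker (A - κ • 1) = ⊤ := by
      apply Submodule.eq_top_of_finrank_eq
      have := Submodule.finrank_sup_add_finrank_inf_eq E (LinearMap.ker (A - κ • 1))
      rw [ker_disjoint hκ.symm, finrank_bot] at this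
      omega
    refine LinearMap.ext fun z => ?_
    obtain ⟨x, hx, y, hy, rfl⟩ := Submodule.mem_sup.1 (htop ▸ Submodule.mem_top (x := z) : z ∈ E ⊔ _)
    rw [LinearMap.mem_ker] at hy
    simp [hE, sub_eq_zero] at hx
    simp [Module.End.mul_apply, map_add, map_sub, map_smul, hx, sub_eq_zero.1 hy]
  have hi1 := Submodule.finrank_mono (inf_le_left : E ⊓ R ≤ E)
  have hi2 := Submodule.finrank_mono (inf_le_right : E ⊓ R ≤ R)
  -- a plane of eigenvectors
  obtain ⟨f, hf, hfE, hfR⟩ : ∃ f : Fin 2 → V, LinearIndependent K f ∧ (∀ i, f i ∈ E) ∧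
      finrank K (R ⊓ Submodule.span K (Set.range f) : Submodule K V) + 2 ≤ finrank K R := by
    have hle2 : ∀ f : Fin 2 → V, LinearIndependent K f →
        finrank K (R ⊓ Submodule.span K (Set.range f) : Submodule K V) ≤ 2 := fun f hf =>
      (Submodule.finrank_mono inf_le_right).trans ((finrank_span_eq_card hf).le.trans (by simp))
    have hpick : ∀ T : Submodule K V, T ≤ E → 2 ≤ finrank K T →
        ∃ f : Fin 2 → V, LinearIndependent K f ∧ (∀ i, f i ∈ T) := fun T _ hT => by
      refine ⟨fun i => (Module.finBasis K T (Fin.castLE hT i) : V), ?_, fun i => (Module.finBasis K T _).2⟩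
      exact ((Module.finBasis K T).linearIndependent.comp _ (Fin.castLE_injective hT)).map' T.subtype
        (Submodule.ker_subtype T)
    obtain ⟨C', hC'⟩ := Submodule.exists_isCompl (E ⊓ R)
    set C := C' ⊓ E with hC
    have hCR : C ⊓ R = ⊥ := by
      rw [← le_bot_iff, hC, inf_assoc, ← hC'.disjoint.eq_bot, inf_comm (E ⊓ R)]
    have hCd : k ≤ finrank K C + finrank K (E ⊓ R : Submodule K V) := by
      have h1 := Submodule.finrank_sup_add_finrank_inf_eq C' E
      have h2 := Submodule.finrank_le (C' ⊔ E)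
      have h3 := Submodule.finrank_add_eq_of_isCompl hC'
      rw [← hC] at h1
      omega
    by_cases h2 : 2 ≤ finrank K C
    · obtain ⟨f, hf, hfC⟩ := hpick C inf_le_right h2
      refine ⟨f, hf, fun i => (hfC i).2, ?_⟩
      have h0 : R ⊓ Submodule.span K (Set.range f) = ⊥ := by
        rw [← le_bot_iff, ← hCR, inf_comm C]
        exact inf_le_inf_left _ (Submodule.span_le.2 (Set.range_subset_iff.2 hfC))
      rw [h0, finrank_bot, zero_add]
      exact hA lam
    · by_cases hr4 : 4 ≤ finrank K R
      · obtain ⟨f, hf, hfE⟩ := hpick E le_rfl (hk ▸ hk2)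
        exact ⟨f, hf, hfE, by have := hle2 f hf; omega⟩
      by_cases hlt : finrank K (E ⊓ R : Submodule K V) < k ∧ finrank K R = 3
      · obtain ⟨v, hvE, hvR⟩ : ∃ v, v ∈ E ∧ v ∉ R := by
          by_contra hne
          push Not at hne
          rw [inf_eq_left.2 hne, ← hk] at hlt
          omega
        have hv0 : v ≠ 0 := fun h => hvR (h ▸ R.zero_mem)
        obtain ⟨w, hwE, hw⟩ : ∃ w, w ∈ E ∧ w ∉ K ∙ v := by
          by_contra hne
          push Not at hne
          have := Submodule.finrank_mono (show E ≤ K ∙ v from hne)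
          rw [finrank_span_singleton hv0] at this
          omega
        have hind : LinearIndependent K ![v, w] := (pair_indep_iff hv0).2 fun c hc =>
          hw (hc ▸ Submodule.smul_mem _ _ (Submodule.mem_span_singleton_self v))
        refine ⟨![v, w], hind, fun i => by fin_cases i <;> assumption, ?_⟩
        have hlt' : R ⊓ Submodule.span K (Set.range ![v, w]) < Submodule.span K (Set.range ![v, w]) := by
          refine lt_of_le_of_ne inf_le_right fun h => hvR ?_
          exact (h.symm ▸ (Submodule.subset_span ⟨0, rfl⟩ : v ∈ Submodule.span K (Set.range ![v, w])) :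
            v ∈ R ⊓ Submodule.span K (Set.range ![v, w])).1
        have h1 := Submodule.finrank_lt_finrank_of_lt hlt'
        rw [finrank_span_eq_card hind, Fintype.card_fin] at h1
        omega
      exfalso
      have hRE : R ≤ E := by
        have h0 : E ⊓ R = R := Submodule.eq_of_le_of_finrank_le inf_le_right (by
          have := hA lam
          rw [← hR] at this
          rcases (show finrank K R = 2 ∨ finrank K R = 3 by omega) with h | h
          · omega
          · simp only [h, and_true, not_lt] at hlt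
            omega)
        exact inf_eq_right.1 h0
      have hsq : (A - lam • 1) * (A - lam • 1) = 0 := LinearMap.ext fun z => by
        have := hRE (LinearMap.mem_range_self (A - lam • 1) z)
        rw [hE, LinearMap.mem_ker] at this
        exact this
      have h6 := (hquad lam lam hsq).2
      omega
  obtain ⟨u, w, huw⟩ := exists_pair h4 hn4 hA hdA0
  refine scalarProd_plane h4 rfl (by omega) hdA hf (fun i => ?_) hother hfR huw
  have := hfE i
  simp [hE, sub_eq_zero] at this
  exact this

/-- The covering theorem for endomorphisms. -/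
theorem cover (h4 : 4 ≤ Fintype.card K) {n : ℕ} (hd : finrank K V = n) (hn : 3 ≤ n) {A : End K V} (hA : NS A)
    (hdA : LinearMap.det A = 1) (g : End K V) (hdg : LinearMap.det g = 1) :
    ∃ (L : List (End K V)) (ζ : K), L.length = n ∧ (∀ x ∈ L, SConj A x) ∧ L.prod = ζ • g := by
  by_cases hg : NS g
  · have hdet : LinearMap.det g = LinearMap.det A ^ n := by rw [hdg, hdA, one_pow]
    by_cases hyp : Gen g ∨ Gen A
    · obtain ⟨L, hL, hLc, hLp, -⟩ := main h4 n hn V A g hd hA (hdA ▸ one_ne_zero) hg hdet hyp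
      exact ⟨L, 1, hL, hLc, by rw [hLp, one_smul]⟩
    · push Not at hyp
      obtain ⟨L, hL, hLc, hLp⟩ := (refl_case h4 hd hn hA hdA hyp.2).2 g hg hyp.1 hdg
      exact ⟨L, 1, hL, hLc, by rw [hLp, one_smul]⟩
  · obtain ⟨η, rfl⟩ : ∃ η, g = η • 1 := by simpa [NS] using hg
    have hη : η ≠ 0 := fun h => by
      have : Nontrivial V := Module.nontrivial_of_finrank_pos (R := K) (by omega)
      rw [h, zero_smul, LinearMap.det_zero, hd, zero_pow (by omega)] at hdg
      exact zero_ne_one hdg
    obtain ⟨L, ζ, hL, hLc, hLp⟩ : ScalarProd A n := by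
      by_cases hG : Gen A
      · exact scalarProd_gen h4 hd hn hG hdA
      · exact (refl_case h4 hd hn hA hdA hG).1
    exact ⟨L, ζ / η, hL, hLc, by rw [hLp, smul_smul, div_mul_cancel₀ _ hη]⟩

end Cfsg.Agent.LevCover
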